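import Cfsg.Agent.OddHalf.D7F4Ex.Loc
import Cfsg.Agent.KFacts.F4Chart
import Cfsg.Agent.Mrg.Omega.HOneEnd.FFourDefs

-- merged: Cfsg.Agent.Mrg.Omega.All.F4K.Loc
section

section


/-!
# The parabolic `P_s = Q_s L_s` of `F₄(q)`, ALL even `q` (helper866)

`LocA` = `Loc` of helper250's `OddHalf/D7F4Ex/Loc.lean` without the field `big` (`q > 2`); the basic theorems again.
-/

set_option autoImplicit false
set_option linter.unusedSectionVars false

namespace Cfsg.Agent.Omega.All.F4K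

open Subgroup
open Cfsg.Agent.OddHalf.D7F4Ex (J Sp ng fl op thd wt ws ng_ng ng_ne op_op fl_fl fl_self fl_ne)
open Cfsg.Agent.OddHalf.D7F4Ex.Loc (gV Xs Vs Qs Ps zero_of_add self_of_add inv_of_add X_le_V V_le_Q Q_le_P v_mem z_mem
  c_mem l_mem th_mem)

variable {F : Type*} [Field F] {G : Type*} [Group G]

/-- The relations. -/
structure LocA (x0 : F → G) (v : J → F → G) (z : Sp → F → G) (c : J → F → G) (l : J → J → F → G)
    (th : (Fin 3 → Fˣ) →* G) : Prop where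
  two : ∀ a : F, a + a = 0
  x0_add : ∀ a b, x0 (a + b) = x0 a * x0 b
  v_add : ∀ j a b, v j (a + b) = v j a * v j b
  z_add : ∀ i a b, z i (a + b) = z i a * z i b
  c_add : ∀ j a b, c j (a + b) = c j a * c j b
  l_add : ∀ j k a b, j.1 ≠ k.1 → l j k (a + b) = l j k a * l j k b
  l_symm : ∀ j k a, l j k a = l k j a
  x0_inj : ∀ a, x0 a = 1 → a = 0
  xv : ∀ a j b, x0 a = v j b → b = 0
  x0_v : ∀ a j b, x0 a * v j b = v j b * x0 a
  x0_z : ∀ a j b, x0 a * z j b = z j b * x0 a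
  x0_c : ∀ a j b, x0 a * c j b = c j b * x0 a
  x0_l : ∀ a j k b, j.1 ≠ k.1 → x0 a * l j k b = l j k b * x0 a
  v_v : ∀ j a k b, v j a * v k b = v k b * v j a
  v_z : ∀ j a i b, v j a * z i b = z i b * v j a
  z_z : ∀ i a j b, j ≠ op i → z i a * z j b = z j b * z i a
  z_op : ∀ i a b, z i a * z (op i) b * (z i a)⁻¹ = x0 (a * b) * z (op i) b
  c_v : ∀ k a b, c k a * v (ng k) b * (c k a)⁻¹ = x0 (a * b) * v k (a ^ 2 * b) * v (ng k) b
  c_v' : ∀ k a j b, j ≠ ng k → c k a * v j b = v j b * c k a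
  c_z : ∀ k a i b, i k.1 ≠ k.2 → c k a * z i b * (c k a)⁻¹ = z (fl i k.1) (a * b) * z i b
  c_z' : ∀ k a i b, i k.1 = k.2 → c k a * z i b = z i b * c k a
  l_v : ∀ a b s u, a.1 ≠ b.1 → l a b s * v (ng a) u * (l a b s)⁻¹ = v b (s * u) * v (ng a) u
  l_v' : ∀ a b s j u, a.1 ≠ b.1 → j ≠ ng a → j ≠ ng b → l a b s * v j u = v j u * l a b s
  l_z : ∀ a b s i u, a.1 ≠ b.1 → i a.1 ≠ a.2 → i b.1 ≠ b.2 → l a b s * z i u * (l a b s)⁻¹ =
    z (fl (fl i a.1) b.1) (s * u) * v (thd a.1 b.1, i (thd a.1 b.1)) (s * u ^ 2) * z i u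
  l_z' : ∀ a b s i u, a.1 ≠ b.1 → (i a.1 = a.2 ∨ i b.1 = b.2) → l a b s * z i u = z i u * l a b s
  l_c : ∀ a b s u, a.1 ≠ b.1 → l a b s * c (ng a) u * (l a b s)⁻¹ =
    c b (s * u) * l b (ng a) (s * u ^ 2) * c (ng a) u
  th_x0 : ∀ ν a, th ν * x0 a = x0 a * th ν
  th_v : ∀ ν j a, th ν * v j a * (th ν)⁻¹ = v j ((wt ν j : F) * a)
  th_z : ∀ ν i a, th ν * z i a * (th ν)⁻¹ = z i ((ws ν i : F) * a)
  th_c : ∀ ν j a, th ν * c j a * (th ν)⁻¹ = c j ((wt ν j : F) * a)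
  th_l : ∀ ν j k a, j.1 ≠ k.1 → th ν * l j k a * (th ν)⁻¹ = l j k ((wt ν j : F) * (wt ν k : F) * a)

namespace LocA

variable {x0 : F → G} {v : J → F → G} {z : Sp → F → G} {c : J → F → G} {l : J → J → F → G}
  {th : (Fin 3 → Fˣ) →* G}

section basic

variable (L : LocA x0 v z c l th)

include L

theorem mem_X {g : G} : g ∈ Xs x0 ↔ ∃ a, g = x0 a := by
  constructor
  · intro h
    induction h using closure_induction with
    | mem x hx => obtain ⟨a, rfl⟩ := hx; exact ⟨a, rfl⟩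
    | one => exact ⟨0, (zero_of_add L.x0_add).symm⟩
    | mul x y _ _ hx hy =>
      obtain ⟨a, rfl⟩ := hx
      obtain ⟨b, rfl⟩ := hy
      exact ⟨a + b, (L.x0_add a b).symm⟩
    | inv x _ hx =>
      obtain ⟨a, rfl⟩ := hx
      exact ⟨a, inv_of_add L.two L.x0_add a⟩
  · rintro ⟨a, rfl⟩
    exact subset_closure ⟨a, rfl⟩

theorem x0_mem (a : F) : x0 a ∈ Xs x0 := subset_closure ⟨a, rfl⟩

/-- `X` is central in `P`. -/
theorem XP {x p : G} (hx : x ∈ Xs x0) (hp : p ∈ Ps x0 v z c l th) : x * p = p * x := by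
  obtain ⟨a, rfl⟩ := L.mem_X.1 hx
  have hle : Ps x0 v z c l th ≤ centralizer {x0 a} := by
    rw [Ps, closure_le]
    rintro g hg
    rw [SetLike.mem_coe, mem_centralizer_singleton_iff]
    rcases hg with (⟨b, rfl⟩ | ⟨j, b, rfl⟩) | ⟨i, b, rfl⟩ | ⟨j, b, rfl⟩ | ⟨j, k, b, h, rfl⟩ | ⟨ν, rfl⟩
    · rw [← L.x0_add, ← L.x0_add, add_comm]
    · rw [L.x0_v]
    · rw [L.x0_z]
    · rw [L.x0_c]
    · rw [L.x0_l _ _ _ _ h]
    · rw [L.th_x0]
  exact (mem_centralizer_singleton_iff.1 (hle hp)).symm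

/-- `V` is central in `Q`. -/
theorem VQ {y q : G} (hy : y ∈ Vs x0 v) (hq : q ∈ Qs x0 v z) : y * q = q * y := by
  have key : ∀ g ∈ gV x0 v, Qs x0 v z ≤ centralizer {g} := by
    intro g hg
    rw [Qs, closure_le]
    intro r hr
    rw [SetLike.mem_coe, mem_centralizer_singleton_iff]
    rcases hg with ⟨a, rfl⟩ | ⟨j, a, rfl⟩
    · rcases hr with (⟨b, rfl⟩ | ⟨k, b, rfl⟩) | ⟨i, b, rfl⟩
      · rw [← L.x0_add, ← L.x0_add, add_comm]
      · rw [L.x0_v]
      · rw [L.x0_z]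
    · rcases hr with (⟨b, rfl⟩ | ⟨k, b, rfl⟩) | ⟨i, b, rfl⟩
      · rw [L.x0_v]
      · rw [L.v_v]
      · rw [L.v_z]
  have hle : Vs x0 v ≤ centralizer {q} := by
    rw [Vs, closure_le]
    intro g hg
    rw [SetLike.mem_coe, mem_centralizer_singleton_iff]
    exact (mem_centralizer_singleton_iff.1 (key g hg hq)).symm
  exact mem_centralizer_singleton_iff.1 (hle hy)

theorem VV {y q : G} (hy : y ∈ Vs x0 v) (hq : q ∈ Vs x0 v) : y * q = q * y := L.VQ (z := z) hy (V_le_Q hq)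

theorem V2 {y : G} (hy : y ∈ Vs x0 v) : y * y = 1 := by
  induction hy using closure_induction with
  | mem x hx =>
    rcases hx with ⟨a, rfl⟩ | ⟨j, a, rfl⟩
    · exact self_of_add L.two L.x0_add a
    · exact self_of_add L.two (L.v_add j) a
  | one => rw [mul_one]
  | mul x y hx hy ih1 ih2 =>
    have h1 := L.VV hx hy
    calc x * y * (x * y) = x * (y * x) * y := by group
      _ = (x * x) * (y * y) := by rw [← h1]; group
      _ = 1 := by rw [ih1, ih2, one_mul]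
  | inv x _ ih => rw [← mul_inv_rev, ih, inv_one]

/-- commutators of elements of `Q` lie in `X` -/
theorem z_conj (i : Sp) (a : F) (j : Sp) (b : F) :
    z i a * z j b * (z i a)⁻¹ = x0 (if j = op i then a * b else 0) * z j b := by
  split_ifs with h
  · rw [h, L.z_op]
  · rw [zero_of_add L.x0_add, one_mul, L.z_z i a j b h, mul_inv_cancel_right]

/-- the homomorphism `q ↦ [q, z i b]` -/
theorem exists_beta {q : G} (hq : q ∈ Qs x0 v z) :
    ∃ a : Sp → F, ∀ i b, q * z i b * q⁻¹ = x0 (a (op i) * b) * z i b := by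
  induction hq using closure_induction with
  | mem x hx =>
    rcases hx with (⟨a, rfl⟩ | ⟨j, a, rfl⟩) | ⟨j, a, rfl⟩
    · exact ⟨0, fun i b => by
        rw [Pi.zero_apply, zero_mul, zero_of_add L.x0_add, one_mul, L.x0_z, mul_inv_cancel_right]⟩
    · exact ⟨0, fun i b => by
        rw [Pi.zero_apply, zero_mul, zero_of_add L.x0_add, one_mul, L.v_z, mul_inv_cancel_right]⟩
    · refine ⟨Pi.single j a, fun i b => ?_⟩
      rw [L.z_conj]
      by_cases h : i = op j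
      · rw [if_pos h, h, op_op, Pi.single_eq_same]
      · rw [if_neg h, Pi.single_eq_of_ne, zero_mul]
        intro h2; apply h; rw [← h2, op_op]
  | one => exact ⟨0, fun i b => by
      rw [Pi.zero_apply, zero_mul, zero_of_add L.x0_add, one_mul, inv_one, mul_one]⟩
  | mul x y hx hy ih1 ih2 =>
    obtain ⟨a, ha⟩ := ih1
    obtain ⟨a', ha'⟩ := ih2
    refine ⟨a + a', fun i b => ?_⟩
    have h1 := L.XP (c := c) (l := l) (th := th) (L.x0_mem (a' (op i) * b)) (Q_le_P hx)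
    calc x * y * z i b * (x * y)⁻¹ = x * (y * z i b * y⁻¹) * x⁻¹ := by group
      _ = (x * x0 (a' (op i) * b)) * z i b * x⁻¹ := by rw [ha']; group
      _ = x0 (a' (op i) * b) * (x * z i b * x⁻¹) := by rw [← h1]; group
      _ = x0 ((a + a') (op i) * b) * z i b := by
        rw [ha, ← mul_assoc, ← L.x0_add, Pi.add_apply, add_mul, add_comm]
  | inv x hx ih =>
    obtain ⟨a, ha⟩ := ih
    refine ⟨a, fun i b => ?_⟩
    have h1 := L.XP (c := c) (l := l) (th := th) (L.x0_mem (a (op i) * b)) (Q_le_P (inv_mem hx))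
    have h2 := ha i b
    have h3 : z i b = x⁻¹ * (x0 (a (op i) * b) * z i b) * x := by rw [← h2]; group
    have h4 : x⁻¹ * z i b * x = (x0 (a (op i) * b))⁻¹ * z i b := by
      calc x⁻¹ * z i b * x = (x0 (a (op i) * b))⁻¹ * (x0 (a (op i) * b) * x⁻¹) * z i b * x := by group
        _ = (x0 (a (op i) * b))⁻¹ * (x⁻¹ * (x0 (a (op i) * b) * z i b) * x) := by rw [h1]; group
        _ = _ := by rw [← h3]
    rw [inv_inv, h4, inv_of_add L.two L.x0_add]

theorem beta_unique {q : G} {a a' : Sp → F} (h : ∀ i b, q * z i b * q⁻¹ = x0 (a (op i) * b) * z i b)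
    (h' : ∀ i b, q * z i b * q⁻¹ = x0 (a' (op i) * b) * z i b) : a = a' := by
  funext i
  have h1 := mul_right_cancel ((h (op i) 1).symm.trans (h' (op i) 1))
  rw [op_op, mul_one, mul_one] at h1
  have h2 : x0 (a i + a' i) = 1 := by rw [L.x0_add, h1, self_of_add L.two L.x0_add]
  have h3 := L.x0_inj _ h2
  have h4 := L.two (a' i)
  calc a i = (a i + a' i) + a' i := by rw [add_assoc, h4, add_zero]
    _ = a' i := by rw [h3, zero_add]

theorem QQ {y q : G} (hy : y ∈ Qs x0 v z) (hq : q ∈ Qs x0 v z) : y * q * y⁻¹ * q⁻¹ ∈ Xs x0 := by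
  obtain ⟨a, ha⟩ := L.exists_beta hy
  induction hq using closure_induction with
  | mem x hx =>
    rcases hx with hx | ⟨j, b, rfl⟩
    · have hx' : x ∈ Vs x0 v := subset_closure hx
      have h1 := L.VQ hx' hy
      rw [← h1, mul_inv_cancel_right, mul_inv_cancel]; exact one_mem _
    · rw [ha, mul_inv_cancel_right]; exact L.x0_mem _
  | one => rw [mul_one, mul_inv_cancel, inv_one, mul_one]; exact one_mem _
  | mul x w hx hw ih1 ih2 =>
    have h1 := L.XP (c := c) (l := l) (th := th) ih2 (Q_le_P (inv_mem hx))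
    have e : y * (x * w) * y⁻¹ * (x * w)⁻¹ = y * x * y⁻¹ * ((y * w * y⁻¹ * w⁻¹) * x⁻¹) := by group
    rw [e, h1, ← mul_assoc]
    exact mul_mem ih1 ih2
  | inv x hx ih =>
    have h1 := L.XP (c := c) (l := l) (th := th) (inv_mem ih) (Q_le_P hx)
    have e : y * x⁻¹ * y⁻¹ * x⁻¹⁻¹ = x⁻¹ * ((y * x * y⁻¹ * x⁻¹)⁻¹ * x) := by group
    rw [e, h1, inv_mul_cancel_left]
    exact inv_mem ih

theorem Q2 {q : G} (hq : q ∈ Qs x0 v z) : q * q ∈ Vs x0 v := by
  induction hq using closure_induction with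
  | mem x hx =>
    rcases hx with hx | ⟨j, b, rfl⟩
    · have hx' : x ∈ Vs x0 v := subset_closure hx
      exact mul_mem hx' hx'
    · rw [self_of_add L.two (L.z_add j)]; exact one_mem _
  | one => rw [mul_one]; exact one_mem _
  | mul x w hx hw ih1 ih2 =>
    have h1 := X_le_V (v := v) (L.QQ hw hx)
    have h2 := L.VQ ih2 (mul_mem hw hx)
    have e : x * w * (x * w) = (x * x) * (x⁻¹ * (w * x * w⁻¹ * x⁻¹) * x) * (w * w) := by group
    rw [e, mul_assoc x⁻¹, L.VQ h1 hx, inv_mul_cancel_left]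
    exact mul_mem (mul_mem ih1 h1) ih2
  | inv x hx ih => rw [← mul_inv_rev]; exact inv_mem ih

/-! ### `P` normalises `V` and `Q` -/

theorem th_inv (ν : Fin 3 → Fˣ) : (th ν)⁻¹ = th ν⁻¹ := (map_inv th ν).symm

theorem gen_inv {g : G} (hg : g ∈ gV x0 v ∨ (∃ i a, g = z i a) ∨ (∃ j a, g = c j a) ∨
    (∃ j k a, j.1 ≠ k.1 ∧ g = l j k a) ∨ ∃ ν, g = th ν) :
    g⁻¹ ∈ gV x0 v ∨ (∃ i a, g⁻¹ = z i a) ∨ (∃ j a, g⁻¹ = c j a) ∨
    (∃ j k a, j.1 ≠ k.1 ∧ g⁻¹ = l j k a) ∨ ∃ ν, g⁻¹ = th ν := by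
  rcases hg with (⟨b, rfl⟩ | ⟨j, b, rfl⟩) | ⟨i, b, rfl⟩ | ⟨j, b, rfl⟩ | ⟨j, k, b, h, rfl⟩ | ⟨ν, rfl⟩
  · exact Or.inl (Or.inl ⟨b, inv_of_add L.two L.x0_add b⟩)
  · exact Or.inl (Or.inr ⟨j, b, inv_of_add L.two (L.v_add j) b⟩)
  · exact Or.inr (Or.inl ⟨i, b, inv_of_add L.two (L.z_add i) b⟩)
  · exact Or.inr (Or.inr (Or.inl ⟨j, b, inv_of_add L.two (L.c_add j) b⟩))
  · exact Or.inr (Or.inr (Or.inr (Or.inl ⟨j, k, b, h, inv_of_add L.two (fun a b => L.l_add j k a b h) b⟩)))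
  · exact Or.inr (Or.inr (Or.inr (Or.inr ⟨ν⁻¹, L.th_inv ν⟩)))

/-- a subgroup is normalised by `P` as soon as it is by the generators -/
theorem P_norm {R : Subgroup G} (h : ∀ g, (g ∈ gV x0 v ∨ (∃ i a, g = z i a) ∨ (∃ j a, g = c j a) ∨
    (∃ j k a, j.1 ≠ k.1 ∧ g = l j k a) ∨ ∃ ν, g = th ν) → ∀ r ∈ R, g * r * g⁻¹ ∈ R) {p r : G}
    (hp : p ∈ Ps x0 v z c l th) (hr : r ∈ R) : p * r * p⁻¹ ∈ R := by
  have hle : Ps x0 v z c l th ≤ normalizer (R : Set G) := by
    rw [Ps, closure_le]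
    intro g hg
    rw [SetLike.mem_coe, mem_normalizer_iff]
    intro r
    refine ⟨fun hr => h g hg r hr, fun hr => ?_⟩
    have h1 := h g⁻¹ (L.gen_inv hg) _ hr
    have e : g⁻¹ * (g * r * g⁻¹) * g⁻¹⁻¹ = r := by group
    rwa [e] at h1
  exact (mem_normalizer_iff.1 (hle hp) r).1 hr

theorem thd_ne {a b : Fin 3} (h : a ≠ b) : thd a b ≠ a ∧ thd a b ≠ b := by
  revert a b; decide

theorem PV {p y : G} (hp : p ∈ Ps x0 v z c l th) (hy : y ∈ Vs x0 v) : p * y * p⁻¹ ∈ Vs x0 v := by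
  refine L.P_norm (fun g hg r hr => ?_) hp hy
  induction hr using closure_induction with
  | mem x hx =>
    have hx' : x ∈ Vs x0 v := subset_closure hx
    have triv : g * x = x * g → g * x * g⁻¹ ∈ Vs x0 v := fun h => by
      rw [h, mul_inv_cancel_right]; exact hx'
    rcases hg with hg | ⟨i, b, rfl⟩ | ⟨j, b, rfl⟩ | ⟨j, k, b, h, rfl⟩ | ⟨ν, rfl⟩
    · exact triv (L.VV (z := z) (subset_closure hg) hx')
    · exact triv (L.VQ hx' (z_mem i b)).symm
    · rcases hx with ⟨a, rfl⟩ | ⟨m, a, rfl⟩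
      · exact triv (L.x0_c a j b).symm
      · by_cases h : m = ng j
        · rw [h, L.c_v]
          exact mul_mem (mul_mem (X_le_V (L.x0_mem _)) (v_mem _ _)) (v_mem _ _)
        · exact triv (L.c_v' _ _ _ _ h)
    · rcases hx with ⟨a, rfl⟩ | ⟨m, a, rfl⟩
      · exact triv (L.x0_l a j k b h).symm
      · by_cases h1 : m = ng j
        · rw [h1, L.l_v _ _ _ _ h]
          exact mul_mem (v_mem _ _) (v_mem _ _)
        · by_cases h2 : m = ng k
          · rw [h2, L.l_symm, L.l_v _ _ _ _ (Ne.symm h)]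
            exact mul_mem (v_mem _ _) (v_mem _ _)
          · exact triv (L.l_v' _ _ _ _ _ h h1 h2)
    · rcases hx with ⟨a, rfl⟩ | ⟨m, a, rfl⟩
      · exact triv (L.th_x0 ν a)
      · rw [L.th_v]; exact v_mem _ _
  | one => rw [mul_one, mul_inv_cancel]; exact one_mem _
  | mul x w _ _ ih1 ih2 =>
    have e : g * (x * w) * g⁻¹ = (g * x * g⁻¹) * (g * w * g⁻¹) := by group
    rw [e]; exact mul_mem ih1 ih2
  | inv x _ ih =>
    have e : g * x⁻¹ * g⁻¹ = (g * x * g⁻¹)⁻¹ := by group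
    rw [e]; exact inv_mem ih

theorem PQ {p y : G} (hp : p ∈ Ps x0 v z c l th) (hy : y ∈ Qs x0 v z) : p * y * p⁻¹ ∈ Qs x0 v z := by
  refine L.P_norm (fun g hg r hr => ?_) hp hy
  have hgP : g ∈ Ps x0 v z c l th := subset_closure hg
  induction hr using closure_induction with
  | mem x hx =>
    have hx' : x ∈ Qs x0 v z := subset_closure hx
    have triv : g * x = x * g → g * x * g⁻¹ ∈ Qs x0 v z := fun h => by
      rw [h, mul_inv_cancel_right]; exact hx'
    rcases hx with hx | ⟨i, a, rfl⟩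
    · exact V_le_Q (L.PV hgP (subset_closure hx))
    rcases hg with hg | ⟨j, b, rfl⟩ | ⟨j, b, rfl⟩ | ⟨j, k, b, h, rfl⟩ | ⟨ν, rfl⟩
    · exact triv (L.VQ (subset_closure hg) hx')
    · exact mul_mem (mul_mem (z_mem _ _) (z_mem _ _)) (inv_mem (z_mem _ _))
    · by_cases h : i j.1 = j.2
      · exact triv (L.c_z' _ _ _ _ h)
      · rw [L.c_z _ _ _ _ h]
        exact mul_mem (z_mem _ _) (z_mem _ _)
    · by_cases h1 : i j.1 = j.2
      · exact triv (L.l_z' _ _ _ _ _ h (Or.inl h1))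
      · by_cases h2 : i k.1 = k.2
        · exact triv (L.l_z' _ _ _ _ _ h (Or.inr h2))
        · rw [L.l_z _ _ _ _ _ h h1 h2]
          exact mul_mem (mul_mem (z_mem _ _) (V_le_Q (v_mem _ _))) (z_mem _ _)
    · rw [L.th_z]; exact z_mem _ _
  | one => rw [mul_one, mul_inv_cancel]; exact one_mem _
  | mul x w _ _ ih1 ih2 =>
    have e : g * (x * w) * g⁻¹ = (g * x * g⁻¹) * (g * w * g⁻¹) := by group
    rw [e]; exact mul_mem ih1 ih2
  | inv x _ ih =>
    have e : g * x⁻¹ * g⁻¹ = (g * x * g⁻¹)⁻¹ := by group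
    rw [e]; exact inv_mem ih

end basic

end LocA

end Cfsg.Agent.Omega.All.F4K

end

section


/-!
# `P` is irreducible on `Q/V` and on `V/X`, all even `q` (helper866, copied from helper250's `D7F4Ex/Irr.lean`)
-/

set_option autoImplicit false
set_option linter.unusedSectionVars false
set_option linter.style.haveILetI false

namespace Cfsg.Agent.Omega.All.F4K.LocA

open Subgroup
open Cfsg.Agent.OddHalf.D7F4Ex (J Sp ng fl op thd wt ws ng_ng ng_ne op_op fl_fl fl_self fl_ne)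
open Cfsg.Agent.OddHalf.D7F4Ex.Loc (gV Xs Vs Qs Ps zero_of_add self_of_add inv_of_add X_le_V V_le_Q Q_le_P v_mem z_mem
  c_mem l_mem th_mem)

variable {F : Type*} [Field F] {G : Type*} [Group G] {x0 : F → G} {v : J → F → G} {z : Sp → F → G} {c : J → F → G}
  {l : J → J → F → G} {th : (Fin 3 → Fˣ) →* G}

section

variable (L : LocA x0 v z c l th)

include L

/-- `V` as a commutative group -/
@[reducible] def commV : CommGroup (Vs x0 v) :=
  { (inferInstance : Group (Vs x0 v)) with mul_comm := fun x y => Subtype.ext (L.VV (z := z) x.2 y.2) }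

/-- the product of the `v j (ω j)` -/
def vv (ω : J → F) : Vs x0 v :=
  letI := L.commV
  ∏ j, (⟨v j (ω j), v_mem j _⟩ : Vs x0 v)

theorem vv_add (ω ω' : J → F) : (L.vv (ω + ω') : G) = L.vv ω * L.vv ω' := by
  letI := L.commV
  have h : L.vv (ω + ω') = L.vv ω * L.vv ω' := by
    unfold vv
    rw [← Finset.prod_mul_distrib]
    refine Finset.prod_congr rfl fun j _ => Subtype.ext ?_
    show v j ((ω + ω') j) = v j (ω j) * v j (ω' j)
    rw [Pi.add_apply, L.v_add]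
  rw [h]; rfl

theorem vv_single (j : J) (a : F) : (L.vv (Pi.single j a) : G) = v j a := by
  letI := L.commV
  have h : L.vv (Pi.single j a) = (⟨v j a, v_mem j _⟩ : Vs x0 v) := by
    unfold vv
    rw [Finset.prod_eq_single j]
    · apply Subtype.ext
      show v j ((Pi.single j a : J → F) j) = v j a
      rw [Pi.single_eq_same]
    · intro k _ hk
      apply Subtype.ext
      show v k _ = 1
      rw [Pi.single_eq_of_ne hk, zero_of_add (L.v_add k)]
    · intro h; exact absurd (Finset.mem_univ j) h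
  rw [h]

theorem vv_zero : (L.vv 0 : G) = 1 := zero_of_add' L.vv_add
where
  zero_of_add' (h : ∀ ω ω' : J → F, (L.vv (ω + ω') : G) = L.vv ω * L.vv ω') : (L.vv 0 : G) = 1 := by
    have h1 := h 0 0
    rw [add_zero] at h1
    exact (mul_eq_left.1 h1.symm)

/-- Coordinates of an element of `V`. -/
structure CoV (g : G) (r : F) (ω : J → F) : Prop where
  eq : g = x0 r * L.vv ω
  act : ∀ k u, c k u * g * (c k u)⁻¹ = x0 (u * ω (ng k)) * v k (u ^ 2 * ω (ng k)) * g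

theorem exists_coV {g : G} (hg : g ∈ Vs x0 v) : ∃ r ω, L.CoV g r ω := by
  induction hg using closure_induction with
  | mem x hx =>
    rcases hx with ⟨a, rfl⟩ | ⟨j, a, rfl⟩
    · refine ⟨a, 0, ⟨by rw [L.vv_zero, mul_one], fun k u => ?_⟩⟩
      rw [Pi.zero_apply, mul_zero, mul_zero, zero_of_add L.x0_add, zero_of_add (L.v_add k), one_mul, one_mul,
        ← L.x0_c, mul_inv_cancel_right]
    · refine ⟨0, Pi.single j a, ⟨by rw [zero_of_add L.x0_add, one_mul, L.vv_single], fun k u => ?_⟩⟩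
      by_cases h : j = ng k
      · subst h
        rw [L.c_v, Pi.single_eq_same]
      · rw [Pi.single_eq_of_ne (Ne.symm h), mul_zero, mul_zero, zero_of_add L.x0_add, zero_of_add (L.v_add k),
          one_mul, one_mul, L.c_v' _ _ _ _ h, mul_inv_cancel_right]
  | one =>
    refine ⟨0, 0, ⟨by rw [L.vv_zero, mul_one, zero_of_add L.x0_add], fun k u => ?_⟩⟩
    rw [Pi.zero_apply, mul_zero, mul_zero, zero_of_add L.x0_add, zero_of_add (L.v_add k), one_mul, one_mul,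
      mul_one, mul_inv_cancel]
  | mul x y hx hy ih1 ih2 =>
    obtain ⟨r, ω, h1⟩ := ih1
    obtain ⟨r', ω', h2⟩ := ih2
    refine ⟨r + r', ω + ω', ⟨?_, fun k u => ?_⟩⟩
    · have h3 := L.VV (z := z) (X_le_V (L.x0_mem r')) (L.vv ω).2
      calc x * y = x0 r * L.vv ω * (x0 r' * L.vv ω') := by rw [← h1.eq, ← h2.eq]
        _ = x0 r * (L.vv ω * x0 r') * L.vv ω' := by group
        _ = x0 (r + r') * L.vv (ω + ω') := by rw [← h3, L.x0_add, L.vv_add]; group
    · have h4 : x0 (u * ω' (ng k)) * v k (u ^ 2 * ω' (ng k)) ∈ Vs x0 v :=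
        mul_mem (X_le_V (L.x0_mem _)) (v_mem _ _)
      have h5 := L.VV (z := z) (mul_mem (mul_mem (X_le_V (L.x0_mem (u * ω (ng k)))) (v_mem k (u ^ 2 * ω (ng k)))) hx) h4
      have h6 := L.x0_v (u * ω' (ng k)) k (u ^ 2 * ω (ng k))
      calc c k u * (x * y) * (c k u)⁻¹ = (c k u * x * (c k u)⁻¹) * (c k u * y * (c k u)⁻¹) := by group
        _ = x0 (u * ω (ng k)) * v k (u ^ 2 * ω (ng k)) * x * (x0 (u * ω' (ng k)) * v k (u ^ 2 * ω' (ng k))) * y := by
          rw [h1.act, h2.act]; group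
        _ = x0 (u * ω' (ng k)) * v k (u ^ 2 * ω' (ng k)) * (x0 (u * ω (ng k)) * v k (u ^ 2 * ω (ng k)) * x) * y := by
          rw [h5]
        _ = x0 (u * ω' (ng k)) * (v k (u ^ 2 * ω' (ng k)) * x0 (u * ω (ng k))) * v k (u ^ 2 * ω (ng k)) * x * y := by
          group
        _ = _ := by
          rw [← L.x0_v, Pi.add_apply, mul_add, mul_add, L.x0_add, L.v_add,
            show x0 (u * ω (ng k)) * x0 (u * ω' (ng k)) = x0 (u * ω' (ng k)) * x0 (u * ω (ng k)) by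
              rw [← L.x0_add, ← L.x0_add, add_comm],
            show v k (u ^ 2 * ω (ng k)) * v k (u ^ 2 * ω' (ng k)) = v k (u ^ 2 * ω' (ng k)) * v k (u ^ 2 * ω (ng k)) by
              rw [← L.v_add, ← L.v_add, add_comm]]
          group
  | inv x hx ih =>
    obtain ⟨r, ω, h1⟩ := ih
    have h2 : x⁻¹ = x := inv_eq_of_mul_eq_one_left (L.V2 (z := z) hx)
    rw [h2]
    exact ⟨r, ω, h1⟩

theorem v_inj {j : J} {a : F} (h : v j a = 1) : a = 0 := L.xv 0 j a (by rw [h, zero_of_add L.x0_add])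

theorem CoV.unique {g : G} {r r' : F} {ω ω' : J → F} (h : L.CoV g r ω) (h' : L.CoV g r' ω') : ω = ω' := by
  funext j
  obtain ⟨k, rfl⟩ : ∃ k, j = ng k := ⟨ng j, (ng_ng j).symm⟩
  have h1 := mul_right_cancel ((h.act k 1).symm.trans (h'.act k 1))
  rw [one_mul, one_mul, one_pow, one_mul, one_mul] at h1
  have h2 : x0 (ω (ng k) + ω' (ng k)) = v k (ω (ng k) + ω' (ng k)) := by
    have h3 : x0 (ω' (ng k)) * x0 (ω (ng k)) = v k (ω' (ng k)) * (v k (ω (ng k)))⁻¹ := by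
      calc x0 (ω' (ng k)) * x0 (ω (ng k)) = (x0 (ω' (ng k)))⁻¹ * (x0 (ω (ng k)) * v k (ω (ng k))) *
            (v k (ω (ng k)))⁻¹ := by rw [inv_of_add L.two L.x0_add]; group
        _ = _ := by rw [h1]; group
    rw [add_comm (ω (ng k)), L.x0_add, h3, inv_of_add L.two (L.v_add k), L.v_add]
  have h4 := L.xv _ _ _ h2
  have h5 := L.two (ω' (ng k))
  calc ω (ng k) = (ω (ng k) + ω' (ng k)) + ω' (ng k) := by rw [add_assoc, h5, add_zero]
    _ = ω' (ng k) := by rw [h4, zero_add]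

/-- the torus in coordinates -/
theorem CoV.torus {g : G} {r : F} {ω : J → F} (h : L.CoV g r ω) (ν : Fin 3 → Fˣ) :
    L.CoV (th ν * g * (th ν)⁻¹) r (fun j => (wt ν j : F) * ω j) := by
  obtain ⟨r', ω', h'⟩ := L.exists_coV (g := th ν * g * (th ν)⁻¹)
    (L.PV (th_mem ν) (by rw [h.eq]; exact mul_mem (X_le_V (L.x0_mem r)) (L.vv ω).2))
  have hact : ∀ k u, c k u * (th ν * g * (th ν)⁻¹) * (c k u)⁻¹ =
      x0 (u * ((wt ν (ng k) : F) * ω (ng k))) * v k (u ^ 2 * ((wt ν (ng k) : F) * ω (ng k))) *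
        (th ν * g * (th ν)⁻¹) := by
    intro k u
    have e0 : wt ν (ng k) = (wt ν k)⁻¹ := by
      rcases k with ⟨k, b⟩
      cases b <;> simp [wt, ng]
    have hw : ((wt ν k : Fˣ) : F) ≠ 0 := (wt ν k).ne_zero
    have e1 : c k u = th ν * c k (((wt ν k)⁻¹ : Fˣ) * u) * (th ν)⁻¹ := by
      rw [L.th_c, ← mul_assoc, Units.mul_inv, one_mul]
    calc c k u * (th ν * g * (th ν)⁻¹) * (c k u)⁻¹
        = th ν * (c k (((wt ν k)⁻¹ : Fˣ) * u) * g * (c k (((wt ν k)⁻¹ : Fˣ) * u))⁻¹) * (th ν)⁻¹ := by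
          rw [e1]; group
      _ = (th ν * x0 ((((wt ν k)⁻¹ : Fˣ) * u) * ω (ng k)) * (th ν)⁻¹) *
          (th ν * v k ((((wt ν k)⁻¹ : Fˣ) * u) ^ 2 * ω (ng k)) * (th ν)⁻¹) * (th ν * g * (th ν)⁻¹) := by
          rw [h.act]; group
      _ = _ := by
        rw [L.th_x0, mul_inv_cancel_right, L.th_v, e0]
        congr 3
        · ring
        · rw [Units.val_inv_eq_inv_val]; field_simp
  -- uniqueness of the coordinates from the action
  have huniq : ω' = fun j => (wt ν j : F) * ω j := by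
    funext j
    obtain ⟨k, rfl⟩ : ∃ k, j = ng k := ⟨ng j, (ng_ng j).symm⟩
    have h1 := mul_right_cancel ((h'.act k 1).symm.trans (hact k 1))
    rw [one_mul, one_mul, one_pow, one_mul, one_mul] at h1
    set α := ω' (ng k)
    set β := (wt ν (ng k) : F) * ω (ng k)
    have h2 : x0 (α + β) = v k (α + β) := by
      have h3 : x0 β * x0 α = v k β * (v k α)⁻¹ := by
        calc x0 β * x0 α = (x0 β)⁻¹ * (x0 α * v k α) * (v k α)⁻¹ := by
              rw [inv_of_add L.two L.x0_add]; group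
          _ = _ := by rw [h1]; group
      rw [add_comm α, L.x0_add, h3, inv_of_add L.two (L.v_add k), L.v_add]
    have h4 := L.xv _ _ _ h2
    have h5 := L.two β
    calc α = (α + β) + β := by rw [add_assoc, h5, add_zero]
      _ = β := by rw [h4, zero_add]
  have hvv : (th ν * L.vv ω * (th ν)⁻¹ : G) = L.vv (fun j => (wt ν j : F) * ω j) := by
    letI := L.commV
    let cg : Vs x0 v →* Vs x0 v :=
      { toFun := fun y => ⟨th ν * y * (th ν)⁻¹, L.PV (th_mem ν) y.2⟩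
        map_one' := Subtype.ext (by show th ν * 1 * (th ν)⁻¹ = 1; group)
        map_mul' := fun x y => Subtype.ext (by
          show th ν * (x * y) * (th ν)⁻¹ = th ν * x * (th ν)⁻¹ * (th ν * y * (th ν)⁻¹)
          group) }
    have h1 : cg (L.vv ω) = L.vv (fun j => (wt ν j : F) * ω j) := by
      unfold vv
      rw [map_prod]
      exact Finset.prod_congr rfl fun j _ => Subtype.ext (L.th_v ν j _)
    exact congrArg Subtype.val h1
  refine ⟨?_, hact⟩
  rw [h.eq]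
  calc th ν * (x0 r * L.vv ω) * (th ν)⁻¹ = th ν * x0 r * (th ν)⁻¹ * (th ν * L.vv ω * (th ν)⁻¹) := by group
    _ = _ := by rw [L.th_x0, mul_inv_cancel_right, hvv]

theorem CoV.mem_X {g : G} {r : F} (h : L.CoV g r 0) : g = x0 r := by
  rw [h.eq, L.vv_zero, mul_one]

theorem add_eq_zero {a b : F} (h : a + b = 0) : a = b := by
  have h1 := L.two b
  calc a = (a + b) + b := by rw [add_assoc, h1, add_zero]
    _ = b := by rw [h, zero_add]

/-- every element is a square -/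
theorem exists_sqrt [Finite F] (a : F) : ∃ b : F, b ^ 2 = a := by
  have hinj : Function.Injective (fun b : F => b ^ 2) := by
    intro b b' h
    have h1 : (b + b') * (b + b') = 0 := by
      have h2 : b ^ 2 = b' ^ 2 := h
      calc (b + b') * (b + b') = b ^ 2 + b' ^ 2 + (b * b' + b * b') := by ring
        _ = 0 := by rw [L.two, h2, L.two, add_zero]
    exact L.add_eq_zero (mul_self_eq_zero.1 h1)
  exact (Finite.injective_iff_surjective.1 hinj) a

theorem exists_sqrt_unit [Finite F] (a : Fˣ) : ∃ b : Fˣ, b ^ 2 = a := by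
  obtain ⟨b, hb⟩ := L.exists_sqrt (a : F)
  have h0 : b ≠ 0 := by
    rintro rfl
    apply a.ne_zero
    rw [← hb]; ring
  exact ⟨Units.mk0 b h0, Units.ext (by rw [Units.val_pow_eq_pow_val, Units.val_mk0, hb])⟩

/-- the torus moves `a` to `b` on the root group `j` -/
theorem exists_wt [Finite F] (j : J) (a : Fˣ) : ∃ ν : Fin 3 → Fˣ, wt ν j = a := by
  obtain ⟨b, hb⟩ := L.exists_sqrt_unit a
  rcases j with ⟨k, s⟩
  cases s
  · exact ⟨fun _ => b⁻¹, by simp [wt, hb]⟩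
  · exact ⟨fun _ => b, by simp [wt, hb]⟩

/-- `P` is irreducible on `V / X`. -/
theorem irrV [Finite F] {R : Subgroup G} (h1 : Xs x0 ≤ R) (h2 : R ≤ Vs x0 v)
    (h3 : ∀ p ∈ Ps x0 v z c l th, ∀ r ∈ R, p * r * p⁻¹ ∈ R) : R = Xs x0 ∨ R = Vs x0 v := by
  by_cases hR : R ≤ Xs x0
  · exact Or.inl (le_antisymm hR h1)
  right
  apply le_antisymm h2
  obtain ⟨g, hg, hgX⟩ := SetLike.not_le_iff_exists.1 hR
  obtain ⟨r, ω, hω⟩ := L.exists_coV (h2 hg)
  have h4 : ω ≠ 0 := by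
    rintro rfl
    exact hgX (L.mem_X.2 ⟨r, hω.mem_X⟩)
  obtain ⟨j, hj⟩ := Function.ne_iff.1 h4
  -- some `v k w ∈ R`
  have h5 : v (ng j) (ω j) ∈ R := by
    have h6 := h3 _ (c_mem (ng j) 1) g hg
    rw [hω.act, one_mul, one_pow, one_mul, ng_ng] at h6
    have h7 := mul_mem (mul_mem (inv_mem (h1 (L.x0_mem (ω j)))) h6) (inv_mem hg)
    have e : (x0 (ω j))⁻¹ * (x0 (ω j) * v (ng j) (ω j) * g) * g⁻¹ = v (ng j) (ω j) := by group
    rwa [e] at h7
  have hall : ∀ k w, w ≠ 0 → v k w ∈ R → ∀ u, v k u ∈ R := by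
    intro k w hw hk u
    by_cases hu : u = 0
    · rw [hu, zero_of_add (L.v_add k)]; exact one_mem _
    obtain ⟨ν, hν⟩ := L.exists_wt k (Units.mk0 u hu * (Units.mk0 w hw)⁻¹)
    have h6 := h3 _ (th_mem ν) _ hk
    rw [L.th_v, hν, Units.val_mul, Units.val_mk0, Units.val_inv_eq_inv_val, Units.val_mk0, mul_assoc,
      inv_mul_cancel₀ hw, mul_one] at h6
    exact h6
  have hng : ∀ k, (∀ u, v k u ∈ R) → ∀ u, v (ng k) u ∈ R := by
    intro k hk
    apply hall _ 1 one_ne_zero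
    have h6 := h3 _ (c_mem (ng k) 1) _ (hk 1)
    have h7 := L.c_v (ng k) 1 1
    rw [ng_ng, one_mul, one_pow, one_mul] at h7
    rw [h7] at h6
    have h8 := mul_mem (mul_mem (inv_mem (h1 (L.x0_mem 1))) h6) (inv_mem (hk 1))
    have e : (x0 1)⁻¹ * (x0 1 * v (ng k) 1 * v k 1) * (v k 1)⁻¹ = v (ng k) 1 := by group
    rwa [e] at h8
  have hst : ∀ k m, k.1 ≠ m.1 → (∀ u, v k u ∈ R) → ∀ u, v m u ∈ R := by
    intro k m hkm hk u
    have h6 := h3 _ (l_mem (j := ng k) (k := m) hkm u) _ (hk 1)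
    have h7 := L.l_v (ng k) m u 1 hkm
    rw [ng_ng] at h7
    rw [h7, mul_one] at h6
    have h8 := mul_mem h6 (inv_mem (hk 1))
    rwa [mul_inv_cancel_right] at h8
  have h8 : ∀ m u, v m u ∈ R := by
    have h9 := hall _ _ hj h5
    have h10 : ∀ m, m.1 ≠ (ng j).1 → ∀ u, v m u ∈ R := fun m hm => hst _ m (Ne.symm hm) h9
    intro m
    by_cases hm : m.1 = (ng j).1
    · -- through a third index
      obtain ⟨m', hm'⟩ : ∃ m' : J, m'.1 ≠ (ng j).1 := by
        obtain ⟨i, hi⟩ : ∃ i : Fin 3, i ≠ (ng j).1 := exists_ne _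
        exact ⟨(i, true), hi⟩
      exact hst m' m (by rw [hm]; exact hm') (h10 m' hm')
    · exact h10 m hm
  rw [Vs, closure_le]
  rintro g (⟨a, rfl⟩ | ⟨j, a, rfl⟩)
  · exact h1 (L.x0_mem a)
  · exact h8 j a

/-! ### `Q / V` -/

/-- the elements of `Q` with coordinates `a` modulo `V` -/
def CoQ (x0 : F → G) (z : Sp → F → G) (q : G) (a : Sp → F) : Prop :=
  ∀ i b, q * z i b * q⁻¹ = x0 (a (op i) * b) * z i b

theorem CoQ.mul {q q' : G} {a a' : Sp → F} (hq : q ∈ Qs x0 v z) (h : CoQ x0 z q a) (h' : CoQ x0 z q' a') :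
    CoQ x0 z (q * q') (a + a') := by
  intro i b
  have h1 := L.XP (c := c) (l := l) (th := th) (L.x0_mem (a' (op i) * b)) (Q_le_P hq)
  calc q * q' * z i b * (q * q')⁻¹ = q * (q' * z i b * q'⁻¹) * q⁻¹ := by group
    _ = (q * x0 (a' (op i) * b)) * z i b * q⁻¹ := by rw [h' i b]; group
    _ = x0 (a' (op i) * b) * (q * z i b * q⁻¹) := by rw [← h1]; group
    _ = x0 ((a + a') (op i) * b) * z i b := by
      rw [h i b, ← mul_assoc, ← L.x0_add, Pi.add_apply, add_mul, add_comm]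

theorem coQ_single (i : Sp) (a : F) : CoQ x0 z (z i a) (Pi.single i a) := by
  intro j b
  rw [L.z_conj]
  by_cases h : j = op i
  · rw [if_pos h, h, op_op, Pi.single_eq_same]
  · rw [if_neg h, Pi.single_eq_of_ne, zero_mul]
    intro h2; apply h; rw [← h2, op_op]

theorem coQ_V {y : G} (hy : y ∈ Vs x0 v) : CoQ x0 z y 0 := by
  intro i b
  rw [Pi.zero_apply, zero_mul, zero_of_add L.x0_add, one_mul, L.VQ hy (z_mem i b), mul_inv_cancel_right]

theorem CoQ.unique {q : G} {a a' : Sp → F} (h : CoQ x0 z q a) (h' : CoQ x0 z q a') : a = a' :=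
  L.beta_unique h h'

/-- every vector is realised -/
theorem exists_coQ (a : Sp → F) : ∃ q ∈ Qs x0 v z, CoQ x0 z q a := by
  classical
  have h1 : ∀ s : Finset Sp, ∃ q ∈ Qs x0 v z, CoQ x0 z q (∑ i ∈ s, Pi.single i (a i)) := by
    intro s
    induction s using Finset.induction_on with
    | empty => exact ⟨1, one_mem _, by rw [Finset.sum_empty]; exact L.coQ_V (one_mem _)⟩
    | insert i s hi ih =>
      obtain ⟨q, hq, hqa⟩ := ih
      exact ⟨z i (a i) * q, mul_mem (z_mem _ _) hq, by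
        rw [Finset.sum_insert hi]; exact CoQ.mul L (z_mem _ _) (L.coQ_single i (a i)) hqa⟩
  obtain ⟨q, hq, hqa⟩ := h1 Finset.univ
  rw [Finset.univ_sum_single] at hqa
  exact ⟨q, hq, hqa⟩

/-- `C_Q(Q) = V` : an element with coordinates `0` lies in `V` -/
theorem mem_V_of_coQ {q : G} (hq : q ∈ Qs x0 v z) (h : CoQ x0 z q 0) : q ∈ Vs x0 v := by
  classical
  haveI : ((Vs x0 v).subgroupOf (Qs x0 v z)).Normal := ⟨by
    rintro ⟨y, hy⟩ hyV ⟨g, hg⟩
    rw [mem_subgroupOf] at hyV ⊢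
    exact L.PV (z := z) (c := c) (l := l) (th := th) (Q_le_P hg) hyV⟩
  let B := Qs x0 v z ⧸ (Vs x0 v).subgroupOf (Qs x0 v z)
  letI : CommGroup B := { (inferInstance : Group B) with
    mul_comm := by
      intro x y
      induction x using QuotientGroup.induction_on with
      | H x =>
      induction y using QuotientGroup.induction_on with
      | H y =>
      rw [← QuotientGroup.mk_mul, ← QuotientGroup.mk_mul, eq_comm, QuotientGroup.eq, mem_subgroupOf]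
      have h1 := X_le_V (v := v) (L.QQ (inv_mem x.2) (inv_mem y.2))
      have e : (((y * x)⁻¹ * (x * y) : Qs x0 v z) : G) =
          (x : G)⁻¹ * (y : G)⁻¹ * (x : G)⁻¹⁻¹ * (y : G)⁻¹⁻¹ := by
        show ((y : G) * x)⁻¹ * (x * y) = _
        group
      rw [e]; exact h1 }
  let zb : Sp → F → B := fun i a => ((⟨z i a, z_mem i a⟩ : Qs x0 v z) : B)
  have hzb : ∀ i a b, zb i (a + b) = zb i a * zb i b := by
    intro i a b
    show ((⟨z i (a + b), _⟩ : Qs x0 v z) : B) = ((⟨z i a, _⟩ : Qs x0 v z) : B) * ((⟨z i b, _⟩ : Qs x0 v z) : B)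
    rw [← QuotientGroup.mk_mul]
    congr 1
    exact Subtype.ext (L.z_add i a b)
  have hzb0 : ∀ i, zb i 0 = 1 := fun i => zero_of_add (hzb i)
  have key : ∀ q (hq : q ∈ Qs x0 v z), ∃ a : Sp → F, CoQ x0 z q a ∧
      ((⟨q, hq⟩ : Qs x0 v z) : B) = ∏ i, zb i (a i) := by
    intro q hq
    induction hq using closure_induction with
    | mem x hx =>
      rcases hx with hx | ⟨i, a, rfl⟩
      · have hx' : x ∈ Vs x0 v := subset_closure hx
        refine ⟨0, L.coQ_V hx', ?_⟩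
        have h1 : ∏ i, zb i ((0 : Sp → F) i) = 1 := Finset.prod_eq_one fun i _ => hzb0 i
        rw [h1]
        exact (QuotientGroup.eq_one_iff _).2 hx'
      · refine ⟨Pi.single i a, L.coQ_single i a, ?_⟩
        rw [Finset.prod_eq_single i]
        · rw [Pi.single_eq_same]
        · intro k _ hk
          rw [Pi.single_eq_of_ne hk, hzb0]
        · intro h; exact absurd (Finset.mem_univ i) h
    | one =>
      refine ⟨0, L.coQ_V (one_mem _), ?_⟩
      have h1 : ∏ i, zb i ((0 : Sp → F) i) = 1 := Finset.prod_eq_one fun i _ => hzb0 i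
      rw [h1]; rfl
    | mul x y hx hy ih1 ih2 =>
      obtain ⟨a, ha, ha2⟩ := ih1
      obtain ⟨a', ha', ha2'⟩ := ih2
      refine ⟨a + a', CoQ.mul L hx ha ha', ?_⟩
      have h1 : ((⟨x * y, mul_mem hx hy⟩ : Qs x0 v z) : B) =
          ((⟨x, hx⟩ : Qs x0 v z) : B) * ((⟨y, hy⟩ : Qs x0 v z) : B) := rfl
      rw [h1, ha2, ha2', ← Finset.prod_mul_distrib]
      exact Finset.prod_congr rfl fun i _ => (hzb i _ _).symm
    | inv x hx ih =>
      obtain ⟨a, ha, ha2⟩ := ih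
      have h1 : x⁻¹ = x * (x * x)⁻¹ := by group
      have h2 := L.Q2 hx
      have h3 := CoQ.mul L hx ha (L.coQ_V (inv_mem h2))
      rw [add_zero, ← h1] at h3
      refine ⟨a, h3, ?_⟩
      rw [← ha2, QuotientGroup.eq, mem_subgroupOf]
      show x⁻¹⁻¹ * x ∈ Vs x0 v
      rw [inv_inv]; exact h2
  obtain ⟨a, ha, ha2⟩ := key q hq
  have h0 : a = 0 := CoQ.unique L ha h
  rw [h0] at ha2
  have h1 : ∏ i, zb i ((0 : Sp → F) i) = 1 := Finset.prod_eq_one fun i _ => hzb0 i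
  rw [h1] at ha2
  have h2 := (QuotientGroup.eq_one_iff (⟨q, hq⟩ : Qs x0 v z)).1 ha2
  exact h2

theorem ZQ {q : G} (hq : q ∈ Qs x0 v z) (h : ∀ y ∈ Qs x0 v z, q * y = y * q) : q ∈ Vs x0 v := by
  refine L.mem_V_of_coQ (c := c) (l := l) (th := th) hq fun i b => ?_
  rw [Pi.zero_apply, zero_mul, zero_of_add L.x0_add, one_mul, h _ (z_mem i b), mul_inv_cancel_right]

theorem coQ_of_mem {q : G} (hq : q ∈ Qs x0 v z) : ∃ a, CoQ x0 z q a := L.exists_beta hq

/-- conjugation in coordinates -/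
theorem CoQ.conj_c {q : G} {a : Sp → F} (h : CoQ x0 z q a) (k : J) (u : F) :
    CoQ x0 z (c k u * q * (c k u)⁻¹) (fun i => if i k.1 = k.2 then a i + u * a (fl i k.1) else a i) := by
  intro i b
  have hinv := inv_of_add L.two (L.c_add k) u
  have hX : ∀ r, c k u * x0 r * (c k u)⁻¹ = x0 r := fun r => by rw [← L.x0_c, mul_inv_cancel_right]
  by_cases h1 : i k.1 = k.2
  · -- `c` commutes with `z i b`
    have h2 := L.c_z' k u i b h1
    have h3 : (c k u)⁻¹ * z i b * c k u = z i b := by rw [mul_assoc, ← h2, inv_mul_cancel_left]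
    have h4 : ¬ (op i) k.1 = k.2 := by
      rw [← h1]; simp [op]
    beta_reduce
    rw [if_neg h4]
    calc c k u * q * (c k u)⁻¹ * z i b * (c k u * q * (c k u)⁻¹)⁻¹
        = c k u * (q * ((c k u)⁻¹ * z i b * c k u) * q⁻¹) * (c k u)⁻¹ := by group
      _ = (c k u * x0 (a (op i) * b) * (c k u)⁻¹) * (c k u * z i b * (c k u)⁻¹) := by rw [h3, h i b]; group
      _ = _ := by rw [hX, h2, mul_inv_cancel_right]
  · have h2 := L.c_z k u i b h1
    have h3 : (c k u)⁻¹ * z i b * c k u = z (fl i k.1) (u * b) * z i b := by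
      rw [hinv] at h2 ⊢; exact h2
    have h4 : (op i) k.1 = k.2 := by
      rcases k with ⟨k, s⟩
      cases s <;> simp_all [op]
    beta_reduce
    rw [if_pos h4]
    have h5 : op (fl i k.1) = fl (op i) k.1 := by
      funext m; by_cases hm : m = k.1 <;> simp [op, fl, hm]
    calc c k u * q * (c k u)⁻¹ * z i b * (c k u * q * (c k u)⁻¹)⁻¹
        = c k u * (q * ((c k u)⁻¹ * z i b * c k u) * q⁻¹) * (c k u)⁻¹ := by group
      _ = c k u * ((q * z (fl i k.1) (u * b) * q⁻¹) * (q * z i b * q⁻¹)) * (c k u)⁻¹ := by rw [h3]; group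
      _ = c k u * (x0 (a (fl (op i) k.1) * (u * b)) * z (fl i k.1) (u * b) * (x0 (a (op i) * b) * z i b)) *
          (c k u)⁻¹ := by rw [h (fl i k.1), h i b, h5]
      _ = c k u * (x0 (a (fl (op i) k.1) * (u * b)) * (z (fl i k.1) (u * b) * x0 (a (op i) * b)) * z i b) *
          (c k u)⁻¹ := by group
      _ = c k u * (x0 (a (fl (op i) k.1) * (u * b)) * (x0 (a (op i) * b) * z (fl i k.1) (u * b)) * z i b) *
          (c k u)⁻¹ := by rw [← L.x0_z]
      _ = (c k u * (x0 (a (fl (op i) k.1) * (u * b)) * x0 (a (op i) * b)) * (c k u)⁻¹) *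
          ((c k u * z (fl i k.1) (u * b) * (c k u)⁻¹) * (c k u * z i b * (c k u)⁻¹)) := by group
      _ = x0 ((a (op i) + u * a (fl (op i) k.1)) * b) * z i b := by
        have h6 : (fl i k.1) k.1 = k.2 := by
          rw [fl_self]
          rcases k with ⟨k, s⟩
          cases s <;> simp_all
        rw [← L.x0_add, hX, L.c_z' k u (fl i k.1) (u * b) h6, mul_inv_cancel_right, h2, ← mul_assoc (z _ _),
          self_of_add L.two (L.z_add _), one_mul]
        congr 2; ring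

end

/-- induction over the spin weights -/
theorem sp_ind {A : Sp → Prop} (h0 : A (fun _ => true)) (h : ∀ i k, A i → A (fl i k)) (i : Sp) : A i := by
  have step : ∀ (i : Sp) (k : Fin 3) (b : Bool), A i → A (fun m => if m = k then b else i m) := by
    intro i k b hi
    by_cases hb : b = i k
    · have : (fun m => if m = k then b else i m) = i := by
        funext m; by_cases hm : m = k
        · rw [if_pos hm, hb, hm]
        · rw [if_neg hm]
      rwa [this]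
    · have : (fun m => if m = k then b else i m) = fl i k := by
        funext m; by_cases hm : m = k
        · rw [if_pos hm, hm, fl_self]
          revert hb; cases b <;> cases (i k) <;> simp
        · rw [if_neg hm, fl_ne _ hm]
      rw [this]; exact h i k hi
  have h1 := step _ 2 (i 2) (step _ 1 (i 1) (step _ 0 (i 0) h0))
  have : (fun m : Fin 3 => if m = 2 then i 2 else if m = 1 then i 1 else if m = 0 then i 0 else true) = i := by
    funext m; fin_cases m <;> simp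
  rwa [this] at h1

section

variable (L : LocA x0 v z c l th)

include L

theorem coQ_inv {q : G} {a : Sp → F} (hq : q ∈ Qs x0 v z) (h : CoQ x0 z q a) : CoQ x0 z q⁻¹ a := by
  have h1 : q⁻¹ = q * (q * q)⁻¹ := by group
  have h3 := CoQ.mul L hq h (L.coQ_V (inv_mem (L.Q2 hq)))
  rwa [add_zero, ← h1] at h3

theorem exists_ws (i : Sp) (a : Fˣ) : ∃ ν : Fin 3 → Fˣ, ws ν i = a := by
  refine ⟨fun k => if k = 0 then (if i 0 then a else a⁻¹) else 1, ?_⟩
  unfold ws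
  rw [Fin.prod_univ_three]
  cases h0 : i 0 <;> cases h1 : i 1 <;> cases h2 : i 2 <;> simp

/-- `P` is irreducible on `Q / V`. -/
theorem irrQ {R : Subgroup G} (h1 : Vs x0 v ≤ R) (h2 : R ≤ Qs x0 v z)
    (h3 : ∀ p ∈ Ps x0 v z c l th, ∀ r ∈ R, p * r * p⁻¹ ∈ R) : R = Vs x0 v ∨ R = Qs x0 v z := by
  by_cases hR : R ≤ Vs x0 v
  · exact Or.inl (le_antisymm hR h1)
  right
  apply le_antisymm h2
  obtain ⟨g, hg, hgV⟩ := SetLike.not_le_iff_exists.1 hR
  have claim : ∀ n : ℕ, n ≤ 3 → ∃ q ∈ R, ∃ a, CoQ x0 z q a ∧ a ≠ 0 ∧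
      ∀ i, a i ≠ 0 → ∀ k : Fin 3, k.val < n → i k = true := by
    intro n
    induction n with
    | zero =>
      intro _
      obtain ⟨a, ha⟩ := L.coQ_of_mem (h2 hg)
      refine ⟨g, hg, a, ha, ?_, fun i _ k hk => absurd hk (Nat.not_lt_zero _)⟩
      rintro rfl
      exact hgV (L.mem_V_of_coQ (h2 hg) ha)
    | succ n ih =>
      intro hn
      obtain ⟨q, hq, a, ha, ha0, hsup⟩ := ih (by omega)
      let k : Fin 3 := ⟨n, by omega⟩
      have h4 := CoQ.conj_c L ha (k, true) 1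
      have h5 := CoQ.mul L (L.PQ (c_mem (k, true) 1) (h2 hq)) h4 (L.coQ_inv (h2 hq) ha)
      set a' : Sp → F := (fun i => if i (k, true).1 = (k, true).2 then a i + 1 * a (fl i (k, true).1) else a i) + a
        with ha'
      have h6 : ∀ i, a' i = if i k = true then a (fl i k) else 0 := by
        intro i
        rw [ha', Pi.add_apply]
        show (if i k = true then a i + 1 * a (fl i k) else a i) + a i = _
        by_cases h : i k = true
        · rw [if_pos h, if_pos h, one_mul, add_comm (a i), add_assoc, L.two, add_zero]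
        · rw [if_neg h, if_neg h, L.two]
      by_cases h7 : a' = 0
      · refine ⟨q, hq, a, ha, ha0, fun i hi m hm => ?_⟩
        rcases Nat.lt_succ_iff_lt_or_eq.1 hm with h8 | h8
        · exact hsup i hi m h8
        · have hmk : m = k := Fin.ext h8
          rw [hmk]
          by_contra h9
          apply hi
          have h10 := congrFun h7 (fl i k)
          rw [h6, fl_self, fl_fl, if_pos (by simpa using h9), Pi.zero_apply] at h10
          exact h10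
      · refine ⟨_, mul_mem (h3 _ (c_mem (k, true) 1) q hq) (inv_mem hq), a', h5, h7, fun i hi m hm => ?_⟩
        rw [h6] at hi
        have h8 : i k = true := by
          by_contra h
          exact hi (if_neg h)
        rw [if_pos h8] at hi
        rcases Nat.lt_succ_iff_lt_or_eq.1 hm with h9 | h9
        · have h10 := hsup _ hi m h9
          rwa [fl_ne] at h10
          intro h; rw [h] at h9; exact absurd h9 (lt_irrefl _)
        · have hmk : m = k := Fin.ext h9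
          rw [hmk]; exact h8
  obtain ⟨q, hq, a, ha, ha0, hsup⟩ := claim 3 le_rfl
  set top : Sp := fun _ => true with htop
  have h4 : ∀ i, i ≠ top → a i = 0 := by
    intro i hi
    by_contra h
    exact hi (funext fun k => hsup i h k k.2)
  have h5 : a = Pi.single top (a top) := by
    funext i
    by_cases h : i = top
    · rw [h, Pi.single_eq_same]
    · rw [Pi.single_eq_of_ne h, h4 i h]
  have h6 : a top ≠ 0 := by
    intro h
    apply ha0
    rw [h5, h, Pi.single_zero]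
  have h7 : z top (a top) ∈ R := by
    have h8 := CoQ.mul L (h2 hq) ha (L.coQ_single top (a top))
    rw [← h5] at h8
    have h9 : a + a = 0 := funext fun i => L.two (a i)
    rw [h9] at h8
    have h10 := L.mem_V_of_coQ (mul_mem (h2 hq) (z_mem _ _)) h8
    have h11 := mul_mem (inv_mem hq) (h1 h10)
    rwa [inv_mul_cancel_left] at h11
  have hz : ∀ i w, w ≠ 0 → z i w ∈ R → ∀ u, z i u ∈ R := by
    intro i w hw hi u
    by_cases hu : u = 0
    · rw [hu, zero_of_add (L.z_add i)]; exact one_mem _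
    obtain ⟨ν, hν⟩ := L.exists_ws i (Units.mk0 u hu * (Units.mk0 w hw)⁻¹)
    have h8 := h3 _ (th_mem ν) _ hi
    rw [L.th_z, hν, Units.val_mul, Units.val_mk0, Units.val_inv_eq_inv_val, Units.val_mk0, mul_assoc,
      inv_mul_cancel₀ hw, mul_one] at h8
    exact h8
  have hall : ∀ i, ∀ u, z i u ∈ R := by
    intro i
    refine sp_ind (A := fun i => ∀ u, z i u ∈ R) (hz top _ h6 h7) (fun i k hi u => ?_) i
    have h8 := h3 _ (c_mem (k, !i k) u) _ (hi 1)
    rw [L.c_z _ _ _ _ (by simp), mul_one] at h8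
    have h9 := mul_mem h8 (inv_mem (hi 1))
    rwa [mul_inv_cancel_right] at h9
  rw [Qs, closure_le]
  rintro g (hg | ⟨i, a, rfl⟩)
  · exact h1 (subset_closure hg)
  · exact hall i a

theorem X_le_comm : Xs x0 ≤ ⁅Qs x0 v z, Qs x0 v z⁆ := by
  intro x hx
  obtain ⟨a, rfl⟩ := L.mem_X.1 hx
  have h1 := commutator_mem_commutator (z_mem (x0 := x0) (v := v) (z := z) (fun _ => true) a)
    (z_mem (x0 := x0) (v := v) (z := z) (op fun _ => true) 1)
  rw [commutatorElement_def, L.z_op, mul_one, mul_inv_cancel_right] at h1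
  exact h1

theorem neQ : ∃ q ∈ Qs x0 v z, q ∉ Vs x0 v := by
  refine ⟨z (fun _ => true) 1, z_mem _ _, fun h => ?_⟩
  have h4 := CoQ.unique L (L.coQ_V h) (L.coQ_single _ _)
  have h5 := congrFun h4 (fun _ => true)
  rw [Pi.single_eq_same, Pi.zero_apply] at h5
  exact one_ne_zero h5.symm

theorem neV : ∃ y ∈ Vs x0 v, y ∉ Xs x0 := by
  refine ⟨v (0, true) 1, v_mem _ _, fun h => ?_⟩
  obtain ⟨a, ha⟩ := L.mem_X.1 h
  exact one_ne_zero (L.xv _ _ _ ha.symm)

/-- an additive function which is invariant under a scalar `≠ 1` vanishes -/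
theorem add_zero_of_inv {g : F → F} (hg : ∀ a b, g (a + b) = g a + g b) {μ : F} (hμ : μ ≠ 1)
    (h : ∀ a, g (μ * a) = g a) (a : F) : g a = 0 := by
  have h0 : μ + 1 ≠ 0 := fun h => hμ (L.add_eq_zero h)
  have h1 : g ((μ + 1) * (a * (μ + 1)⁻¹)) = 0 := by
    rw [add_mul, one_mul, hg, h, L.two]
  rwa [mul_comm, mul_assoc, inv_mul_cancel₀ h0, mul_one] at h1

end

end Cfsg.Agent.Omega.All.F4K.LocA

end

section


/-!
# `F₄(q)`: the fields `irr`, `comm`, `typ`, `mix` in local coordinates (helper866)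

* `LocA.conj_l`, `LocA.conj_c` : the action of the Levi factor on `V`;
* `LocA.transV` : `P` is transitive on `V/X`: every `g ∈ V ∖ X` is conjugate under `P` to `x₀(r) v_(0,+)(α)`, `α ≠ 0`;
* `LocA.mix` : `[g, Q] = X` for `g ∈ Q ∖ V`;
* `LocA.comm_eq` : `[Q, Q] = X`; `LocA.irr_eq` : the field `irr`.
-/

set_option autoImplicit false
set_option linter.unusedSectionVars false
set_option linter.style.haveILetI false

namespace Cfsg.Agent.Omega.All.F4K.LocA

open Subgroup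
open Cfsg.Agent.OddHalf.D7F4Ex (J Sp ng fl op thd wt ws ng_ng ng_ne op_op fl_fl fl_self fl_ne)
open Cfsg.Agent.OddHalf.D7F4Ex.Loc (gV Xs Vs Qs Ps zero_of_add self_of_add inv_of_add X_le_V V_le_Q Q_le_P v_mem z_mem
  c_mem l_mem th_mem)
open scoped commutatorElement

variable {F : Type*} [Field F] {G : Type*} [Group G] {x0 : F → G} {v : J → F → G} {z : Sp → F → G} {c : J → F → G}
  {l : J → J → F → G} {th : (Fin 3 → Fˣ) →* G} (L : LocA x0 v z c l th)

include L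

/-- a property of `ω` which is additive holds if it holds for the `Pi.single j u` -/
theorem ind_single {p : (J → F) → Prop} (h0 : p 0) (ha : ∀ ω ω', p ω → p ω' → p (ω + ω'))
    (hs : ∀ j u, p (Pi.single j u)) (ω : J → F) : p ω := by
  classical
  have h1 : ω = ∑ j, Pi.single j (ω j) := (Finset.univ_sum_single ω).symm
  rw [h1]
  exact Finset.sum_induction _ p ha h0 fun j _ => hs j _

theorem conj_l {a b : J} (hab : a.1 ≠ b.1) (s : F) (ω : J → F) :
    l a b s * (L.vv ω : G) * (l a b s)⁻¹ = L.vv (ω + Pi.single b (s * ω (ng a)) + Pi.single a (s * ω (ng b))) := by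
  have hbn : ng b ≠ ng a := fun h => hab (by
    have := congrArg Prod.fst h
    exact this.symm)
  refine L.ind_single (p := fun ω => l a b s * (L.vv ω : G) * (l a b s)⁻¹ =
    L.vv (ω + Pi.single b (s * ω (ng a)) + Pi.single a (s * ω (ng b)))) ?_ ?_ ?_ ω
  · rw [L.vv_zero, mul_one, mul_inv_cancel, Pi.zero_apply, Pi.zero_apply, mul_zero, Pi.single_zero, Pi.single_zero,
      add_zero, add_zero, L.vv_zero]
  · intro ω ω' h h'
    have e : ω + ω' + Pi.single b (s * (ω + ω') (ng a)) + Pi.single a (s * (ω + ω') (ng b)) =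
        (ω + Pi.single b (s * ω (ng a)) + Pi.single a (s * ω (ng b))) +
          (ω' + Pi.single b (s * ω' (ng a)) + Pi.single a (s * ω' (ng b))) := by
      rw [Pi.add_apply, Pi.add_apply, mul_add, mul_add, Pi.single_add, Pi.single_add]; abel
    rw [e, L.vv_add, L.vv_add, ← h, ← h']
    group
  · intro j u
    rw [L.vv_single]
    by_cases h1 : j = ng a
    · subst h1
      rw [Pi.single_eq_same, Pi.single_eq_of_ne hbn, mul_zero, Pi.single_zero, add_zero, L.vv_add, L.vv_single,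
        L.vv_single, L.l_v _ _ _ _ hab, ← L.v_v]
    by_cases h2 : j = ng b
    · subst h2
      rw [Pi.single_eq_same, Pi.single_eq_of_ne (Ne.symm hbn), mul_zero, Pi.single_zero, add_zero, L.vv_add, L.vv_single,
        L.vv_single, L.l_symm, L.l_v _ _ _ _ (Ne.symm hab), ← L.v_v]
    · rw [Pi.single_eq_of_ne (Ne.symm h1), Pi.single_eq_of_ne (Ne.symm h2), mul_zero, Pi.single_zero, Pi.single_zero,
        add_zero, add_zero, L.vv_single, L.l_v' _ _ _ _ _ hab h1 h2, mul_inv_cancel_right]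

theorem conj_c (k : J) (u : F) (ω : J → F) :
    c k u * (L.vv ω : G) * (c k u)⁻¹ = x0 (u * ω (ng k)) * L.vv (ω + Pi.single k (u ^ 2 * ω (ng k))) := by
  refine L.ind_single (p := fun ω => c k u * (L.vv ω : G) * (c k u)⁻¹ =
    x0 (u * ω (ng k)) * L.vv (ω + Pi.single k (u ^ 2 * ω (ng k)))) ?_ ?_ ?_ ω
  · rw [L.vv_zero, mul_one, mul_inv_cancel, Pi.zero_apply, mul_zero, mul_zero, Pi.single_zero, add_zero, L.vv_zero,
      zero_of_add L.x0_add, mul_one]
  · intro ω ω' h h'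
    have e : ω + ω' + Pi.single k (u ^ 2 * (ω + ω') (ng k)) =
        (ω + Pi.single k (u ^ 2 * ω (ng k))) + (ω' + Pi.single k (u ^ 2 * ω' (ng k))) := by
      rw [Pi.add_apply, mul_add, Pi.single_add]; abel
    have h3 := L.VV (z := z) (X_le_V (L.x0_mem (u * ω' (ng k)))) (L.vv (ω + Pi.single k (u ^ 2 * ω (ng k)))).2
    calc c k u * (L.vv (ω + ω') : G) * (c k u)⁻¹ =
        (c k u * L.vv ω * (c k u)⁻¹) * (c k u * L.vv ω' * (c k u)⁻¹) := by rw [L.vv_add]; group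
      _ = x0 (u * ω (ng k)) * (L.vv (ω + Pi.single k (u ^ 2 * ω (ng k))) * x0 (u * ω' (ng k))) *
          L.vv (ω' + Pi.single k (u ^ 2 * ω' (ng k))) := by rw [h, h']; group
      _ = (x0 (u * ω (ng k)) * x0 (u * ω' (ng k))) * (L.vv (ω + Pi.single k (u ^ 2 * ω (ng k))) *
          L.vv (ω' + Pi.single k (u ^ 2 * ω' (ng k)))) := by rw [← h3]; group
      _ = x0 (u * ω (ng k) + u * ω' (ng k)) * L.vv ((ω + Pi.single k (u ^ 2 * ω (ng k))) +
          (ω' + Pi.single k (u ^ 2 * ω' (ng k)))) := by rw [L.x0_add, ← L.vv_add]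
      _ = _ := by rw [e, Pi.add_apply, mul_add]
  · intro j u'
    rw [L.vv_single]
    by_cases h1 : j = ng k
    · subst h1
      rw [Pi.single_eq_same, L.vv_add, L.vv_single, L.vv_single, L.c_v, mul_assoc, ← L.v_v]
    · rw [Pi.single_eq_of_ne (Ne.symm h1), mul_zero, mul_zero, Pi.single_zero, add_zero, zero_of_add L.x0_add, one_mul,
        L.vv_single, L.c_v' _ _ _ _ h1, mul_inv_cancel_right]

/-- conjugate under `P` to `x₀(r) v_(0,+)(α)`, `α ≠ 0` -/
def Good (x0 : F → G) (v : J → F → G) (z : Sp → F → G) (c : J → F → G) (l : J → J → F → G)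
    (th : (Fin 3 → Fˣ) →* G) (g : G) : Prop :=
  ∃ p ∈ Ps x0 v z c l th, ∃ r α, α ≠ 0 ∧ p * g * p⁻¹ = x0 r * v (0, true) α

omit L in
theorem Good.of_conj {g p : G} (hp : p ∈ Ps x0 v z c l th) (h : Good x0 v z c l th (p * g * p⁻¹)) :
    Good x0 v z c l th g := by
  obtain ⟨p', hp', r, α, h1, h2⟩ := h
  exact ⟨p' * p, mul_mem hp' hp, r, α, h1, by rw [← h2]; group⟩

theorem conj_x0 {p : G} (hp : p ∈ Ps x0 v z c l th) (r : F) (y : G) : p * (x0 r * y) * p⁻¹ = x0 r * (p * y * p⁻¹) := by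
  have h1 := L.XP (L.x0_mem r) hp
  calc p * (x0 r * y) * p⁻¹ = (p * x0 r) * y * p⁻¹ := by group
    _ = _ := by rw [← h1]; group

/-- only the coordinates `(0, ±)` -/
theorem good_C [Finite F] (r : F) (ω : J → F) (h1 : ω (0, true) ≠ 0) (h2 : ∀ j : J, j.1 ≠ 0 → ω j = 0) :
    Good x0 v z c l th (x0 r * L.vv ω) := by
  obtain ⟨u, hu⟩ := L.exists_sqrt (ω (0, false) * (ω (0, true))⁻¹)
  have hp : c (0, false) u ∈ Ps x0 v z c l th := c_mem _ _
  have hng : ng ((0, false) : J) = (0, true) := rfl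
  refine ⟨_, hp, r + u * ω (0, true), ω (0, true), h1, ?_⟩
  rw [L.conj_x0 hp, L.conj_c, hng, hu, ← mul_assoc, ← L.x0_add]
  congr 1
  have e : ω + Pi.single (0, false) (ω (0, false) * (ω (0, true))⁻¹ * ω (0, true)) = Pi.single (0, true) (ω (0, true)) := by
    funext j
    rw [inv_mul_cancel_right₀ h1, Pi.add_apply]
    by_cases hj : j.1 = 0
    · obtain ⟨j1, j2⟩ := j
      simp only at hj
      subst hj
      cases j2
      · rw [Pi.single_eq_same, L.two, Pi.single_eq_of_ne (by simp)]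
      · rw [Pi.single_eq_same, Pi.single_eq_of_ne (by simp), add_zero]
    · have h3 : j ≠ (0, false) := fun h => hj (by rw [h])
      have h4 : j ≠ (0, true) := fun h => hj (by rw [h])
      rw [Pi.single_eq_of_ne h3, Pi.single_eq_of_ne h4, add_zero, h2 j hj]
  rw [e, L.vv_single]

open scoped Classical in
theorem good_B [Finite F] (r : F) (n : ℕ) : ∀ ω : J → F, ω (0, true) ≠ 0 →
    (Finset.univ.filter fun j : J => j.1 ≠ 0 ∧ ω j ≠ 0).card ≤ n → Good x0 v z c l th (x0 r * L.vv ω) := by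
  induction n with
  | zero =>
    intro ω h1 h2
    refine L.good_C r ω h1 fun j hj => ?_
    by_contra h3
    have h4 : j ∈ Finset.univ.filter fun j : J => j.1 ≠ 0 ∧ ω j ≠ 0 := Finset.mem_filter.2 ⟨Finset.mem_univ _, hj, h3⟩
    rw [Finset.card_eq_zero.1 (Nat.le_zero.1 h2)] at h4
    exact absurd h4 (Finset.notMem_empty _)
  | succ n ih =>
    intro ω h1 h2
    by_cases h3 : ∃ j : J, j.1 ≠ 0 ∧ ω j ≠ 0
    · obtain ⟨j, hj, hω⟩ := h3
      have hne : ((0, false) : J).1 ≠ j.1 := Ne.symm hj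
      have hp : l (0, false) j (ω j * (ω (0, true))⁻¹) ∈ Ps x0 v z c l th := l_mem hne _
      refine Good.of_conj hp ?_
      rw [L.conj_x0 hp, L.conj_l hne]
      have hng : ng ((0, false) : J) = (0, true) := rfl
      rw [hng, inv_mul_cancel_right₀ h1]
      set ω' : J → F := ω + Pi.single j (ω j) + Pi.single (0, false) (ω j * (ω (0, true))⁻¹ * ω (ng j)) with hω'
      have e1 : ∀ i : J, i ≠ j → i ≠ (0, false) → ω' i = ω i := by
        intro i hi hi'
        rw [hω', Pi.add_apply, Pi.add_apply, Pi.single_eq_of_ne hi, Pi.single_eq_of_ne hi', add_zero, add_zero]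
      have hj0 : j ≠ (0, false) := fun h => hj (by rw [h])
      have e2 : ω' j = 0 := by
        rw [hω', Pi.add_apply, Pi.add_apply, Pi.single_eq_same, Pi.single_eq_of_ne hj0, add_zero, L.two]
      have e3 : ω' (0, true) = ω (0, true) := e1 _ (fun h => hj (by rw [← h])) (by simp)
      refine ih ω' (by rw [e3]; exact h1) ?_
      have h4 : (Finset.univ.filter fun i : J => i.1 ≠ 0 ∧ ω' i ≠ 0) ⊂
          (Finset.univ.filter fun i : J => i.1 ≠ 0 ∧ ω i ≠ 0) := by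
        rw [Finset.ssubset_iff_of_subset]
        · refine ⟨j, Finset.mem_filter.2 ⟨Finset.mem_univ _, hj, hω⟩, fun h => ?_⟩
          exact (Finset.mem_filter.1 h).2.2 e2
        · intro i hi
          obtain ⟨-, hi1, hi2⟩ := Finset.mem_filter.1 hi
          have hij : i ≠ j := fun h => hi2 (by rw [h]; exact e2)
          have hi0 : i ≠ (0, false) := fun h => hi1 (by rw [h])
          exact Finset.mem_filter.2 ⟨Finset.mem_univ _, hi1, by rw [← e1 i hij hi0]; exact hi2⟩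
      have := Finset.card_lt_card h4
      omega
    · push Not at h3
      exact L.good_C r ω h1 h3

theorem good_A [Finite F] (r : F) (ω : J → F) (h : ω ≠ 0) : Good x0 v z c l th (x0 r * L.vv ω) := by
  classical
  by_cases h1 : ω (0, true) ≠ 0
  · exact L.good_B r _ ω h1 le_rfl
  · rw [not_not] at h1
    obtain ⟨j, hj⟩ : ∃ j, ω j ≠ 0 := by
      by_contra h2
      push Not at h2
      exact h (funext h2)
    by_cases h2 : j.1 = 0
    · -- `j = (0, false)`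
      have hj' : j = (0, false) := by
        obtain ⟨j1, j2⟩ := j
        simp only at h2
        subst h2
        cases j2
        · rfl
        · exact absurd h1 hj
      subst hj'
      have hp : c (0, true) 1 ∈ Ps x0 v z c l th := c_mem _ _
      refine Good.of_conj hp ?_
      rw [L.conj_x0 hp, L.conj_c, ← mul_assoc, ← L.x0_add]
      refine L.good_B _ _ _ ?_ le_rfl
      rw [Pi.add_apply, Pi.single_eq_same, h1, zero_add, one_pow, one_mul]
      exact hj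
    · have hne : (ng j).1 ≠ ((0, true) : J).1 := h2
      have hp : l (ng j) (0, true) 1 ∈ Ps x0 v z c l th := l_mem hne _
      refine Good.of_conj hp ?_
      rw [L.conj_x0 hp, L.conj_l hne, ng_ng]
      refine L.good_B _ _ _ ?_ le_rfl
      have h3 : ((0, true) : J) ≠ ng j := fun h => hne (by rw [← h])
      rw [Pi.add_apply, Pi.add_apply, Pi.single_eq_same, Pi.single_eq_of_ne h3, add_zero, h1, zero_add, one_mul]
      exact hj

/-- **`P` is transitive on `V/X`.** -/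
theorem transV [Finite F] {g : G} (hg : g ∈ Vs x0 v) (hX : g ∉ Xs x0) :
    ∃ p ∈ Ps x0 v z c l th, ∃ r α, α ≠ 0 ∧ p * g * p⁻¹ = x0 r * v (0, true) α := by
  obtain ⟨r, ω, h⟩ := L.exists_coV hg
  rw [h.eq]
  refine L.good_A r ω fun h0 => hX ?_
  rw [h.eq, h0, L.vv_zero, mul_one]
  exact L.x0_mem r

/-- **`[g, Q] = X` for `g ∈ Q ∖ V`.** -/
theorem mix {g x : G} (hg : g ∈ Qs x0 v z) (hV : g ∉ Vs x0 v) (hx : x ∈ Xs x0) :
    ∃ q ∈ Qs x0 v z, q * g * q⁻¹ = g * x := by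
  obtain ⟨a, ha⟩ := L.coQ_of_mem hg
  obtain ⟨b, rfl⟩ := L.mem_X.1 hx
  have h0 : a ≠ 0 := by
    rintro rfl
    exact hV (L.mem_V_of_coQ hg ha)
  obtain ⟨i, hi⟩ : ∃ i, a i ≠ 0 := by
    by_contra h2
    push Not at h2
    exact h0 (funext h2)
  have h1 := ha (op i) (b * (a i)⁻¹)
  beta_reduce at h1
  rw [op_op, mul_comm b, mul_inv_cancel_left₀ hi] at h1
  refine ⟨z (op i) ((a i)⁻¹ * b), z_mem _ _, ?_⟩
  have h2 := L.XP (c := c) (l := l) (th := th) (L.x0_mem b) (Q_le_P hg)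
  have h3 := L.x0_z b (op i) ((a i)⁻¹ * b)
  have h4 : g * z (op i) ((a i)⁻¹ * b) = x0 b * z (op i) ((a i)⁻¹ * b) * g := by
    rw [← h1]; group
  have h5 : x0 b * x0 b = 1 := self_of_add L.two L.x0_add b
  calc z (op i) ((a i)⁻¹ * b) * g * (z (op i) ((a i)⁻¹ * b))⁻¹
      = (x0 b * x0 b) * z (op i) ((a i)⁻¹ * b) * g * (z (op i) ((a i)⁻¹ * b))⁻¹ := by rw [h5, one_mul]
    _ = x0 b * (x0 b * z (op i) ((a i)⁻¹ * b) * g) * (z (op i) ((a i)⁻¹ * b))⁻¹ := by group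
    _ = x0 b * (g * z (op i) ((a i)⁻¹ * b)) * (z (op i) ((a i)⁻¹ * b))⁻¹ := by rw [h4]
    _ = x0 b * g := by group
    _ = g * x0 b := h2

/-- `[Q, Q] = X` -/
theorem comm_eq : ⁅Qs x0 v z, Qs x0 v z⁆ = Xs x0 := by
  refine le_antisymm ?_ L.X_le_comm
  rw [commutator_le]
  intro a ha b hb
  rw [commutatorElement_def]
  exact L.QQ ha hb

/-- `U = Z(Q)` -/
theorem V_eq : Vs x0 v = Qs x0 v z ⊓ centralizer (Qs x0 v z : Set G) := by
  apply le_antisymm
  · intro y hy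
    exact ⟨V_le_Q hy, mem_centralizer_iff.2 fun q hq => (L.VQ hy hq).symm⟩
  · rintro y ⟨h1, h2⟩
    exact L.ZQ h1 fun q hq => (mem_centralizer_iff.1 h2 q hq).symm

/-- the field `irr` -/
theorem irr_eq {C T : Subgroup G} (hC : Ps x0 v z c l th ≤ C) (hT : T ≤ Qs x0 v z)
    (hn : C ≤ normalizer (T : Set G)) (h : Qs x0 v z ⊓ centralizer (T : Set G) ≤ T) : T = Qs x0 v z := by
  have h1 : Vs x0 v ≤ T := by
    refine le_trans (fun y hy => ?_) h
    exact ⟨V_le_Q hy, mem_centralizer_iff.2 fun q hq => (L.VQ hy (hT hq)).symm⟩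
  rcases L.irrQ h1 hT (fun p hp r hr => (mem_normalizer_iff.1 (hn (hC hp)) r).1 hr) with h2 | h2
  · exfalso
    obtain ⟨q, hq, hq'⟩ := L.neQ
    refine hq' ?_
    rw [← h2]
    refine h ⟨hq, mem_centralizer_iff.2 fun y hy => ?_⟩
    rw [h2] at hy
    exact L.VQ hy hq
  · exact h2

end Cfsg.Agent.Omega.All.F4K.LocA

end

end

-- merged: Cfsg.Agent.Mrg.Omega.All.F4K.Chart
section

/-!
# The chart of `F₄(q)`, all even `q` (helper866)

`ChartA` = `Chart` of helper250's `D7F4Ex/Chart.lean` without the field `big`; `ChartA.loc`, `ChartA.dual`, `chart_id`,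
`chart_comp`, `chart`.
-/

set_option autoImplicit false
set_option linter.unusedSectionVars false
set_option Elab.async false

namespace Cfsg.Agent.Omega.All.F4K

open Cfsg.Agent.OddHalf.D7F4 Cfsg.Agent.OddHalf.D7F4.Model
open Cfsg.Agent.OddHalf.D7F4Ex (J Sp ng fl op thd wt ws ng_ng ng_ne op_op fl_fl fl_self fl_ne dd sc s0 sg rc rv rl rz dd_add
  rfl' chd nE s0_mem rc_mem rv_mem rz_mem rl_mem rv_ne t_v t_z t_c t_l t_vv t_vz t_zz t_zop t_cv t_cv' t_cz t_cz' t_lv t_lv'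
  t_lz t_lz' t_lc d_s0 d_rc d_rz consH oneH chd_eq chd_consH chd_oneH wt_eq ws_eq chd_add k_norm k_c1 k_c2 k_inj k_neg
  k_rfl dualE dualH dualE_short dualE_long rt_sq chd_dual_short chd_dual_long nE_dual)

variable {F : Type*} [Field F] {G : Type*} [Group G]

/-- Root elements of `F₄(F)`, characteristic two. -/
structure ChartA (E : (Fin 4 → ℤ) → F → G) (T : (Fin 4 → Fˣ) →* G) : Prop where
  two : ∀ u : F, u + u = 0
  add : ∀ a ∈ rts, ∀ u v, E a (u + v) = E a u * E a v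
  inj : ∀ a ∈ rts, ∀ u, E a u = 1 → u = 0
  sep : ∀ a ∈ rts, ∀ b ∈ rts, a ≠ b → ∀ u v, E a u = E b v → v = 0
  c0 : ∀ a ∈ rts, ∀ b ∈ rts, 0 ≤ B a b → ∀ u v, E a u * E b v = E b v * E a u
  c1 : ∀ a ∈ rts, ∀ b ∈ rts, B a a = B b b → B a b < 0 → a ≠ -b → ∀ u v,
    E a u * E b v * (E a u)⁻¹ * (E b v)⁻¹ = E (a + b) (u * v)
  c2 : ∀ a ∈ rts, ∀ b ∈ rts, B a a = 4 → B b b = 2 → B a b = -2 → ∀ u v,
    E a u * E b v * (E a u)⁻¹ * (E b v)⁻¹ = E (a + b) (u * v) * E (a + b + b) (u * v ^ 2)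
  tor : ∀ a ∈ rts, ∀ ν u, T ν * E a u * (T ν)⁻¹ = E a ((chd ν a : F) * u)
  nrf : ∀ a ∈ rts, ∀ b ∈ rts, ∀ u, nE E a * E b u * (nE E a)⁻¹ = E (rfl' a b) u

namespace ChartA

variable {E : (Fin 4 → ℤ) → F → G} {T : (Fin 4 → Fˣ) →* G} (C : ChartA E T)

include C

theorem zero {a : Fin 4 → ℤ} (ha : a ∈ rts) : E a 0 = 1 := by
  have h1 := C.add a ha 0 0
  rw [add_zero] at h1
  exact (mul_eq_left.1 h1.symm)

theorem sq {a : Fin 4 → ℤ} (ha : a ∈ rts) (u : F) : E a u * E a u = 1 := by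
  rw [← C.add a ha, C.two, C.zero ha]

theorem inv {a : Fin 4 → ℤ} (ha : a ∈ rts) (u : F) : (E a u)⁻¹ = E a u := inv_eq_of_mul_eq_one_left (C.sq ha u)

/-- conjugation, same length -/
theorem conj1 {a b : Fin 4 → ℤ} (ha : a ∈ rts) (hb : b ∈ rts) (h1 : B a a = B b b) (h2 : B a b < 0) (h3 : a ≠ -b)
    (u v : F) : E a u * E b v * (E a u)⁻¹ = E (a + b) (u * v) * E b v := by
  rw [← C.c1 a ha b hb h1 h2 h3]; group

/-- conjugation of a short root element by a long one -/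
theorem conj2 {a b : Fin 4 → ℤ} (ha : a ∈ rts) (hb : b ∈ rts) (h1 : B a a = 4) (h2 : B b b = 2) (h3 : B a b = -2)
    (u v : F) : E a u * E b v * (E a u)⁻¹ = E (a + b) (u * v) * E (a + b + b) (u * v ^ 2) * E b v := by
  rw [← C.c2 a ha b hb h1 h2 h3]; group

theorem add2_mem {a b : Fin 4 → ℤ} (ha : a ∈ rts) (hb : b ∈ rts) (h1 : B a a = 4) (h2 : B b b = 2) (h3 : B a b = -2) :
    a + b ∈ rts ∧ a + b + b ∈ rts ∧ 0 ≤ B (a + b) (a + b + b) := by
  obtain ⟨m1, m2, m3, m4, -⟩ := roots.add_ls ha hb h1 h2 h3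
  exact ⟨m1, m4, by rw [roots.add_right, m2, m3]; norm_num⟩

/-- conjugation of a long root element by a short one -/
theorem conj2' {a b : Fin 4 → ℤ} (ha : a ∈ rts) (hb : b ∈ rts) (h1 : B a a = 4) (h2 : B b b = 2) (h3 : B a b = -2)
    (u v : F) : E b v * E a u * (E b v)⁻¹ = E (a + b) (v * u) * E (a + b + b) (v ^ 2 * u) * E a u := by
  obtain ⟨h4, h5, h6⟩ := C.add2_mem ha hb h1 h2 h3
  have e1 : E b v * E a u * (E b v)⁻¹ = (E a u * E b v * (E a u)⁻¹ * (E b v)⁻¹)⁻¹ * E a u := by group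
  rw [e1, C.c2 a ha b hb h1 h2 h3, mul_inv_rev, C.inv h4, C.inv h5, ← C.c0 _ h4 _ h5 h6, mul_comm u v,
    mul_comm u (v ^ 2)]

theorem tor_comm {a : Fin 4 → ℤ} (ha : a ∈ rts) {ν : Fin 4 → Fˣ} (h : chd ν a = 1) (u : F) :
    T ν * E a u = E a u * T ν := by
  have h1 := C.tor a ha ν u
  rw [h, Units.val_one, one_mul] at h1
  calc T ν * E a u = (T ν * E a u * (T ν)⁻¹) * T ν := by group
    _ = _ := by rw [h1]

/-- **The parabolic subgroup of `s0`.** -/
theorem loc : LocA (E s0) (fun j => E (rv j)) (fun i => E (rz i)) (fun j => E (rc j)) (fun j k => E (rl j k))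
    (T.comp consH) where
  two := C.two
  x0_add := C.add _ s0_mem
  v_add := fun j => C.add _ (rv_mem j)
  z_add := fun i => C.add _ (rz_mem i)
  c_add := fun j => C.add _ (rc_mem j)
  l_add := fun j k a b h => C.add _ (rl_mem j k h) a b
  l_symm := fun j k a => by unfold rl; rw [add_comm]
  x0_inj := C.inj _ s0_mem
  xv := fun a j b h => C.sep _ s0_mem _ (rv_mem j) (rv_ne j) a b h
  x0_v := fun a j b => C.c0 _ s0_mem _ (rv_mem j) (t_v j) a b
  x0_z := fun a j b => C.c0 _ s0_mem _ (rz_mem j) (t_z j) a b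
  x0_c := fun a j b => C.c0 _ s0_mem _ (rc_mem j) (t_c j) a b
  x0_l := fun a j k b h => C.c0 _ s0_mem _ (rl_mem j k h) (t_l j k h) a b
  v_v := fun j a k b => C.c0 _ (rv_mem j) _ (rv_mem k) (t_vv j k) a b
  v_z := fun j a i b => C.c0 _ (rv_mem j) _ (rz_mem i) (t_vz j i) a b
  z_z := fun i a j b h => C.c0 _ (rz_mem i) _ (rz_mem j) (t_zz i j h) a b
  z_op := fun i a b => by
    obtain ⟨h1, h2, h3, h4⟩ := t_zop i
    have := C.conj1 (rz_mem i) (rz_mem (op i)) h1 h2 h3 a b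
    rwa [h4] at this
  c_v := fun k a b => by
    obtain ⟨h1, h2, h3, h4, h5⟩ := t_cv k
    have := C.conj2' (rv_mem (ng k)) (rc_mem k) h1 h2 h3 b a
    rwa [h5, h4] at this
  c_v' := fun k a j b h => C.c0 _ (rc_mem k) _ (rv_mem j) (t_cv' k j h) a b
  c_z := fun k a i b h => by
    obtain ⟨h1, h2, h3, h4⟩ := t_cz k i h
    have := C.conj1 (rc_mem k) (rz_mem i) h1 h2 h3 a b
    rwa [h4] at this
  c_z' := fun k a i b h => C.c0 _ (rc_mem k) _ (rz_mem i) (t_cz' k i h) a b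
  l_v := fun a b s u h => by
    obtain ⟨h1, h2, h3, h4⟩ := t_lv a b h
    have := C.conj1 (rl_mem a b h) (rv_mem (ng a)) h1 h2 h3 s u
    rwa [h4] at this
  l_v' := fun a b s j u h h1 h2 => C.c0 _ (rl_mem a b h) _ (rv_mem j) (t_lv' a b j h h1 h2) s u
  l_z := fun a b s i u h h1 h2 => by
    obtain ⟨h3, h4, h5, h6, h7⟩ := t_lz a b i h h1 h2
    have := C.conj2 (rl_mem a b h) (rz_mem i) h3 h4 h5 s u
    rwa [h7, h6] at this
  l_z' := fun a b s i u h h1 => C.c0 _ (rl_mem a b h) _ (rz_mem i) (t_lz' a b i h h1) s u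
  l_c := fun a b s u h => by
    obtain ⟨h3, h4, h5, h6, h7⟩ := t_lc a b h
    have := C.conj2 (rl_mem a b h) (rc_mem (ng a)) h3 h4 h5 s u
    rwa [h7, h6] at this
  th_x0 := fun ν a => C.tor_comm s0_mem (by
    rw [chd_consH, d_s0]
    show ν 0 ^ (0 : ℤ) * ν 1 ^ (0 : ℤ) * ν 2 ^ (0 : ℤ) = 1
    rw [zpow_zero, zpow_zero, zpow_zero, mul_one, mul_one]) a
  th_v := fun ν j a => by
    show T (consH ν) * E (rv j) a * (T (consH ν))⁻¹ = _
    rw [C.tor _ (rv_mem j), rv, chd_add, chd_consH, chd_consH, wt_eq, d_s0]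
    show E _ (((ν 0 ^ (0 : ℤ) * ν 1 ^ (0 : ℤ) * ν 2 ^ (0 : ℤ) * wt ν j : Fˣ) : F) * a) = _
    rw [zpow_zero, zpow_zero, zpow_zero, mul_one, mul_one, one_mul]
  th_z := fun ν i a => by
    show T (consH ν) * E (rz i) a * (T (consH ν))⁻¹ = _
    rw [C.tor _ (rz_mem i), chd_consH, ws_eq]
  th_c := fun ν j a => by
    show T (consH ν) * E (rc j) a * (T (consH ν))⁻¹ = _
    rw [C.tor _ (rc_mem j), chd_consH, wt_eq]
  th_l := fun ν j k a h => by
    show T (consH ν) * E (rl j k) a * (T (consH ν))⁻¹ = _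
    rw [C.tor _ (rl_mem j k h), rl, chd_add, chd_consH, chd_consH, wt_eq, wt_eq, Units.val_mul]

end ChartA



section

variable {E : (Fin 4 → ℤ) → F → G} {T : (Fin 4 → Fˣ) →* G} (rt : F ≃+* F)

variable (hrt : ∀ u, rt u ^ 2 = u)

include hrt in
/-- **The dual chart.** -/
theorem ChartA.dual (C : ChartA E T) : ChartA (dualE rt E) (T.comp (dualH rt)) where
  two := C.two
  add := by
    intro a ha u v
    rcases k_norm a ha with ⟨h, -⟩ | ⟨h, -⟩
    · rw [dualE_short rt h, dualE_short rt h, dualE_short rt h]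
      exact C.add _ (dual_mem a ha) u v
    · rw [dualE_long rt h, dualE_long rt h, dualE_long rt h, map_add]
      exact C.add _ (dual_mem a ha) _ _
  inj := by
    intro a ha u hu
    rcases k_norm a ha with ⟨h, -⟩ | ⟨h, -⟩
    · rw [dualE_short rt h] at hu
      exact C.inj _ (dual_mem a ha) u hu
    · rw [dualE_long rt h] at hu
      have := C.inj _ (dual_mem a ha) _ hu
      exact (map_eq_zero_iff rt rt.injective).1 this
  sep := by
    intro a ha b hb hab u v huv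
    obtain ⟨u', hu'⟩ : ∃ u', dualE rt E a u = E (Cfsg.Agent.OddHalf.D7F4.Model.dual a) u' := by
      unfold dualE; split_ifs <;> exact ⟨_, rfl⟩
    rcases k_norm b hb with ⟨h, -⟩ | ⟨h, -⟩
    · rw [hu', dualE_short rt h] at huv
      exact C.sep _ (dual_mem a ha) _ (dual_mem b hb) (k_inj a ha b hb hab) _ _ huv
    · rw [hu', dualE_long rt h] at huv
      have := C.sep _ (dual_mem a ha) _ (dual_mem b hb) (k_inj a ha b hb hab) _ _ huv
      exact (map_eq_zero_iff rt rt.injective).1 this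
  c0 := by
    intro a ha b hb hab u v
    obtain ⟨u', hu'⟩ : ∃ u', dualE rt E a u = E (Cfsg.Agent.OddHalf.D7F4.Model.dual a) u' := by
      unfold dualE; split_ifs <;> exact ⟨_, rfl⟩
    obtain ⟨v', hv'⟩ : ∃ v', dualE rt E b v = E (Cfsg.Agent.OddHalf.D7F4.Model.dual b) v' := by
      unfold dualE; split_ifs <;> exact ⟨_, rfl⟩
    rw [hu', hv']
    exact C.c0 _ (dual_mem a ha) _ (dual_mem b hb) (d0 a ha b hb hab) _ _
  c1 := by
    intro a ha b hb h1 h2 h3 u v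
    obtain ⟨h4, h5, h6, h7, h8⟩ := k_c1 a ha b hb h1 h2 h3
    have hn := dual_norm a ha
    have hn' := dual_norm b hb
    have h9 : B (Cfsg.Agent.OddHalf.D7F4.Model.dual a) (Cfsg.Agent.OddHalf.D7F4.Model.dual a) = B (Cfsg.Agent.OddHalf.D7F4.Model.dual b) (Cfsg.Agent.OddHalf.D7F4.Model.dual b) := by rw [hn, hn', h1]
    rcases k_norm a ha with ⟨h, -⟩ | ⟨h, -⟩
    · rw [dualE_short rt h, dualE_short rt (h1 ▸ h), dualE_short rt (h4.trans h), h8]
      exact C.c1 _ (dual_mem a ha) _ (dual_mem b hb) h9 h6 h7 u v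
    · rw [dualE_long rt h, dualE_long rt (h1 ▸ h), dualE_long rt (h4.trans h), h8, map_mul]
      exact C.c1 _ (dual_mem a ha) _ (dual_mem b hb) h9 h6 h7 _ _
  c2 := by
    intro a ha b hb h1 h2 h3 u v
    obtain ⟨h4, h5, h6, h7, h8, h9, h10⟩ := k_c2 a ha b hb h1 h2 h3
    have hna : B (Cfsg.Agent.OddHalf.D7F4.Model.dual a) (Cfsg.Agent.OddHalf.D7F4.Model.dual a) = 2 := by rw [dual_norm a ha, h1]; norm_num
    have hnb : B (Cfsg.Agent.OddHalf.D7F4.Model.dual b) (Cfsg.Agent.OddHalf.D7F4.Model.dual b) = 4 := by rw [dual_norm b hb, h2]; norm_num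
    have h11 := C.c2 _ (dual_mem b hb) _ (dual_mem a ha) hnb hna h8 v (rt u)
    rw [hrt, ← h9, ← h10] at h11
    rw [dualE_long rt h1, dualE_short rt h2, dualE_short rt h6, dualE_long rt h7, map_mul, map_pow, hrt]
    have h12 : E (Cfsg.Agent.OddHalf.D7F4.Model.dual a) (rt u) * E (Cfsg.Agent.OddHalf.D7F4.Model.dual b) v * (E (Cfsg.Agent.OddHalf.D7F4.Model.dual a) (rt u))⁻¹ * (E (Cfsg.Agent.OddHalf.D7F4.Model.dual b) v)⁻¹ =
        (E (Cfsg.Agent.OddHalf.D7F4.Model.dual b) v * E (Cfsg.Agent.OddHalf.D7F4.Model.dual a) (rt u) * (E (Cfsg.Agent.OddHalf.D7F4.Model.dual b) v)⁻¹ * (E (Cfsg.Agent.OddHalf.D7F4.Model.dual a) (rt u))⁻¹)⁻¹ := by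
      group
    rw [h12, h11, mul_inv_rev, C.inv (dual_mem _ h4), C.inv (dual_mem _ h5), mul_comm v u, mul_comm v (rt u)]
  tor := by
    intro a ha ν u
    rcases k_norm a ha with ⟨h, -⟩ | ⟨h, -⟩
    · rw [dualE_short rt h, dualE_short rt h]
      show T (dualH rt ν) * _ * (T (dualH rt ν))⁻¹ = _
      rw [C.tor _ (dual_mem a ha), chd_dual_short rt hrt ν ha h]
    · rw [dualE_long rt h, dualE_long rt h]
      show T (dualH rt ν) * _ * (T (dualH rt ν))⁻¹ = _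
      rw [C.tor _ (dual_mem a ha), ← chd_dual_long rt hrt ν ha h, map_mul, Units.val_pow_eq_pow_val, rt_sq rt hrt]
  nrf := by
    intro a ha b hb u
    obtain ⟨h2, h3⟩ := k_rfl a ha b hb
    rw [nE_dual rt ha]
    rcases k_norm b hb with ⟨h, -⟩ | ⟨h, -⟩
    · rw [dualE_short rt h, dualE_short rt (h2.trans h), h3]
      exact C.nrf _ (dual_mem a ha) _ (dual_mem b hb) _
    · rw [dualE_long rt h, dualE_long rt (h2.trans h), h3]
      exact C.nrf _ (dual_mem a ha) _ (dual_mem b hb) _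


end

end Cfsg.Agent.Omega.All.F4K

namespace Cfsg.Agent.Omega.All.F4K

open CoxeterSystem Cfsg.Agent.ChevalleyStructure.CoxeterGeom Cfsg.Agent.Tits.Roots Cfsg.Agent.Tits.Core
open Cfsg.Lie Cfsg.Agent.ChevalleyStructure Cfsg.Agent.ChevalleyStructure.Elts
  Cfsg.Agent.ChevalleyStructure.RootVec Cfsg.Agent.ChevalleyStructure.CoxeterGeomTypes
open Cfsg.Agent.Nodes Cfsg.Agent.Nodes.Reps Cfsg.Agent.Nodes.BNOf Cfsg.Agent.Nodes.RGDChev Cfsg.Agent.Nodes.Coroot
  Cfsg.Agent.Nodes.KindF Cfsg.Agent.KFacts.ChevTwo Cfsg.Agent.KFacts.ChevTwoTab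
  Cfsg.Agent.KFacts.ChevTwoInst Cfsg.Agent.KFacts.F4Star Cfsg.Agent.KFacts.F4Cent Cfsg.Agent.KFacts.F4Pair
  Cfsg.Agent.KFacts.F4Torus Cfsg.Agent.KFacts.F4Model Cfsg.Agent.KFacts.F4Chart
open Cfsg.Agent.OddHalf.D7F4
open Cfsg.Agent.OddHalf.D7F4Ex (chd chd_add dd dd_add nE rfl' dualE dualH)

universe u

section Tor

variable {K : Type u} [Field K] [Finite K] [CharP K 2]

/-- **The chart of `F₄(q)`.** -/
theorem chart_id : ChartA (eF K) (torH K) where
  two u := CharTwo.add_self_eq_zero u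
  add a ha u v := (dat (K := K)).add a ((phi_iff cF a).1 ha) u v
  inj a ha u hu := e_eq_one ha hu
  sep a ha b hb hab u v huv := by
    have h1 : eF K b v = 1 := ind ha hb hab _ ((mem_X ha).2 ⟨u, huv⟩) ((mem_X hb).2 ⟨v, rfl⟩)
    exact e_eq_one hb h1
  c0 a ha b hb h u v := X0 ha hb h _ ((mem_X ha).2 ⟨u, rfl⟩) _ ((mem_X hb).2 ⟨v, rfl⟩)
  c1 a ha b hb h1 h2 h3 u v := comm1 ha hb h1 h2 h3 u v
  c2 a ha b hb h1 h2 h3 u v := comm2 ha hb h1 h2 h3 u v
  tor a ha ν u := torH_conj ν ha u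
  nrf a ha b hb u := by
    have hW := finW
    have h1 := (dat (K := K)).nel_conj ((phi_iff cF b).1 hb) ((phi_iff cF a).1 ha) u
    have h2 : rfl' a b = b - cpr cF isType.isCartan b a • a := by
      have h3 := two_B cF hb ha
      have h4 : Model.B a a ≠ 0 := by
        rcases Model.norm a ha with h | h <;> omega
      unfold Cfsg.Agent.OddHalf.D7F4Ex.rfl'
      rw [Model.B_symm a b, h3, Int.mul_ediv_cancel _ h4]
    rw [nel_def] at h1
    rw [h2, ← h1]
    unfold Cfsg.Agent.OddHalf.D7F4Ex.nE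
    rfl

variable {G : Type*} [Group G]

omit [Finite K] [CharP K 2] in
/-- Charts in overgroups. -/
theorem chart_comp {E : (Fin 4 → ℤ) → K → ↥(chevF4.group K)} {T : (Fin 4 → Kˣ) →* ↥(chevF4.group K)} (C : ChartA E T)
    {j : ↥(chevF4.group K) →* G} (hj : Function.Injective j) : ChartA (fun a u => j (E a u)) (j.comp T) where
  two := C.two
  add a ha u v := by rw [C.add a ha, map_mul]
  inj a ha u hu := C.inj a ha u (hj (by rw [map_one]; exact hu))
  sep a ha b hb hab u v huv := C.sep a ha b hb hab u v (hj huv)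
  c0 a ha b hb h u v := by rw [← map_mul, C.c0 a ha b hb h, map_mul]
  c1 a ha b hb h1 h2 h3 u v := by
    rw [← map_inv, ← map_inv, ← map_mul, ← map_mul, ← map_mul, C.c1 a ha b hb h1 h2 h3]
  c2 a ha b hb h1 h2 h3 u v := by
    rw [← map_inv, ← map_inv, ← map_mul, ← map_mul, ← map_mul, C.c2 a ha b hb h1 h2 h3, map_mul]
  tor a ha ν u := by
    rw [MonoidHom.comp_apply, ← map_inv, ← map_mul, ← map_mul, C.tor a ha]
  nrf a ha b hb u := by
    have h1 : nE (fun a u => j (E a u)) a = j (nE E a) := by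
      unfold Cfsg.Agent.OddHalf.D7F4Ex.nE
      rw [map_mul, map_mul]
    rw [h1, ← map_inv, ← map_mul, ← map_mul, C.nrf a ha b hb]

/-- **The chart of an embedded `F₄(q)`.** -/
theorem chart {j : ↥(chevF4.group K) →* G} (hj : Function.Injective j) :
    ChartA (fun a u => j (eF K a u)) (j.comp (torH K)) := chart_comp chart_id hj


end Tor

end Cfsg.Agent.Omega.All.F4K

end

-- merged: Cfsg.Agent.Mrg.Omega.All.F4K.Both
section

/-!
# `F₄(q)`, both root lengths: the fields `irr`, `comm`, `typ`, `mix` of `FFourDat` (helper866)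

`C : ChartA E T`, `rt` the inverse Frobenius.  `s0 = [2,3,2,1]` the highest short root, `rho = [2,4,3,2]` the highest
root.  `SE E A` is the subgroup generated by the root elements of the roots in `A`:
`X_s = SE {s0}`, `U_s = SE (AU s0)`, `Q_s = SE (AQ s0)` and the same for `rho`.
`P` stands for a subgroup which contains the root elements `E a u`, `0 ≤ B s a`, and the torus elements centralising `X`
(`ParS`, `ParL`).
-/

set_option autoImplicit false
set_option linter.unusedSectionVars false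
set_option Elab.async false

namespace Cfsg.Agent.Omega.All.F4K

open Subgroup
open Cfsg.Agent.OddHalf.D7F4 Cfsg.Agent.OddHalf.D7F4.Model
open Cfsg.Agent.OddHalf.D7F4Ex (J Sp ng fl op s0 sg rc rv rl rz chd consH oneH chd_eq chd_consH chd_oneH s0_mem rc_mem
  rv_mem rz_mem rl_mem dd d_s0 dualE dualH dualE_short dualE_long t_c t_l)
open Cfsg.Agent.OddHalf.D7F4Ex.Loc (gV Xs Vs Qs Ps)
open scoped commutatorElement

/-- the highest root -/
def rho : Fin 4 → ℤ := ![2, 4, 3, 2]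

/-- the roots of `U` -/
def AU (s : Fin 4 → ℤ) : Set (Fin 4 → ℤ) := {a | a = s ∨ (B a a ≠ B s s ∧ 0 < B s a)}

/-- the roots of `Q` -/
def AQ (s : Fin 4 → ℤ) : Set (Fin 4 → ℤ) := {a | 0 < B s a}

/-- the roots of `C(X)` -/
def AP (s : Fin 4 → ℤ) : Set (Fin 4 → ℤ) := {a | 0 ≤ B s a}

/-! ### Tables -/

theorem rho_mem : rho ∈ rts := by decide +kernel
theorem norm_rho : B rho rho = 4 := by decide +kernel
theorem norm_s0 : B s0 s0 = 2 := by decide +kernel
theorem B_s0_rho : B s0 rho = 2 := by decide +kernel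
theorem rho_eq : rv (0, true) = rho := by decide +kernel
theorem dual_s0 : dual s0 = rho := by decide +kernel
theorem dual_rho : dual rho = s0 := by decide +kernel
theorem norm_rv : ∀ j, B (rv j) (rv j) = 4 ∧ 0 < B s0 (rv j) := by decide +kernel
theorem norm_rz : ∀ i, B (rz i) (rz i) = 2 ∧ 0 < B s0 (rz i) := by decide +kernel
theorem norm_rc : ∀ j, B (rc j) (rc j) = 2 := by decide +kernel
theorem norm_rl : ∀ j k : J, j.1 ≠ k.1 → B (rl j k) (rl j k) = 4 := by decide +kernel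
theorem all_rv : ∀ a ∈ rts, B a a = 4 → 0 < B s0 a → ∃ j, a = rv j := by decide +kernel
theorem all_Q : ∀ a ∈ rts, 0 < B s0 a → a = s0 ∨ (∃ j, a = rv j) ∨ ∃ i, a = rz i := by decide +kernel
theorem d_rv : ∀ j, dual (rv j) ∈ rts ∧ B (dual (rv j)) (dual (rv j)) = 2 ∧ 0 < B rho (dual (rv j)) := by
  decide +kernel
theorem d_rz' : ∀ i, dual (rz i) ∈ rts ∧ B (dual (rz i)) (dual (rz i)) = 4 ∧ 0 < B rho (dual (rz i)) := by
  decide +kernel
theorem d_rc' : ∀ j, dual (rc j) ∈ rts ∧ 0 ≤ B rho (dual (rc j)) := by decide +kernel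
theorem d_rl' : ∀ j k : J, j.1 ≠ k.1 → dual (rl j k) ∈ rts ∧ 0 ≤ B rho (dual (rl j k)) := by decide +kernel
theorem all_rv_l : ∀ a ∈ rts, B a a = 2 → 0 < B rho a → ∃ j, a = dual (rv j) := by decide +kernel
theorem all_Q_l : ∀ a ∈ rts, 0 < B rho a → a = rho ∨ (∃ j, a = dual (rv j)) ∨ ∃ i, a = dual (rz i) := by
  decide +kernel
theorem d_rho : dd rho = ![2, 2, 0, 0] := by decide +kernel

variable {F : Type*} [Field F] {G : Type*} [Group G]

/-- the subgroup generated by the root elements of the roots in `A` -/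
def SE (E : (Fin 4 → ℤ) → F → G) (A : Set (Fin 4 → ℤ)) : Subgroup G :=
  closure {g | ∃ a ∈ rts, a ∈ A ∧ ∃ u, g = E a u}

theorem E_mem (E : (Fin 4 → ℤ) → F → G) {A : Set (Fin 4 → ℤ)} {a : Fin 4 → ℤ} (ha : a ∈ rts) (hA : a ∈ A) (u : F) :
    E a u ∈ SE E A := subset_closure ⟨a, ha, hA, u, rfl⟩

theorem SE_le (E : (Fin 4 → ℤ) → F → G) {A : Set (Fin 4 → ℤ)} {H : Subgroup G}
    (h : ∀ a ∈ rts, a ∈ A → ∀ u, E a u ∈ H) : SE E A ≤ H := by
  rw [SE, closure_le]
  rintro _ ⟨a, ha, hA, u, rfl⟩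
  exact h a ha hA u

theorem SE_mono (E : (Fin 4 → ℤ) → F → G) {A A' : Set (Fin 4 → ℤ)} (h : A ⊆ A') : SE E A ≤ SE E A' :=
  SE_le E fun _ ha hA u => E_mem E ha (h hA) u

variable {E : (Fin 4 → ℤ) → F → G} {T : (Fin 4 → Fˣ) →* G}

namespace ChartA

/-! ### The short side -/

section short

variable (C : ChartA E T)

theorem Xs_eq : Xs (E s0) = SE E {s0} := by
  apply le_antisymm
  · rw [Xs, closure_le]
    rintro _ ⟨u, rfl⟩
    exact E_mem E s0_mem (Set.mem_singleton _) u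
  · refine SE_le E fun a _ hA u => ?_
    rw [Set.mem_singleton_iff.1 hA]
    exact subset_closure ⟨u, rfl⟩

theorem Vs_eq : Vs (E s0) (fun j => E (rv j)) = SE E (AU s0) := by
  apply le_antisymm
  · rw [Vs, closure_le]
    rintro _ (⟨u, rfl⟩ | ⟨j, u, rfl⟩)
    · exact E_mem E s0_mem (Or.inl rfl) u
    · exact E_mem E (rv_mem j) (Or.inr ⟨by rw [(norm_rv j).1, norm_s0]; norm_num, (norm_rv j).2⟩) u
  · refine SE_le E fun a ha hA u => ?_
    rcases hA with rfl | ⟨h1, h2⟩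
    · exact subset_closure (Or.inl ⟨u, rfl⟩)
    · obtain ⟨j, rfl⟩ := all_rv a ha ((Model.norm a ha).resolve_left (by rwa [norm_s0] at h1)) h2
      exact subset_closure (Or.inr ⟨j, u, rfl⟩)

theorem Qs_eq : Qs (E s0) (fun j => E (rv j)) (fun i => E (rz i)) = SE E (AQ s0) := by
  apply le_antisymm
  · rw [Qs, closure_le]
    rintro _ ((⟨u, rfl⟩ | ⟨j, u, rfl⟩) | ⟨i, u, rfl⟩)
    · exact E_mem E s0_mem (show 0 < B s0 s0 by rw [norm_s0]; norm_num) u
    · exact E_mem E (rv_mem j) (norm_rv j).2 u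
    · exact E_mem E (rz_mem i) (norm_rz i).2 u
  · refine SE_le E fun a ha hA u => ?_
    rcases all_Q a ha hA with rfl | ⟨j, rfl⟩ | ⟨i, rfl⟩
    · exact subset_closure (Or.inl (Or.inl ⟨u, rfl⟩))
    · exact subset_closure (Or.inl (Or.inr ⟨j, u, rfl⟩))
    · exact subset_closure (Or.inr ⟨i, u, rfl⟩)

/-- `P` contains `C_K(X_s)` -/
structure ParS (E : (Fin 4 → ℤ) → F → G) (T : (Fin 4 → Fˣ) →* G) (P : Subgroup G) : Prop where
  E_mem : ∀ a ∈ rts, 0 ≤ B s0 a → ∀ u, E a u ∈ P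
  T_mem : ∀ ν, chd ν s0 = 1 → T ν ∈ P

theorem chd_consH_s0 (ν : Fin 3 → Fˣ) : chd (consH ν) s0 = 1 := by
  rw [chd_consH, d_s0]
  show ν 0 ^ (0 : ℤ) * ν 1 ^ (0 : ℤ) * ν 2 ^ (0 : ℤ) = 1
  rw [zpow_zero, zpow_zero, zpow_zero, mul_one, mul_one]

theorem ParS.le {P : Subgroup G} (h : ParS E T P) : Ps (E s0) (fun j => E (rv j)) (fun i => E (rz i))
    (fun j => E (rc j)) (fun j k => E (rl j k)) (T.comp consH) ≤ P := by
  rw [Ps, closure_le]
  rintro _ ((⟨u, rfl⟩ | ⟨j, u, rfl⟩) | ⟨i, u, rfl⟩ | ⟨j, u, rfl⟩ | ⟨j, k, u, hjk, rfl⟩ | ⟨ν, rfl⟩)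
  · exact h.E_mem _ s0_mem (by rw [norm_s0]; norm_num) u
  · exact h.E_mem _ (rv_mem j) (norm_rv j).2.le u
  · exact h.E_mem _ (rz_mem i) (norm_rz i).2.le u
  · exact h.E_mem _ (rc_mem j) (t_c j) u
  · exact h.E_mem _ (rl_mem j k hjk) (t_l j k hjk) u
  · exact h.T_mem _ (chd_consH_s0 ν)

include C

theorem comm_s : ⁅SE E (AQ s0), SE E (AQ s0)⁆ = SE E {s0} := by
  rw [← Xs_eq, ← Qs_eq]
  exact C.loc.comm_eq

theorem V_eq_s : SE E (AU s0) = SE E (AQ s0) ⊓ centralizer (SE E (AQ s0) : Set G) := by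
  rw [← Vs_eq, ← Qs_eq]
  exact C.loc.V_eq

theorem irr_s {P : Subgroup G} (hP : ParS E T P) : ∀ R : Subgroup G, R ≤ SE E (AQ s0) → P ≤ normalizer (R : Set G) →
    SE E (AQ s0) ⊓ centralizer (R : Set G) ≤ R → R = SE E (AQ s0) := by
  rw [← Qs_eq]
  intro R h1 h2 h3
  exact C.loc.irr_eq hP.le h1 h2 h3

/-- `[g, Q_s] = X_s` for `g ∈ Q_s ∖ U_s` -/
theorem mix_s : ∀ g ∈ SE E (AQ s0), g ∉ SE E (AU s0) → ∀ x ∈ SE E ({s0} : Set (Fin 4 → ℤ)),
    ∃ q ∈ SE E (AQ s0), q * g * q⁻¹ = g * x := by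
  rw [← Xs_eq, ← Qs_eq, ← Vs_eq]
  intro g hg hV x hx
  exact C.loc.mix hg hV hx

/-- `C_K(X_s)` is transitive on `U_s/X_s` -/
theorem transU_s [Finite F] {P : Subgroup G} (hP : ParS E T P) : ∀ g ∈ SE E (AU s0), g ∉ SE E ({s0} : Set (Fin 4 → ℤ)) →
    ∃ p ∈ P, ∃ r α, α ≠ 0 ∧ p * g * p⁻¹ = E s0 r * E rho α := by
  rw [← Xs_eq, ← Vs_eq]
  intro g hg hX
  obtain ⟨p, hp, r, α, h1, h2⟩ := C.loc.transV hg hX
  refine ⟨p, hP.le hp, r, α, h1, ?_⟩
  rw [h2]
  rw [rho_eq]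

end short

/-! ### The long side -/

section long

variable (rt : F ≃+* F)

theorem Xl_eq : Xs (dualE rt E s0) = SE E {rho} := by
  have e : ∀ u, dualE rt E s0 u = E rho u := fun u => by rw [dualE_short rt norm_s0, dual_s0]
  apply le_antisymm
  · rw [Xs, closure_le]
    rintro _ ⟨u, rfl⟩
    rw [e]
    exact E_mem E rho_mem (Set.mem_singleton _) u
  · refine SE_le E fun a _ hA u => ?_
    rw [Set.mem_singleton_iff.1 hA]
    exact subset_closure ⟨u, e u⟩

theorem Vl_eq : Vs (dualE rt E s0) (fun j => dualE rt E (rv j)) = SE E (AU rho) := by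
  have e : ∀ u, dualE rt E s0 u = E rho u := fun u => by rw [dualE_short rt norm_s0, dual_s0]
  have e1 : ∀ j u, dualE rt E (rv j) u = E (Model.dual (rv j)) (rt u) := fun j u => dualE_long rt (norm_rv j).1 u
  apply le_antisymm
  · rw [Vs, closure_le]
    rintro _ (⟨u, rfl⟩ | ⟨j, u, rfl⟩)
    · rw [e]; exact E_mem E rho_mem (Or.inl rfl) u
    · beta_reduce
      rw [e1]
      exact E_mem E (d_rv j).1 (Or.inr ⟨by rw [(d_rv j).2.1, norm_rho]; norm_num, (d_rv j).2.2⟩) _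
  · refine SE_le E fun a ha hA u => ?_
    rcases hA with rfl | ⟨h1, h2⟩
    · exact subset_closure (Or.inl ⟨u, (e u).symm⟩)
    · obtain ⟨j, rfl⟩ := all_rv_l a ha ((Model.norm a ha).resolve_right (by rwa [norm_rho] at h1)) h2
      refine subset_closure (Or.inr ⟨j, rt.symm u, ?_⟩)
      beta_reduce
      rw [e1, RingEquiv.apply_symm_apply]

theorem Ql_eq : Qs (dualE rt E s0) (fun j => dualE rt E (rv j)) (fun i => dualE rt E (rz i)) = SE E (AQ rho) := by
  have e : ∀ u, dualE rt E s0 u = E rho u := fun u => by rw [dualE_short rt norm_s0, dual_s0]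
  have e1 : ∀ j u, dualE rt E (rv j) u = E (Model.dual (rv j)) (rt u) := fun j u => dualE_long rt (norm_rv j).1 u
  have e2 : ∀ i u, dualE rt E (rz i) u = E (Model.dual (rz i)) u := fun i u => dualE_short rt (norm_rz i).1 u
  apply le_antisymm
  · rw [Qs, closure_le]
    rintro _ ((⟨u, rfl⟩ | ⟨j, u, rfl⟩) | ⟨i, u, rfl⟩)
    · rw [e]; exact E_mem E rho_mem (show 0 < B rho rho by rw [norm_rho]; norm_num) u
    · beta_reduce
      rw [e1]; exact E_mem E (d_rv j).1 (d_rv j).2.2 _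
    · rw [e2]; exact E_mem E (d_rz' i).1 (d_rz' i).2.2 u
  · refine SE_le E fun a ha hA u => ?_
    rcases all_Q_l a ha hA with rfl | ⟨j, rfl⟩ | ⟨i, rfl⟩
    · exact subset_closure (Or.inl (Or.inl ⟨u, (e u).symm⟩))
    · refine subset_closure (Or.inl (Or.inr ⟨j, rt.symm u, ?_⟩))
      beta_reduce
      rw [e1, RingEquiv.apply_symm_apply]
    · exact subset_closure (Or.inr ⟨i, u, (e2 i u).symm⟩)

/-- `P` contains `C_K(X_l)` -/
structure ParL (E : (Fin 4 → ℤ) → F → G) (T : (Fin 4 → Fˣ) →* G) (P : Subgroup G) : Prop where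
  E_mem : ∀ a ∈ rts, 0 ≤ B rho a → ∀ u, E a u ∈ P
  T_mem : ∀ ν, chd ν rho = 1 → T ν ∈ P

variable (hrt : ∀ u, rt u ^ 2 = u)

include hrt

theorem chd_dual_consH (ν : Fin 3 → Fˣ) : chd (dualH rt (consH ν)) rho = 1 := by
  have h1 := Cfsg.Agent.OddHalf.D7F4Ex.chd_dual_short rt hrt (consH ν) s0_mem norm_s0
  rw [dual_s0, chd_consH_s0] at h1
  exact h1

theorem ParL.le {P : Subgroup G} (h : ParL E T P) : Ps (dualE rt E s0) (fun j => dualE rt E (rv j))
    (fun i => dualE rt E (rz i)) (fun j => dualE rt E (rc j)) (fun j k => dualE rt E (rl j k))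
      ((T.comp (dualH rt)).comp consH) ≤ P := by
  have e : ∀ u, dualE rt E s0 u = E rho u := fun u => by rw [dualE_short rt norm_s0, dual_s0]
  rw [Ps, closure_le]
  rintro _ ((⟨u, rfl⟩ | ⟨j, u, rfl⟩) | ⟨i, u, rfl⟩ | ⟨j, u, rfl⟩ | ⟨j, k, u, hjk, rfl⟩ | ⟨ν, rfl⟩)
  · rw [e]; exact h.E_mem _ rho_mem (by rw [norm_rho]; norm_num) u
  · beta_reduce
    rw [dualE_long rt (norm_rv j).1]; exact h.E_mem _ (d_rv j).1 (d_rv j).2.2.le _
  · rw [dualE_short rt (norm_rz i).1]; exact h.E_mem _ (d_rz' i).1 (d_rz' i).2.2.le _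
  · rw [dualE_short rt (norm_rc j)]; exact h.E_mem _ (d_rc' j).1 (d_rc' j).2 _
  · rw [dualE_long rt (norm_rl j k hjk)]; exact h.E_mem _ (d_rl' j k hjk).1 (d_rl' j k hjk).2 _
  · exact h.T_mem _ (chd_dual_consH rt hrt ν)

variable (C : ChartA E T)

include C

theorem comm_l : ⁅SE E (AQ rho), SE E (AQ rho)⁆ = SE E {rho} := by
  rw [← Xl_eq rt, ← Ql_eq rt]
  exact (C.dual rt hrt).loc.comm_eq

theorem V_eq_l : SE E (AU rho) = SE E (AQ rho) ⊓ centralizer (SE E (AQ rho) : Set G) := by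
  rw [← Vl_eq rt, ← Ql_eq rt]
  exact (C.dual rt hrt).loc.V_eq

theorem irr_l {P : Subgroup G} (hP : ParL E T P) : ∀ R : Subgroup G, R ≤ SE E (AQ rho) → P ≤ normalizer (R : Set G) →
    SE E (AQ rho) ⊓ centralizer (R : Set G) ≤ R → R = SE E (AQ rho) := by
  rw [← Ql_eq rt]
  intro R h1 h2 h3
  exact (C.dual rt hrt).loc.irr_eq (hP.le rt hrt) h1 h2 h3

/-- `[g, Q_l] = X_l` for `g ∈ Q_l ∖ U_l` -/
theorem mix_l : ∀ g ∈ SE E (AQ rho), g ∉ SE E (AU rho) → ∀ x ∈ SE E ({rho} : Set (Fin 4 → ℤ)),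
    ∃ q ∈ SE E (AQ rho), q * g * q⁻¹ = g * x := by
  rw [← Xl_eq rt, ← Ql_eq rt, ← Vl_eq rt]
  intro g hg hV x hx
  exact (C.dual rt hrt).loc.mix hg hV hx

/-- `C_K(X_l)` is transitive on `U_l/X_l` -/
theorem transU_l [Finite F] {P : Subgroup G} (hP : ParL E T P) : ∀ g ∈ SE E (AU rho),
    g ∉ SE E ({rho} : Set (Fin 4 → ℤ)) → ∃ p ∈ P, ∃ r α, α ≠ 0 ∧ p * g * p⁻¹ = E s0 α * E rho r := by
  rw [← Xl_eq rt, ← Vl_eq rt]
  intro g hg hX
  obtain ⟨p, hp, r, α, h1, h2⟩ := (C.dual rt hrt).loc.transV hg hX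
  refine ⟨p, hP.le rt hrt hp, r, rt α, fun h => h1 ((map_eq_zero_iff rt rt.injective).1 h), ?_⟩
  rw [h2]
  rw [rho_eq, dualE_short rt norm_s0, dualE_long rt norm_rho, dual_s0, dual_rho]
  exact C.c0 _ rho_mem _ s0_mem (by rw [Model.B_symm, B_s0_rho]; norm_num) _ _

end long

/-! ### The torus and the types -/

section types

variable (C : ChartA E T)

include C

theorem mem_SE_singleton {a : Fin 4 → ℤ} (ha : a ∈ rts) {x : G} : x ∈ SE E ({a} : Set (Fin 4 → ℤ)) ↔ ∃ u, x = E a u := by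
  constructor
  · intro h
    unfold SE at h
    induction h using closure_induction with
    | mem x hx =>
      obtain ⟨b, -, hb, u, rfl⟩ := hx
      rw [Set.mem_singleton_iff.1 hb]
      exact ⟨u, rfl⟩
    | one => exact ⟨0, (C.zero ha).symm⟩
    | mul x y _ _ hx hy =>
      obtain ⟨u, rfl⟩ := hx
      obtain ⟨w, rfl⟩ := hy
      exact ⟨u + w, (C.add a ha u w).symm⟩
    | inv x _ hx =>
      obtain ⟨u, rfl⟩ := hx
      exact ⟨u, C.inv ha u⟩
  · rintro ⟨u, rfl⟩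
    exact E_mem E ha (Set.mem_singleton _) u

/-- the torus is transitive on the pairs `(x, y) ∈ X_s# × X_l#` -/
theorem torus [Finite F] {u u' w w' : F} (hu : u ≠ 0) (hu' : u' ≠ 0) (hw : w ≠ 0) (hw' : w' ≠ 0) :
    ∃ ν, T ν * E s0 u * (T ν)⁻¹ = E s0 u' ∧ T ν * E rho w * (T ν)⁻¹ = E rho w' := by
  obtain ⟨a, ha⟩ := C.loc.exists_sqrt_unit (Units.mk0 u' hu' * (Units.mk0 u hu)⁻¹)
  obtain ⟨b, hb⟩ := C.loc.exists_sqrt_unit (Units.mk0 w' hw' * (Units.mk0 w hw)⁻¹ * (a ^ 2)⁻¹)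
  refine ⟨![a, b, 1, 1], ?_, ?_⟩
  · rw [C.tor _ s0_mem, chd_eq, d_s0]
    have e : ((![a, b, 1, 1] : Fin 4 → Fˣ) 0 ^ (![2, 0, 0, 0] : Fin 4 → ℤ) 0 *
        (![a, b, 1, 1] : Fin 4 → Fˣ) 1 ^ (![2, 0, 0, 0] : Fin 4 → ℤ) 1 *
        (![a, b, 1, 1] : Fin 4 → Fˣ) 2 ^ (![2, 0, 0, 0] : Fin 4 → ℤ) 2 *
        (![a, b, 1, 1] : Fin 4 → Fˣ) 3 ^ (![2, 0, 0, 0] : Fin 4 → ℤ) 3) = a ^ 2 := by
      simp
    rw [e, ha, Units.val_mul, Units.val_inv_eq_inv_val, Units.val_mk0, Units.val_mk0, inv_mul_cancel_right₀ hu]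
  · rw [C.tor _ rho_mem, chd_eq, d_rho]
    have e : ((![a, b, 1, 1] : Fin 4 → Fˣ) 0 ^ (![2, 2, 0, 0] : Fin 4 → ℤ) 0 *
        (![a, b, 1, 1] : Fin 4 → Fˣ) 1 ^ (![2, 2, 0, 0] : Fin 4 → ℤ) 1 *
        (![a, b, 1, 1] : Fin 4 → Fˣ) 2 ^ (![2, 2, 0, 0] : Fin 4 → ℤ) 2 *
        (![a, b, 1, 1] : Fin 4 → Fˣ) 3 ^ (![2, 2, 0, 0] : Fin 4 → ℤ) 3) = a ^ 2 * b ^ 2 := by
      simp
    rw [e, hb, mul_comm (a ^ 2), inv_mul_cancel_right, Units.val_mul, Units.val_inv_eq_inv_val, Units.val_mk0,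
      Units.val_mk0, inv_mul_cancel_right₀ hw]

/-- the field `trans` on `X_s` -/
theorem trans_s [Finite F] : ∀ x ∈ SE E ({s0} : Set (Fin 4 → ℤ)), ∀ x' ∈ SE E ({s0} : Set (Fin 4 → ℤ)), x ≠ 1 → x' ≠ 1 →
    ∃ ν, T ν * x * (T ν)⁻¹ = x' := by
  intro x hx x' hx' h1 h1'
  obtain ⟨u, rfl⟩ := (C.mem_SE_singleton s0_mem).1 hx
  obtain ⟨u', rfl⟩ := (C.mem_SE_singleton s0_mem).1 hx'
  have hu : u ≠ 0 := fun h => h1 (by rw [h, C.zero s0_mem])
  have hu' : u' ≠ 0 := fun h => h1' (by rw [h, C.zero s0_mem])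
  obtain ⟨ν, h, -⟩ := C.torus hu hu' one_ne_zero one_ne_zero
  exact ⟨ν, h⟩

/-- the field `trans` on `X_l` -/
theorem trans_l [Finite F] : ∀ x ∈ SE E ({rho} : Set (Fin 4 → ℤ)), ∀ x' ∈ SE E ({rho} : Set (Fin 4 → ℤ)), x ≠ 1 →
    x' ≠ 1 → ∃ ν, T ν * x * (T ν)⁻¹ = x' := by
  intro x hx x' hx' h1 h1'
  obtain ⟨u, rfl⟩ := (C.mem_SE_singleton rho_mem).1 hx
  obtain ⟨u', rfl⟩ := (C.mem_SE_singleton rho_mem).1 hx'
  have hu : u ≠ 0 := fun h => h1 (by rw [h, C.zero rho_mem])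
  have hu' : u' ≠ 0 := fun h => h1' (by rw [h, C.zero rho_mem])
  obtain ⟨ν, -, h⟩ := C.torus one_ne_zero one_ne_zero hu hu'
  exact ⟨ν, h⟩

/-- an element `x_s(u) x_l(w)` is conjugate under the torus into `Z`, if `Z` meets `X_s`, `X_l` -/
theorem typ_aux [Finite F] {Z Y : Subgroup G} (hY : ∀ ν, T ν ∈ Y) {zs zl : G} (hs : zs ∈ SE E ({s0} : Set (Fin 4 → ℤ)))
    (hsZ : zs ∈ Z) (hs1 : zs ≠ 1) (hl : zl ∈ SE E ({rho} : Set (Fin 4 → ℤ))) (hlZ : zl ∈ Z) (hl1 : zl ≠ 1) (u w : F) :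
    ∃ y ∈ Y, y * (E s0 u * E rho w) * y⁻¹ ∈ Z := by
  obtain ⟨a, rfl⟩ := (C.mem_SE_singleton s0_mem).1 hs
  obtain ⟨b, rfl⟩ := (C.mem_SE_singleton rho_mem).1 hl
  have ha : a ≠ 0 := fun h => hs1 (by rw [h, C.zero s0_mem])
  have hb : b ≠ 0 := fun h => hl1 (by rw [h, C.zero rho_mem])
  by_cases hu : u = 0
  · by_cases hw : w = 0
    · refine ⟨1, one_mem _, ?_⟩
      rw [hu, hw, C.zero s0_mem, C.zero rho_mem, mul_one, mul_one, inv_one, mul_one]
      exact one_mem _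
    · obtain ⟨ν, -, h⟩ := C.torus (u := 1) (u' := 1) one_ne_zero one_ne_zero hw hb
      refine ⟨T ν, hY ν, ?_⟩
      rw [hu, C.zero s0_mem, one_mul, h]
      exact hlZ
  · by_cases hw : w = 0
    · obtain ⟨ν, h, -⟩ := C.torus (w := 1) (w' := 1) hu ha one_ne_zero one_ne_zero
      refine ⟨T ν, hY ν, ?_⟩
      rw [hw, C.zero rho_mem, mul_one, h]
      exact hsZ
    · obtain ⟨ν, h, h'⟩ := C.torus hu ha hw hb
      refine ⟨T ν, hY ν, ?_⟩
      have e : T ν * (E s0 u * E rho w) * (T ν)⁻¹ = (T ν * E s0 u * (T ν)⁻¹) * (T ν * E rho w * (T ν)⁻¹) := by group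
      rw [e, h, h']
      exact mul_mem hsZ hlZ

/-- **the field `typ`**, short side -/
theorem typ_s [Finite F] {Z Y P : Subgroup G} (hP : ParS E T P) (hPY : P ≤ Y) (hY : ∀ ν, T ν ∈ Y) {zs zl : G}
    (hs : zs ∈ SE E ({s0} : Set (Fin 4 → ℤ))) (hsZ : zs ∈ Z) (hs1 : zs ≠ 1)
    (hl : zl ∈ SE E ({rho} : Set (Fin 4 → ℤ))) (hlZ : zl ∈ Z) (hl1 : zl ≠ 1) :
    ∀ u ∈ SE E (AU s0), ∃ y ∈ Y, y * u * y⁻¹ ∈ Z := by
  intro g hg
  by_cases hX : g ∈ SE E ({s0} : Set (Fin 4 → ℤ))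
  · obtain ⟨u, rfl⟩ := (C.mem_SE_singleton s0_mem).1 hX
    have := C.typ_aux hY hs hsZ hs1 hl hlZ hl1 u 0
    rwa [C.zero rho_mem, mul_one] at this
  · obtain ⟨p, hp, r, α, -, h⟩ := C.transU_s hP g hg hX
    obtain ⟨y, hy, h'⟩ := C.typ_aux hY hs hsZ hs1 hl hlZ hl1 r α
    refine ⟨y * p, mul_mem hy (hPY hp), ?_⟩
    have e : y * p * g * (y * p)⁻¹ = y * (p * g * p⁻¹) * y⁻¹ := by group
    rw [e, h]; exact h'

/-- **the field `typ`**, long side -/
theorem typ_l [Finite F] (rt : F ≃+* F) (hrt : ∀ u, rt u ^ 2 = u) {Z Y P : Subgroup G} (hP : ParL E T P) (hPY : P ≤ Y)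
    (hY : ∀ ν, T ν ∈ Y) {zs zl : G} (hs : zs ∈ SE E ({s0} : Set (Fin 4 → ℤ))) (hsZ : zs ∈ Z) (hs1 : zs ≠ 1)
    (hl : zl ∈ SE E ({rho} : Set (Fin 4 → ℤ))) (hlZ : zl ∈ Z) (hl1 : zl ≠ 1) :
    ∀ u ∈ SE E (AU rho), ∃ y ∈ Y, y * u * y⁻¹ ∈ Z := by
  intro g hg
  by_cases hX : g ∈ SE E ({rho} : Set (Fin 4 → ℤ))
  · obtain ⟨u, rfl⟩ := (C.mem_SE_singleton rho_mem).1 hX
    have := C.typ_aux hY hs hsZ hs1 hl hlZ hl1 0 u
    rwa [C.zero s0_mem, one_mul] at this
  · obtain ⟨p, hp, r, α, -, h⟩ := transU_l rt hrt C hP g hg hX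
    obtain ⟨y, hy, h'⟩ := C.typ_aux hY hs hsZ hs1 hl hlZ hl1 α r
    refine ⟨y * p, mul_mem hy (hPY hp), ?_⟩
    have e : y * p * g * (y * p)⁻¹ = y * (p * g * p⁻¹) * y⁻¹ := by group
    rw [e, h]; exact h'

end types

end ChartA

end Cfsg.Agent.Omega.All.F4K

end

-- merged: Cfsg.Agent.Mrg.Omega.HOneEnd.FFourTyp
section

/-!
# `FFourDat` for `F₄(q)`, `q` even: `irr`, `comm`, `typ`, `mix`, the torus (helper866)

`j : F₄(K) →* G` injective, `r` dominant (`Dom r`).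

* `tor_mem_CG`   : the elements of the torus which centralise `X_r` lie in `CG j r`;
* `UG_eq`, `comm_QG`, `irr_QG`, `typ_UG`, `mix_s`, `mix_l`, `torus_pair_conj`.
-/

set_option autoImplicit false
set_option Elab.async false

namespace Cfsg.Agent.Omega.HOneEnd.FFour

open CoxeterSystem Cfsg.Agent.ChevalleyStructure.CoxeterGeom Cfsg.Agent.Tits.Roots Cfsg.Agent.Tits.Core
open Cfsg.Lie Cfsg.Agent.ChevalleyStructure Cfsg.Agent.ChevalleyStructure.Elts
  Cfsg.Agent.ChevalleyStructure.RootVec Cfsg.Agent.ChevalleyStructure.CoxeterGeomTypes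
open Cfsg.Agent.Nodes Cfsg.Agent.Nodes.Reps Cfsg.Agent.Nodes.BNOf Cfsg.Agent.Nodes.RGDChev Cfsg.Agent.Nodes.Coroot
  Cfsg.Agent.Nodes.KindF Cfsg.Agent.Nodes.Bruhat Cfsg.Agent.Nodes.OppDec Cfsg.Agent.Nodes.LeviDec
  Cfsg.Agent.KFacts.ChevTwo Cfsg.Agent.KFacts.ChevTwoTab
  Cfsg.Agent.KFacts.ChevTwoInst Cfsg.Agent.KFacts.RgdTI Cfsg.Agent.KFacts.RgdOdd
  Cfsg.Agent.KFacts.F4Star Cfsg.Agent.KFacts.F4Cent Cfsg.Agent.KFacts.F4Pair Cfsg.Agent.KFacts.F4Torus
open Cfsg.Agent.OddHalf.D7F4 (Model.rts)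
open Cfsg.Agent.OddHalf.D7F4Ex (chd s0 s0_mem)
open Cfsg.Agent.KFacts.F4Chart (torH torH_mem torH_conj)
open Cfsg.Agent.KFacts.F4Model (phi_iff mem_X cpr_nonneg_iff cpr_pos_iff' lg_iff sh_iff)
open Cfsg.Agent.Omega.All.F4K
open scoped commutatorElement

/-! ### Root combinatorics -/

theorem v47_rho : v 47 = rho := by decide +kernel
theorem v44_s0 : v 44 = s0 := by decide +kernel

theorem ge_iff {r : Fin 4 → ℤ} (hr : r ∈ Model.rts) {a : Fin 4 → ℤ} (ha : a ∈ Model.rts) :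
    a ∈ AP r ↔ a ∈ Ge cF isType.isCartan r := by
  show 0 ≤ OddHalf.D7F4.Model.B r a ↔ IsRoot cF isType.isCartan a ∧ 0 ≤ cpr cF isType.isCartan a r
  rw [cpr_nonneg_iff cF ha hr, OddHalf.D7F4.Model.B_symm r a]
  exact ⟨fun h => ⟨(phi_iff cF a).1 ha, h⟩, fun h => h.2⟩

theorem rad_iff {r : Fin 4 → ℤ} (hr : r ∈ Model.rts) {a : Fin 4 → ℤ} (ha : a ∈ Model.rts) :
    a ∈ AQ r ↔ a ∈ Rad cF isType.isCartan r := by
  show 0 < OddHalf.D7F4.Model.B r a ↔ IsRoot cF isType.isCartan a ∧ 1 ≤ cpr cF isType.isCartan a r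
  rw [cpr_pos_iff' cF ha hr, OddHalf.D7F4.Model.B_symm r a]
  exact ⟨fun h => ⟨(phi_iff cF a).1 ha, h⟩, fun h => h.2⟩

theorem v7_iff {r : Fin 4 → ℤ} (hr : r ∈ Model.rts) {a : Fin 4 → ℤ} (ha : a ∈ Model.rts) :
    a ∈ AU r ↔ a ∈ V7 cF r := by
  show a = r ∨ (OddHalf.D7F4.Model.B a a ≠ OddHalf.D7F4.Model.B r r ∧ 0 < OddHalf.D7F4.Model.B r a) ↔
    IsRoot cF isType.isCartan a ∧ (a = r ∨ ((Lg cF a ↔ Sh cF r) ∧ 1 ≤ cpr cF isType.isCartan a r))
  rw [cpr_pos_iff' cF ha hr, OddHalf.D7F4.Model.B_symm r a, lg_iff cF ha, sh_iff cF hr]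
  have h1 := OddHalf.D7F4.Model.norm a ha
  have h2 := OddHalf.D7F4.Model.norm r hr
  have h3 : (OddHalf.D7F4.Model.B a a ≠ OddHalf.D7F4.Model.B r r) ↔
      (OddHalf.D7F4.Model.B a a = 4 ↔ OddHalf.D7F4.Model.B r r = 2) := by
    rcases h1 with h1 | h1 <;> rcases h2 with h2 | h2 <;> rw [h1, h2] <;> norm_num
  rw [h3]
  exact ⟨fun h => ⟨(phi_iff cF a).1 ha, h⟩, fun h => h.2⟩

theorem Dom.mem {r : Fin 4 → ℤ} (hr : Dom r) : r ∈ Model.rts := (phi_iff cF r).2 hr.root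

section

variable {K : Type*} [Field K] [Finite K] [CharP K 2] {G : Type*} [Group G] (j : ↥(chevF4.group K) →* G)

/-- the root elements in `G` -/
noncomputable abbrev EG (a : Fin 4 → ℤ) (u : K) : G := j (eF K a u)

theorem SE_eq {A A' : Set (Fin 4 → ℤ)} (h : ∀ a ∈ Model.rts, a ∈ A ↔ a ∈ A')
    (h' : ∀ a ∈ A', IsRoot cF isType.isCartan a) : SE (EG j) A = SG j A' := by
  apply le_antisymm
  · refine SE_le _ fun a ha hA u => ?_
    exact ⟨_, RGD.le_Sup ((h a ha).1 hA) ((mem_X ha).2 ⟨u, rfl⟩), rfl⟩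
  · unfold SG
    rw [Subgroup.map_le_iff_le_comap]
    refine RGD.Sup_le fun a ha x hx => ?_
    have ha' := (phi_iff cF a).2 (h' a ha)
    obtain ⟨u, rfl⟩ := (mem_X ha').1 hx
    exact E_mem (EG j) ha' ((h a ha').2 ha) u

omit [Finite K] [CharP K 2] in
theorem SG_singleton (r : Fin 4 → ℤ) : SG j {r} = XG j r := by
  unfold SG XG
  congr 1
  exact le_antisymm (RGD.Sup_le fun z hz => by rw [Set.mem_singleton_iff.1 hz]) (RGD.le_Sup rfl)

theorem SE_X {r : Fin 4 → ℤ} (hr : Dom r) : SE (EG j) {r} = XG j r := by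
  rw [← SG_singleton]
  exact SE_eq j (fun _ _ => Iff.rfl) fun a ha => by rw [Set.mem_singleton_iff.1 ha]; exact hr.root

theorem SE_Q {r : Fin 4 → ℤ} (hr : Dom r) : SE (EG j) (AQ r) = QG j r :=
  SE_eq j (fun _ ha => rad_iff hr.mem ha) fun _ ha => ha.1

theorem SE_U {r : Fin 4 → ℤ} (hr : Dom r) : SE (EG j) (AU r) = UG j r :=
  SE_eq j (fun _ ha => v7_iff hr.mem ha) fun _ ha => ha.1

theorem SE_C {r : Fin 4 → ℤ} (hr : Dom r) : SE (EG j) (AP r) = CG j r :=
  SE_eq j (fun _ ha => ge_iff hr.mem ha) fun _ ha => ha.1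

/-! ### The torus elements centralising `X_r` -/

theorem pairChk47 : ∀ i, pairing (cartanOf chevF4 4) i (v 47) = if i = 3 then 1 else 0 := by decide +kernel

theorem pairChk44 : ∀ i, pairing (cartanOf chevF4 4) i (v 44) = if i = 0 then 1 else 0 := by decide +kernel

theorem hel_mem_Ge {r : Fin 4 → ℤ} (hr : IsRoot cF isType.isCartan r) {i : Fin 4}
    (hi : pairing (cartanOf chevF4 4) i r = 0) (c : K) :
    hel (eF K) (sr i) c ∈ RGD.Sup (XF K) (Ge cF isType.isCartan r) := by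
  have hW := finW
  have hsr := isRoot_sr cF isType.isCartan i
  have h0 : cpr cF isType.isCartan (sr i) r = 0 := by
    rw [← cpr_zero_comm cF isType.isCartan hr hsr, cpr_sr]; exact hi
  have hn : IsRoot cF isType.isCartan (-sr i) := hsr.neg
  have m1 : sr i ∈ Ge cF isType.isCartan r := ⟨hsr, h0.ge⟩
  have m2 : -sr i ∈ Ge cF isType.isCartan r := ⟨hn, by rw [cpr_neg cF isType.isCartan _ hr, h0, neg_zero]⟩
  have h1 : ∀ u, eF K (sr i) u ∈ RGD.Sup (XF K) (Ge cF isType.isCartan r) := fun u =>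
    RGD.le_Sup m1 ((mem_X ((phi_iff cF _).2 hsr)).2 ⟨u, rfl⟩)
  have h2 : ∀ u, eF K (-sr i) u ∈ RGD.Sup (XF K) (Ge cF isType.isCartan r) := fun u =>
    RGD.le_Sup m2 ((mem_X ((phi_iff cF _).2 hn)).2 ⟨u, rfl⟩)
  unfold hel nel nc
  exact mul_mem (mul_mem (mul_mem (h1 _) (h2 _)) (h1 _)) (mul_mem (mul_mem (h1 _) (h2 _)) (h1 _))

theorem hel_one (i : Fin 4) : hel (eF K) (sr i) 1 = 1 := by
  have hW := finW
  have D := (sysF (K := K) cF).data
  refine eq_one_of_comm cF fun x hx u => ?_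
  have h1 := D.hel_conj hx (isRoot_sr cF isType.isCartan i) (one_ne_zero (α := K)) (t := u)
  rw [one_zpow, one_mul] at h1
  exact mul_inv_eq_iff_eq_mul.1 h1

omit [Finite K] [CharP K 2] in
/-- the character of `hprod c` on a dominant root -/
theorem hchi_dom (c : Fin 4 → Kˣ) {r : Fin 4 → ℤ} {k : Fin 4}
    (h : ∀ i, pairing (cartanOf chevF4 4) i r = if i = k then 1 else 0) : (hchi c r).toMul = c k := by
  rw [hchi_apply, Finset.sum_eq_single k]
  · rw [h, if_pos rfl, one_smul]; rfl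
  · intro i _ hi
    rw [h, if_neg hi, zero_smul]
  · intro h; exact absurd (Finset.mem_univ k) h

theorem tor_mem_aux {r : Fin 4 → ℤ} (hr : IsRoot cF isType.isCartan r) {k : Fin 4}
    (h : ∀ i, pairing (cartanOf chevF4 4) i r = if i = k then 1 else 0) {t : ↥(chevF4.group K)} (ht : t ∈ TF K)
    (h1 : t * eF K r 1 * t⁻¹ = eF K r 1) : t ∈ RGD.Sup (XF K) (Ge cF isType.isCartan r) := by
  obtain ⟨c, rfl⟩ := exists_hel cF ht
  rw [hprod_conj cF c hr, mul_one, hchi_dom c h] at h1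
  have h2 : c k = 1 := by
    have hW := finW
    have D := (sysF (K := K) cF).data
    have h4 := D.inj r hr ((c k : K) + 1) (by
      rw [D.add r hr, h1, ← D.add r hr, D.two, D.zero hr])
    exact Units.ext ((CharTwo.add_eq_zero).1 h4)
  have h3 : ∀ i, hel (eF K) (sr i) (c i) ∈ RGD.Sup (XF K) (Ge cF isType.isCartan r) := by
    intro i
    by_cases hi : i = k
    · rw [hi, h2, Units.val_one, hel_one]; exact one_mem _
    · exact hel_mem_Ge hr (by rw [h, if_neg hi]) _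
  unfold hprod
  exact mul_mem (mul_mem (mul_mem (h3 0) (h3 1)) (h3 2)) (h3 3)

/-- **The elements of the torus which centralise `X_r`.** -/
theorem tor_mem {r : Fin 4 → ℤ} (hr : Dom r) {t : ↥(chevF4.group K)} (ht : t ∈ TF K)
    (h1 : t * eF K r 1 * t⁻¹ = eF K r 1) : t ∈ RGD.Sup (XF K) (Ge cF isType.isCartan r) := by
  rcases hr with rfl | rfl
  · exact tor_mem_aux (Dom.root (Or.inl rfl)) pairChk47 ht h1
  · exact tor_mem_aux (Dom.root (Or.inr rfl)) pairChk44 ht h1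

theorem torH_mem_CG {r : Fin 4 → ℤ} (hr : Dom r) {ν : Fin 4 → Kˣ} (h : chd ν r = 1) :
    (j.comp (torH K)) ν ∈ CG j r := by
  refine ⟨torH K ν, tor_mem hr (torH_mem ν) ?_, rfl⟩
  rw [torH_conj ν hr.mem, h, Units.val_one, one_mul]

theorem EG_mem_CG {r : Fin 4 → ℤ} (hr : Dom r) {a : Fin 4 → ℤ} (ha : a ∈ Model.rts)
    (h : 0 ≤ OddHalf.D7F4.Model.B r a) (u : K) : EG j a u ∈ CG j r := by
  rw [← SE_C j hr]
  exact E_mem _ ha h u

/-! ### The chart -/

variable {j} (hj : Function.Injective j)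

/-- the inverse Frobenius -/
theorem exists_rt : ∃ rt : K ≃+* K, ∀ t, rt t ^ 2 = t := by
  have h1 : Function.Bijective (frobenius K 2) :=
    ⟨frobenius_inj K 2, Finite.surjective_of_injective (frobenius_inj K 2)⟩
  refine ⟨(RingEquiv.ofBijective (frobenius K 2) h1).symm, fun t => ?_⟩
  exact (RingEquiv.ofBijective (frobenius K 2) h1).apply_symm_apply t

theorem parS : ChartA.ParS (EG j) (j.comp (torH K)) (CG j (v 44)) where
  E_mem a ha h u := EG_mem_CG j (Or.inr rfl) ha (by rw [v44_s0]; exact h) u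
  T_mem ν h := torH_mem_CG j (Or.inr rfl) (by rw [v44_s0]; exact h)

theorem parL : ChartA.ParL (EG j) (j.comp (torH K)) (CG j (v 47)) where
  E_mem a ha h u := EG_mem_CG j (Or.inl rfl) ha (by rw [v47_rho]; exact h) u
  T_mem ν h := torH_mem_CG j (Or.inl rfl) (by rw [v47_rho]; exact h)

include hj

theorem chA : ChartA (EG j) (j.comp (torH K)) := Cfsg.Agent.Omega.All.F4K.chart hj

/-! ### The fields -/

theorem comm_QG {r : Fin 4 → ℤ} (hr : Dom r) : ⁅QG j r, QG j r⁆ = XG j r := by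
  rw [← SE_Q j hr, ← SE_X j hr]
  rcases hr with rfl | rfl
  · obtain ⟨rt, hrt⟩ := exists_rt (K := K)
    rw [v47_rho]
    exact (chA hj).comm_l rt hrt
  · rw [v44_s0]
    exact (chA hj).comm_s

theorem UG_eq {r : Fin 4 → ℤ} (hr : Dom r) : UG j r = QG j r ⊓ Subgroup.centralizer (QG j r : Set G) := by
  rw [← SE_Q j hr, ← SE_U j hr]
  rcases hr with rfl | rfl
  · obtain ⟨rt, hrt⟩ := exists_rt (K := K)
    rw [v47_rho]
    exact (chA hj).V_eq_l rt hrt
  · rw [v44_s0]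
    exact (chA hj).V_eq_s

theorem irr_QG {r : Fin 4 → ℤ} (hr : Dom r) : ∀ T : Subgroup G, T ≤ QG j r →
    CG j r ≤ Subgroup.normalizer (T : Set G) → QG j r ⊓ Subgroup.centralizer (T : Set G) ≤ T → T = QG j r := by
  rw [← SE_Q j hr]
  rcases hr with rfl | rfl
  · obtain ⟨rt, hrt⟩ := exists_rt (K := K)
    have h := (chA hj).irr_l rt hrt parL
    rw [← v47_rho] at h
    exact h
  · have h := (chA hj).irr_s parS
    rw [← v44_s0] at h
    exact h

theorem typ_UG {Y Z : Subgroup G} (hY : j.range ≤ Y) (hZ : ∀ r, Dom r → ∃ z ∈ XG j r, z ∈ Z ∧ z ≠ 1)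
    {r : Fin 4 → ℤ} (hr : Dom r) : ∀ u ∈ UG j r, ∃ y ∈ Y, y * u * y⁻¹ ∈ Z := by
  obtain ⟨zs, hs, hsZ, hs1⟩ := hZ _ (Or.inr rfl)
  obtain ⟨zl, hl, hlZ, hl1⟩ := hZ _ (Or.inl rfl)
  rw [← SE_X j (Or.inr rfl), v44_s0] at hs
  rw [← SE_X j (Or.inl rfl), v47_rho] at hl
  have hT : ∀ ν, (j.comp (torH K)) ν ∈ Y := fun ν => hY ⟨torH K ν, rfl⟩
  rw [← SE_U j hr]
  rcases hr with rfl | rfl
  · obtain ⟨rt, hrt⟩ := exists_rt (K := K)
    have h := (chA hj).typ_l rt hrt parL ((Subgroup.map_le_range j _).trans hY) hT hs hsZ hs1 hl hlZ hl1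
    rw [← v47_rho] at h
    exact h
  · have h := (chA hj).typ_s parS ((Subgroup.map_le_range j _).trans hY) hT hs hsZ hs1 hl hlZ hl1
    rw [← v44_s0] at h
    exact h

theorem mix_G {r : Fin 4 → ℤ} (hr : Dom r) : ∀ v ∈ QG j r, v ∉ UG j r → ∀ x ∈ XG j r,
    ∃ y ∈ QG j r, y * v * y⁻¹ = v * x := by
  rw [← SE_Q j hr, ← SE_U j hr, ← SE_X j hr]
  rcases hr with rfl | rfl
  · obtain ⟨rt, hrt⟩ := exists_rt (K := K)
    rw [v47_rho]
    exact (chA hj).mix_l rt hrt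
  · rw [v44_s0]
    exact (chA hj).mix_s

/-- the torus acts transitively on the pairs `(x, y) ∈ X_s# × X_l#` and normalises every `SG j A` -/
theorem torus_G {x x' y y' : G} (hx : x ∈ XG j (v 44)) (hx' : x' ∈ XG j (v 44)) (hy : y ∈ XG j (v 47))
    (hy' : y' ∈ XG j (v 47)) (h1 : x ≠ 1) (h1' : x' ≠ 1) (h2 : y ≠ 1) (h2' : y' ≠ 1) :
    ∃ t ∈ TF K, j t * x * (j t)⁻¹ = x' ∧ j t * y * (j t)⁻¹ = y' := by
  have C := chA hj
  rw [← SE_X j (Or.inr rfl), v44_s0] at hx hx'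
  rw [← SE_X j (Or.inl rfl), v47_rho] at hy hy'
  obtain ⟨a, rfl⟩ := (C.mem_SE_singleton s0_mem).1 hx
  obtain ⟨a', rfl⟩ := (C.mem_SE_singleton s0_mem).1 hx'
  obtain ⟨b, rfl⟩ := (C.mem_SE_singleton rho_mem).1 hy
  obtain ⟨b', rfl⟩ := (C.mem_SE_singleton rho_mem).1 hy'
  obtain ⟨ν, h3, h4⟩ := C.torus (u := a) (u' := a') (w := b) (w' := b')
    (fun h => h1 (by rw [h, C.zero s0_mem])) (fun h => h1' (by rw [h, C.zero s0_mem]))
    (fun h => h2 (by rw [h, C.zero rho_mem])) (fun h => h2' (by rw [h, C.zero rho_mem]))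
  exact ⟨torH K ν, torH_mem ν, h3, h4⟩

theorem XG_ne {r : Fin 4 → ℤ} (hr : Dom r) : XG j r ≠ ⊥ := by
  rw [← SE_X j hr]
  intro h
  have h1 : EG j r 1 ∈ SE (EG j) {r} := E_mem _ hr.mem (Set.mem_singleton _) 1
  rw [h, Subgroup.mem_bot] at h1
  exact one_ne_zero ((chA hj).inj r hr.mem 1 h1)

theorem XG_sq {r : Fin 4 → ℤ} (hr : Dom r) : ∀ x ∈ XG j r, x * x = 1 := by
  intro x hx
  rw [← SE_X j hr] at hx
  obtain ⟨u, rfl⟩ := ((chA hj).mem_SE_singleton hr.mem).1 hx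
  have h1 := (chA hj).add r hr.mem u u
  rw [(chA hj).two, (chA hj).zero hr.mem] at h1
  exact h1.symm

/-- **The field `typ`.** -/
theorem typ_zc [Finite G] {S Y : Subgroup G} (hS : IsPGroup 2 S) (hY : j.range ≤ Y)
    (hXS : ∀ r, Dom r → XG j r ≤ S) (hSX : ∀ r, Dom r → S ≤ Subgroup.normalizer (XG j r : Set G))
    {r : Fin 4 → ℤ} (hr : Dom r) : ∀ u ∈ UG j r, ∃ y ∈ Y, y * u * y⁻¹ ∈ Cfsg.Agent.ZN.zc S := by
  refine typ_UG hj hY (fun r hr => ?_) hr
  obtain ⟨z, h1, h2, h3⟩ := Cfsg.Agent.Omega.All.exists_zc_mem hS (hXS r hr) (hSX r hr) (XG_sq hj hr) (XG_ne hj hr)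
  exact ⟨z, h2, h1, h3⟩

end

end Cfsg.Agent.Omega.HOneEnd.FFour

end
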