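import Cfsg.Agent.Mrg.Omega.HOneEnd.FFourDefs
import Cfsg.Agent.KFacts.RgdAutN
import Cfsg.Agent.KFacts.RgdOver
import Cfsg.Agent.Mrg.Omega.All.Basic
import Cfsg.Agent.KFacts.F4Model
import Cfsg.Agent.KFacts.F4Perf
import Cfsg.Agent.GTwoFour.Tools
import Cfsg.Agent.Mrg.Omega.HOneEnd.FFourTyp

-- merged: Cfsg.Agent.Mrg.Omega.HOneEnd.FFourK
section

/-!
# `FFourDat` for `F₄(q)`, `q` even: facts inside `F₄(K)`

* `sup_comm` : `⟨X_x : x ∈ A⟩`, `⟨X_y : y ∈ B⟩` commute if `⟨y,x⟩ ≥ 0`; `sup_sq`;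
* `core_JJ` : a 2-subgroup normalised by `U` and by the middle Levi factor lies in `Q_{47} Q_{44}`;
* `cent_rad`, `cent_rad2` : centralisers of `Q_r`, `Q_{47} Q_{44}`;
* `exists_tor` : the torus is transitive on `X_r#`.
-/

set_option autoImplicit false
set_option Elab.async false

namespace Cfsg.Agent.Omega.HOneEnd.FFour

open CoxeterSystem Cfsg.Agent.ChevalleyStructure.CoxeterGeom Cfsg.Agent.Tits.Roots Cfsg.Agent.Tits.Core
  Cfsg.Agent.Tits.Exchange
open Cfsg.Lie Cfsg.Agent.ChevalleyStructure Cfsg.Agent.ChevalleyStructure.Elts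
  Cfsg.Agent.ChevalleyStructure.RootVec Cfsg.Agent.ChevalleyStructure.CoxeterGeomTypes
open Cfsg.Agent.Nodes Cfsg.Agent.Nodes.Reps Cfsg.Agent.Nodes.BNOf Cfsg.Agent.Nodes.RGDChev Cfsg.Agent.Nodes.Coroot
  Cfsg.Agent.Nodes.KindF Cfsg.Agent.Nodes.Bruhat Cfsg.Agent.Nodes.OppDec Cfsg.Agent.Nodes.LeviDec
  Cfsg.Agent.Nodes.StabComb
  Cfsg.Agent.KFacts.ChevTwo Cfsg.Agent.KFacts.ChevTwoTab
  Cfsg.Agent.KFacts.ChevTwoInst Cfsg.Agent.KFacts.RgdTI Cfsg.Agent.KFacts.RgdOdd Cfsg.Agent.KFacts.RgdEx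
  Cfsg.Agent.KFacts.F4Star Cfsg.Agent.KFacts.F4Cent Cfsg.Agent.KFacts.F4Pair Cfsg.Agent.KFacts.F4Torus
  Cfsg.Agent.KFacts.F4Perf Cfsg.Agent.KFacts.F4Aut Cfsg.Agent.KFacts.F4AutPair

universe u

variable {K : Type u} [Field K] [Finite K] [CharP K 2]

instance : Finite CoxeterMatrix.F₄.Group := finW

theorem sup_comm {A B : Set (Fin 4 → ℤ)} (hA : ∀ x ∈ A, IsRoot cF isType.isCartan x)
    (hB : ∀ y ∈ B, IsRoot cF isType.isCartan y) (h : ∀ x ∈ A, ∀ y ∈ B, 0 ≤ cpr cF isType.isCartan y x)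
    {a b : ↥(chevF4.group K)} (ha : a ∈ RGD.Sup (XF K) A) (hb : b ∈ RGD.Sup (XF K) B) : a * b = b * a := by
  have h1 : RGD.Sup (XF K) A ≤ Subgroup.centralizer (RGD.Sup (XF K) B : Set ↥(chevF4.group K)) := by
    refine RGD.Sup_le fun x hx z hz => ?_
    rw [Subgroup.mem_centralizer_iff]
    intro g hg
    have hle : RGD.Sup (XF K) B ≤ RGD.Sup (XF K) (Ge cF isType.isCartan x) :=
      RGD.Sup_mono fun y hy => ⟨hB y hy, h x hx y hy⟩
    exact ((sysF (K := K) cF).lr (hA x hx)).comm' (hle hg) hz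
  exact ((Subgroup.mem_centralizer_iff.1 (h1 ha)) b hb).symm

theorem e_sq {x : Fin 4 → ℤ} (hx : IsRoot cF isType.isCartan x) {z : ↥(chevF4.group K)} (hz : z ∈ XF K x) :
    z * z = 1 := by
  obtain ⟨t, rfl⟩ := (mem_XF_iff cF hx).1 hz
  rw [← (sysF (K := K) cF).data.add x hx, CharTwo.add_self_eq_zero, (sysF (K := K) cF).data.zero hx]

/-- an abelian join of root groups has exponent 2 -/
theorem sup_sq {A : Set (Fin 4 → ℤ)} (hA : ∀ x ∈ A, IsRoot cF isType.isCartan x)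
    (h : ∀ x ∈ A, ∀ y ∈ A, 0 ≤ cpr cF isType.isCartan y x) {a : ↥(chevF4.group K)}
    (ha : a ∈ RGD.Sup (XF K) A) : a * a = 1 := by
  unfold RGD.Sup at ha
  induction ha using Subgroup.iSup_induction' with
  | hp z x hx => exact e_sq (hA _ z.2) hx
  | h1 => rw [mul_one]
  | hmul x y hx hy ih1 ih2 =>
    have h1 : y * x = x * y := sup_comm hA hA h hy hx
    calc x * y * (x * y) = x * (y * x) * y := by group
      _ = (x * x) * (y * y) := by rw [h1]; group
      _ = 1 := by rw [ih1, ih2, one_mul]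

theorem X_ne {x : Fin 4 → ℤ} (hx : IsRoot cF isType.isCartan x) : ∃ z ∈ XF K x, z ≠ 1 := by
  have h1 := X_ne_bot (rgd (K := K) isType cF 2) hx
  rw [ne_eq, Subgroup.eq_bot_iff_forall] at h1
  push Not at h1
  exact h1

/-- commuting with the root groups of `A` -/
theorem cm_of_comm {A : Set (Fin 4 → ℤ)} (hA : ∀ x ∈ A, IsRoot cF isType.isCartan x) {g : ↥(chevF4.group K)}
    (hg : ∀ z ∈ RGD.Sup (XF K) A, g * z = z * g) : Cm g A := by
  intro c hc
  obtain ⟨z, hz, hz1⟩ := X_ne (K := K) (hA c hc)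
  exact ⟨z, hz, hz1, hg z (RGD.le_Sup hc hz)⟩

/-- **`C(Q_r) ≤ U_r`** -/
theorem cent_rad {r : Fin 4 → ℤ} (hr : IsRoot cF isType.isCartan r) {g : ↥(chevF4.group K)}
    (hg : ∀ z ∈ RGD.Sup (XF K) (Rad cF isType.isCartan r), g * z = z * g) : g ∈ RGD.Sup (XF K) (V7 cF r) :=
  cent_Q cF hr (cm_of_comm (fun _ hx => hx.1) hg)

theorem spanQQ : spanM (pp 47 ||| pp 44) = true := by decide +kernel

theorem starQQ : starM (pp 47 ||| pp 44) = 2 ^ 47 + 2 ^ 44 := by decide +kernel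

theorem setOf_QQ : SetOf (pp 47 ||| pp 44) = Rad cF isType.isCartan (v 47) ∪ Rad cF isType.isCartan (v 44) := by
  ext x
  constructor
  · rintro ⟨c, hc, h, rfl⟩
    rw [Nat.testBit_lor, Bool.or_eq_true] at h
    rcases h with h | h
    · exact Or.inl ((mem_rad_v (by norm_num) hc).2 h)
    · exact Or.inr ((mem_rad_v (by norm_num) hc).2 h)
  · intro hx
    have hxr : IsRoot cF isType.isCartan x := by
      rcases hx with h | h
      · exact h.1
      · exact h.1
    obtain ⟨c, hc, rfl⟩ := exists_v cF hxr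
    refine ⟨c, hc, ?_, rfl⟩
    rw [Nat.testBit_lor, Bool.or_eq_true]
    rcases hx with h | h
    · exact Or.inl ((mem_rad_v (by norm_num) hc).1 h)
    · exact Or.inr ((mem_rad_v (by norm_num) hc).1 h)

/-- **`C(Q_{47} Q_{44}) ≤ X_{47} X_{44}`** -/
theorem cent_rad2 {g : ↥(chevF4.group K)}
    (hg : ∀ z ∈ RGD.Sup (XF K) (Rad cF isType.isCartan (v 47) ∪ Rad cF isType.isCartan (v 44)), g * z = z * g) :
    g ∈ RGD.Sup (XF K) {v 47, v 44} := by
  have h1 : Cm g (SetOf (pp 47 ||| pp 44)) := by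
    rw [setOf_QQ]
    refine cm_of_comm (fun x hx => ?_) hg
    rcases hx with h | h
    · exact h.1
    · exact h.1
  refine RGD.Sup_mono ?_ (cent_mask spanQQ h1)
  rw [starQQ]
  rintro _ ⟨r, hr, h2, rfl⟩
  have h3 : r = 47 ∨ r = 44 := by
    revert r
    decide +kernel
  rcases h3 with rfl | rfl
  · exact Or.inl rfl
  · exact Or.inr rfl

/-! ### The 2-core of parabolic subgroups -/

theorem isPGroup_sup {D : Subgroup ↥(chevF4.group K)} (hD : IsPGroup 2 D)
    (hn : RGD.Sup (XF K) (RGD.Pos cF isType.isCartan) ≤ Subgroup.normalizer (D : Set ↥(chevF4.group K))) :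
    D ≤ RGD.Sup (XF K) (RGD.Pos cF isType.isCartan) := by
  have : Fact (Nat.Prime 2) := ⟨Nat.prime_two⟩
  obtain ⟨R, -⟩ : ∃ R, R = rgd (K := K) isType cF 2 := ⟨_, rfl⟩
  have h3 : IsPGroup 2 ↥(D ⊔ RGD.Sup (XF K) (RGD.Pos cF isType.isCartan)) :=
    hD.to_sup_of_normal_left' R.isPGroup_Upos hn
  have h4 := eq_U R (P := D ⊔ RGD.Sup (XF K) (RGD.Pos cF isType.isCartan)) le_sup_right
    (by rw [GG_top cF]; exact le_top) h3
  rw [← h4]
  exact le_sup_left

/-- **`O₂(P_J) = V_J`**, `J` the middle nodes. -/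
theorem core_JJ {D : Subgroup ↥(chevF4.group K)} (hD : IsPGroup 2 D)
    (hn : RGD.Sup (XF K) (Ge cF isType.isCartan (v 47) ∩ Ge cF isType.isCartan (v 44)) ≤
      Subgroup.normalizer (D : Set ↥(chevF4.group K))) :
    D ≤ RGD.Sup (XF K) (Rad cF isType.isCartan (v 47) ∪ Rad cF isType.isCartan (v 44)) := by
  obtain ⟨R, -⟩ : ∃ R, R = rgd (K := K) isType cF 2 := ⟨_, rfl⟩
  have hU : RGD.Sup (XF K) (RGD.Pos cF isType.isCartan) ≤
      RGD.Sup (XF K) (Ge cF isType.isCartan (v 47) ∩ Ge cF isType.isCartan (v 44)) :=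
    RGD.Sup_mono fun x hx => ⟨Dom.pos_sub (Or.inl rfl) hx, Dom.pos_sub (Or.inr rfl) hx⟩
  have h1 := isPGroup_sup hD (hU.trans hn)
  have hlong : IsLongest cF JJ (wJ cF JJ) := isLongest_wJ cF JJ
  obtain ⟨k, hk, hkr⟩ := exists_rp_in R hlong.mem
  have hk' := hn (RGD.Sup_mono rootsJ_sub hk)
  intro d hd'
  have h5 : k⁻¹ * d * k ∈ D := by
    have := (Subgroup.mem_normalizer_iff.1 (inv_mem hk') d).1 hd'
    rwa [inv_inv] at this
  have h6 := mem_PW_of_conj R hkr (h1 hd') (RGD.U_le_B (h1 h5))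
  rw [← notJ_eq]
  refine (RGD.Sup_mono ?_ : RGD.Sup (XF K) (PW cF isType.isCartan (wJ cF JJ)⁻¹) ≤
    RGD.Sup (XF K) (NotJ cF isType.isCartan JJ)) h6
  intro x hx
  refine ⟨hx.1, hx.2.1, ?_⟩
  by_contra h8
  push Not at h8
  have h10 : x ∈ PosJ cF isType.isCartan JJ := ⟨hx.1, hx.2.1, fun k hk => le_antisymm (h8 k hk) (hx.2.1 k)⟩
  have h11 := rep_longest_nonpos hlong h10
  have h12 := hx.2.2
  rw [hlong.inv_eq] at h12
  exact (hx.1.act _).not_pos_neg h12 h11

/-- `P_r` normalises `Q_r`. -/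
theorem ge_le_normalizer {r : Fin 4 → ℤ} (hr : IsRoot cF isType.isCartan r) :
    RGD.Sup (XF K) (Ge cF isType.isCartan r) ≤
      Subgroup.normalizer (RGD.Sup (XF K) (Rad cF isType.isCartan r) : Set ↥(chevF4.group K)) := by
  obtain ⟨R, -⟩ : ∃ R, R = rgd (K := K) isType cF 2 := ⟨_, rfl⟩
  refine RGD.Sup_le fun y hy => ?_
  exact Cfsg.Agent.KFacts.RgdAutN.X_le_normalizer R (ell cF isType.isCartan hr) hy.1 hy.2

/-! ### The torus -/

omit [Finite K] [CharP K 2] in
theorem exists_char {r : Fin 4 → ℤ} (hr : Dom r) (c : Kˣ) :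
    ∃ χ : (Fin 4 → ℤ) →+ Additive Kˣ, χ r = Additive.ofMul c := by
  have h47 : (v 47 : Fin 4 → ℤ) 2 = 3 ∧ (v 47 : Fin 4 → ℤ) 3 = 2 := by rw [v47_eq]; exact ⟨rfl, rfl⟩
  have h44 : (v 44 : Fin 4 → ℤ) 3 = 1 := by rw [v44_eq]; rfl
  rcases hr with rfl | rfl
  · refine ⟨(zmultiplesHom _ (Additive.ofMul c)).comp
      (Pi.evalAddMonoidHom (fun _ => ℤ) 2 - Pi.evalAddMonoidHom (fun _ => ℤ) 3), ?_⟩
    rw [AddMonoidHom.comp_apply, AddMonoidHom.sub_apply, Pi.evalAddMonoidHom_apply, Pi.evalAddMonoidHom_apply,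
      h47.1, h47.2]
    show ((3 : ℤ) - 2) • Additive.ofMul c = _
    norm_num
  · refine ⟨(zmultiplesHom _ (Additive.ofMul c)).comp (Pi.evalAddMonoidHom (fun _ => ℤ) 3), ?_⟩
    rw [AddMonoidHom.comp_apply, Pi.evalAddMonoidHom_apply, h44]
    show (1 : ℤ) • Additive.ofMul c = _
    rw [one_smul]

/-- **The torus is transitive on `X_r#`.** -/
theorem exists_tor {r : Fin 4 → ℤ} (hr : Dom r) {x x' : ↥(chevF4.group K)} (hx : x ∈ XF K r) (hx' : x' ∈ XF K r)
    (h1 : x ≠ 1) (h1' : x' ≠ 1) : ∃ t ∈ TF K, t * x * t⁻¹ = x' := by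
  have S := sysF (K := K) cF
  obtain ⟨a, ha, rfl⟩ := S.exists_e hr.root hx h1
  obtain ⟨b, hb, rfl⟩ := S.exists_e hr.root hx' h1'
  obtain ⟨χ, hχ⟩ := exists_char hr (Units.mk0 b hb * (Units.mk0 a ha)⁻¹)
  obtain ⟨t, ht, e⟩ := exists_torus (K := K) cF χ
  refine ⟨t, ht, ?_⟩
  rw [e r hr.root a, hχ]
  congr 1
  show ((Units.mk0 b hb * (Units.mk0 a ha)⁻¹ : Kˣ) : K) * a = b
  rw [Units.val_mul, Units.val_inv_eq_inv_val, Units.val_mk0, Units.val_mk0, mul_assoc, inv_mul_cancel₀ ha, mul_one]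

/-- the torus normalises the joins of root groups -/
theorem tor_normalizer {A : Set (Fin 4 → ℤ)} (hA : ∀ x ∈ A, IsRoot cF isType.isCartan x) :
    TF K ≤ Subgroup.normalizer (RGD.Sup (XF K) A : Set ↥(chevF4.group K)) :=
  RGD.T_le_normalizer (rgd (K := K) isType cF 2) hA

end Cfsg.Agent.Omega.HOneEnd.FFour

end

-- merged: Cfsg.Agent.Mrg.Omega.HOneEnd.FFourAct
section

/-!
# `FFourDat` for `F₄(q)`, `q` even: the action of `S` on `G₀`

* `Emb.exists_frame` : for `t ∈ S` there is `u ∈ U` such that `j(u) t` acts on every root group by `b ↦ c_x τ(b)`;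
* `Emb.S_X` : `S` normalises `X_{47}` and `X_{44}`;
* `Emb.mem_range` (no field automorphisms): `t ∈ S`, `[X_i, t] ≤ ⟨X_c : c > 0, c ≠ α_i⟩` for one simple root `α_i`
  implies `t ∈ G₀`.
-/

set_option autoImplicit false
set_option Elab.async false
set_option linter.unusedSectionVars false

namespace Cfsg.Agent.Omega.HOneEnd.FFour

open CoxeterSystem Cfsg.Agent.ChevalleyStructure.CoxeterGeom Cfsg.Agent.Tits.Roots Cfsg.Agent.Tits.Core
open Cfsg.Lie Cfsg.Agent.ChevalleyStructure Cfsg.Agent.ChevalleyStructure.Elts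
  Cfsg.Agent.ChevalleyStructure.RootVec Cfsg.Agent.ChevalleyStructure.CoxeterGeomTypes
open Cfsg.Agent.Nodes Cfsg.Agent.Nodes.Reps Cfsg.Agent.Nodes.BNOf Cfsg.Agent.Nodes.RGDChev Cfsg.Agent.Nodes.Coroot
  Cfsg.Agent.Nodes.KindF Cfsg.Agent.Nodes.Bruhat Cfsg.Agent.Nodes.OppDec Cfsg.Agent.Nodes.LeviDec
  Cfsg.Agent.Nodes.NormalForm Cfsg.Agent.KFacts.ChevTwo Cfsg.Agent.KFacts.ChevTwoTab
  Cfsg.Agent.KFacts.ChevTwoInst Cfsg.Agent.KFacts.RgdTI Cfsg.Agent.KFacts.RgdAut Cfsg.Agent.KFacts.RgdDiag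
  Cfsg.Agent.KFacts.RgdRigid Cfsg.Agent.KFacts.RgdField Cfsg.Agent.KFacts.RgdTau Cfsg.Agent.KFacts.RgdSys
  Cfsg.Agent.KFacts.RgdAutFacts Cfsg.Agent.KFacts.RgdGraphF4 Cfsg.Agent.KFacts.RgdOver Cfsg.Agent.KFacts.RgdFixU
  Cfsg.Agent.KFacts.F4Star Cfsg.Agent.KFacts.F4Cent Cfsg.Agent.KFacts.F4Pair Cfsg.Agent.KFacts.F4Torus
  Cfsg.Agent.KFacts.F4Perf Cfsg.Agent.KFacts.F4Aut

universe u

variable {K : Type u} [Field K] [Finite K] [CharP K 2]

/-- `Z(U)` contains `X_r`. -/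
theorem pos_comm {r : Fin 4 → ℤ} (hr : Dom r) {u z : ↥(chevF4.group K)}
    (hu : u ∈ RGD.Sup (XF K) (RGD.Pos cF isType.isCartan)) (hz : z ∈ XF K r) : u * z = z * u :=
  ((sysF (K := K) cF).lr hr.root).comm' (RGD.Sup_mono hr.pos_sub hu) hz

/-- Frame representatives of the automorphisms normalising `U` and `X_r`. -/
theorem exists_tau_of_fix {α : MulAut ↥(chevF4.group K)}
    (hU : Fix α (RGD.Sup (XF K) (RGD.Pos cF isType.isCartan))) {r : Fin 4 → ℤ} (hr : Dom r) (hX : Fix α (XF K r)) :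
    ∃ u ∈ RGD.Sup (XF K) (RGD.Pos cF isType.isCartan), ∃ τ : K ≃+* K,
      ∀ x, IsRoot cF isType.isCartan x → ∃ c : K, c ≠ 0 ∧ ∀ b, (MulAut.conj u * α) (eF K x b) = eF K x (c * τ b) := by
  have hG1 := G1_eq_top (K := K) isType cF
  have hG := GG_top (K := K) cF
  obtain ⟨R, hR⟩ : ∃ R, R = rgd (K := K) isType cF 2 := ⟨_, rfl⟩
  have S : Sys R (eF K) := hR ▸ sysF (K := K) cF
  obtain ⟨u, hu, hU', hB, hUN, hBN, hT⟩ := Cfsg.Agent.KFacts.RgdAut.exists_frame R hG hU
  refine ⟨u, hu, ?_⟩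
  obtain ⟨β, hβ⟩ : ∃ β, β = MulAut.conj u * α := ⟨_, rfl⟩
  rw [← hβ] at hU' hB hUN hBN hT ⊢
  have hβX : ∀ z ∈ XF K r, β z ∈ XF K r := by
    intro z hz
    have h1 : α z ∈ XF K r := (hX z).2 hz
    rw [hβ]
    show u * α z * u⁻¹ ∈ XF K r
    rw [pos_comm hr hu h1, mul_inv_cancel_right]
    exact h1
  obtain ⟨σ, D⟩ := exists_diag R hG hU' hUN
  have hσ1 : σ = 1 := by
    rcases perm_F4 σ (D.matrix R) with h1 | h1
    · exact h1
    exfalso
    obtain ⟨z, hz, hz1⟩ := X_ne (K := K) hr.root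
    obtain ⟨w, i, hwi⟩ := hr.root
    have h0 : z ∈ XF K (rep cF isType.isCartan w (sr i)) := by rw [← hwi]; exact hz
    have h2 := (D.root R (D.matrix R) w i z).2 h0
    have h5 : β z ≠ 1 := fun h => hz1 (by
      have := congrArg β.symm h
      rwa [MulEquiv.symm_apply_apply, map_one] at this)
    have h3 : rep cF isType.isCartan (hat cF σ (D.matrix R) w) (sr (σ i)) = rep cF isType.isCartan w (sr i) := by
      by_contra hne
      have h4 := X_inf_X R (⟨_, _, rfl⟩ : IsRoot cF isType.isCartan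
        (rep cF isType.isCartan (hat cF σ (D.matrix R) w) (sr (σ i)))) ⟨w, i, rfl⟩ hne
      rw [Subgroup.eq_bot_iff_forall] at h4
      exact h5 (h4 _ ⟨h2, hwi ▸ hβX z hz⟩)
    have h4 : Lg cF (sr (σ i)) ↔ Lg cF (sr i) := by
      rw [← lg_rep_iff cF (hat cF σ (D.matrix R) w), h3, lg_rep_iff cF w]
    have h6 := lg_swap cF h1 i
    tauto
  subst hσ1
  have C := coords S hG1
  have H := coroots S hG1 (noCent cF)
  obtain ⟨τ, B⟩ := exists_tau R C H hconn_F4 D fun _ _ => rfl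
  exact ⟨τ, fun x hx => Tau.root R C B hx⟩

/-- No field automorphisms. -/
theorem inner_of_mod {α : MulAut ↥(chevF4.group K)}
    (hU : Fix α (RGD.Sup (XF K) (RGD.Pos cF isType.isCartan))) {r : Fin 4 → ℤ} (hr : Dom r) (hX : Fix α (XF K r))
    (i : Fin 4) (hα : ∀ x ∈ XF K (sr i), α x * x⁻¹ ∈ RGD.Sup (XF K) (RGD.PosNe cF isType.isCartan i)) :
    ∃ y : ↥(chevF4.group K), α = MulAut.conj y := by
  have hG1 := G1_eq_top (K := K) isType cF
  obtain ⟨R, hR⟩ : ∃ R, R = rgd (K := K) isType cF 2 := ⟨_, rfl⟩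
  have S : Sys R (eF K) := hR ▸ sysF (K := K) cF
  obtain ⟨u, hu, τ, hτ⟩ := exists_tau_of_fix hU hr hX
  have hsr := isRoot_sr cF isType.isCartan i
  have hXU : XF K (sr i) ≤ RGD.Sup (XF K) (RGD.Pos cF isType.isCartan) :=
    RGD.le_Sup (S := RGD.Pos cF isType.isCartan) ⟨hsr, sr_nonneg i⟩
  have hab : ∀ a ∈ XF K (sr i), ∀ b ∈ XF K (sr i), a * b = b * a := by
    intro a ha b hb
    have h0 : (sr i : Fin 4 → ℤ) ∈ Ge cF isType.isCartan (sr i) := ⟨hsr, by rw [cpr_self cF _ hsr]; norm_num⟩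
    exact ((sysF (K := K) cF).lr hsr).comm' (RGD.le_Sup h0 ha) hb
  -- `β` is trivial on `X_i`
  have hpos : ∀ x ∈ XF K (sr i), (MulAut.conj u * α) x = x := by
    intro x hx
    have h1 : (MulAut.conj u * α) x ∈ XF K (sr i) := by
      obtain ⟨b, rfl⟩ := (mem_XF_iff cF hsr).1 hx
      obtain ⟨c, -, e⟩ := hτ _ hsr
      rw [e]
      exact (mem_XF_iff cF hsr).2 ⟨_, rfl⟩
    have e : (MulAut.conj u * α) x = u * (α x * x⁻¹ * x) * u⁻¹ := by
      rw [MulAut.mul_apply, MulAut.conj_apply, inv_mul_cancel_right]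
    have hw := hα x hx
    obtain ⟨w, hwd⟩ : ∃ w, w = α x * x⁻¹ := ⟨_, rfl⟩
    rw [← hwd] at hw e
    rw [e] at h1
    rw [e]
    obtain ⟨a, ha, v, hv, rfl⟩ := exists_mul_V R i hu
    have h2 : a * v * (w * x) * (a * v)⁻¹ * x⁻¹ ∈ XF K (sr i) := mul_mem h1 (inv_mem hx)
    have h3 : a * v * (w * x) * (a * v)⁻¹ * x⁻¹ = a * ((v * w) * (x * v⁻¹ * x⁻¹)) * a⁻¹ := by
      have h5 : x⁻¹ * a⁻¹ = a⁻¹ * x⁻¹ := hab x⁻¹ (inv_mem hx) a⁻¹ (inv_mem ha)
      calc a * v * (w * x) * (a * v)⁻¹ * x⁻¹ = a * v * (w * x) * v⁻¹ * (a⁻¹ * x⁻¹) := by group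
        _ = a * v * (w * x) * v⁻¹ * (x⁻¹ * a⁻¹) := by rw [h5]
        _ = _ := by group
    have h6 : x * v⁻¹ * x⁻¹ ∈ RGD.Sup (XF K) (RGD.PosNe cF isType.isCartan i) :=
      (Subgroup.mem_normalizer_iff.1 (U_le_normalizer_V R i (hXU hx)) _).1 (inv_mem hv)
    have h4 : a * ((v * w) * (x * v⁻¹ * x⁻¹)) * a⁻¹ ∈ RGD.Sup (XF K) (RGD.PosNe cF isType.isCartan i) :=
      (Subgroup.mem_normalizer_iff.1 (U_le_normalizer_V R i (hXU ha)) _).1 (mul_mem (mul_mem hv hw) h6)
    have h5 := eq_one_of_mem_PosNe R h2 (by rw [h3]; exact h4)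
    exact mul_inv_eq_one.1 h5
  obtain ⟨g, -, hg⟩ := inner_of_fix_X cF hsr hpos
  refine ⟨u⁻¹ * g, ?_⟩
  rw [map_mul, map_inv, ← hg]; group

section Over

variable {G : Type*} [Group G] {j : ↥(chevF4.group K) →* G} {S Y : Subgroup G}

theorem map_normalizer {A : Set (Fin 4 → ℤ)} {H : Subgroup G} (h : ∀ t ∈ H, ∀ z ∈ SG j A, t * z * t⁻¹ ∈ SG j A) :
    H ≤ Subgroup.normalizer (SG j A : Set G) := by
  intro t ht
  rw [Subgroup.mem_normalizer_iff]
  intro z
  refine ⟨h t ht z, fun hz => ?_⟩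
  have h1 := h t⁻¹ (inv_mem ht) _ hz
  have e : t⁻¹ * (t * z * t⁻¹) * t⁻¹⁻¹ = z := by group
  rwa [e] at h1

namespace Emb

variable (E : Emb j S Y)

include E

theorem S_G : S ≤ Subgroup.normalizer (j.range : Set G) := E.S_Y.trans E.Y_G

theorem S_U : S ≤ Subgroup.normalizer (SG j (RGD.Pos cF isType.isCartan) : Set G) := by
  refine map_normalizer fun t ht z hz => ?_
  rw [← E.S₀, Subgroup.mem_inf] at hz ⊢
  exact ⟨mul_mem (mul_mem ht hz.1) (inv_mem ht), (Subgroup.mem_normalizer_iff.1 (E.S_G ht) z).1 hz.2⟩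

theorem fix_U {t : G} (ht : t ∈ S) : Fix (act j E.inj ⟨t, E.S_G ht⟩) (RGD.Sup (XF K) (RGD.Pos cF isType.isCartan)) :=
  fix_act j E.inj (E.S_U ht)

/-- The action of `S`. -/
theorem exists_frame {t : G} (ht : t ∈ S) : ∃ u ∈ RGD.Sup (XF K) (RGD.Pos cF isType.isCartan), ∃ τ : K ≃+* K,
    ∀ x, IsRoot cF isType.isCartan x → ∃ c : K, c ≠ 0 ∧
      ∀ b, (MulAut.conj u * act j E.inj ⟨t, E.S_G ht⟩) (eF K x b) = eF K x (c * τ b) := by
  obtain ⟨r, hr, hX⟩ := E.len
  exact exists_tau_of_fix (E.fix_U ht) hr (fix_act j E.inj (hX ht))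

theorem S_X {r : Fin 4 → ℤ} (hr : Dom r) : S ≤ Subgroup.normalizer (XG j r : Set G) := by
  have key : ∀ t ∈ S, ∀ z ∈ XG j r, t * z * t⁻¹ ∈ XG j r := by
    rintro t ht _ ⟨y, hy, rfl⟩
    obtain ⟨u, hu, τ, h⟩ := E.exists_frame ht
    obtain ⟨c, -, e⟩ := h r hr.root
    rw [← f_act j E.inj ⟨t, E.S_G ht⟩]
    refine ⟨_, ?_, rfl⟩
    obtain ⟨b, rfl⟩ := (mem_XF_iff cF hr.root).1 hy
    have h1 : eF K r (c * τ b) ∈ XF K r := (mem_XF_iff cF hr.root).2 ⟨_, rfl⟩
    have h2 := e b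
    rw [MulAut.mul_apply, MulAut.conj_apply] at h2
    have h3 : act j E.inj ⟨t, E.S_G ht⟩ (eF K r b) = u⁻¹ * eF K r (c * τ b) * u := by rw [← h2]; group
    rw [SetLike.mem_coe, h3, pos_comm hr (inv_mem hu) h1, inv_mul_cancel_right]
    exact h1
  intro t ht
  rw [Subgroup.mem_normalizer_iff]
  intro z
  refine ⟨key t ht z, fun hz => ?_⟩
  have h1 := key t⁻¹ (inv_mem ht) _ hz
  have e : t⁻¹ * (t * z * t⁻¹) * t⁻¹⁻¹ = z := by group
  rwa [e] at h1

theorem mem_range_of_inner {t : G} (ht : t ∈ S) {y : ↥(chevF4.group K)}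
    (h : act j E.inj ⟨t, E.S_G ht⟩ = MulAut.conj y) : t = j y := by
  have h1 := E.cent ((j y)⁻¹ * t) fun x => by
    have h2 := f_act j E.inj ⟨t, E.S_G ht⟩ x
    rw [h, MulAut.conj_apply, map_mul, map_mul, map_inv] at h2
    change j y * j x * (j y)⁻¹ = t * j x * t⁻¹ at h2
    calc (j y)⁻¹ * t * j x = (j y)⁻¹ * (t * j x * t⁻¹) * t := by group
      _ = j x * ((j y)⁻¹ * t) := by rw [← h2]; group
  exact (inv_mul_eq_one.1 h1).symm

/-- **No field automorphisms.** -/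
theorem mem_range {t : G} (ht : t ∈ S) (i : Fin 4)
    (hα : ∀ x ∈ XF K (sr i), t * j x * t⁻¹ * (j x)⁻¹ ∈ SG j (RGD.PosNe cF isType.isCartan i)) :
    t ∈ SG j (RGD.Pos cF isType.isCartan) := by
  obtain ⟨r, hr, hX⟩ := E.len
  obtain ⟨y, hy⟩ := inner_of_mod (E.fix_U ht) hr (fix_act j E.inj (hX ht)) i (by
    intro x hx
    obtain ⟨w, hw, e⟩ := hα x hx
    have h1 : j w = j (act j E.inj ⟨t, E.S_G ht⟩ x * x⁻¹) := by
      rw [map_mul, map_inv, f_act j E.inj ⟨t, E.S_G ht⟩]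
      exact e
    rw [← E.inj h1]
    exact hw)
  rw [← E.S₀]
  exact ⟨ht, y, (E.mem_range_of_inner ht hy).symm⟩

end Emb

end Over

end Cfsg.Agent.Omega.HOneEnd.FFour

end

-- merged: Cfsg.Agent.Mrg.Omega.HOneEnd.FFourSide
section

/-!
# `FFourDat` for `F₄(q)`, `q` even: `Side`, `O₂(C_G(Z))`

* `Emb.CG_eq` : `CG j r = C_{G₀}(X_r)`;
* `Emb.side` : `Side S Y (CG j r) (XG j r) (QG j r) (UG j r)`, given the fields `irr`, `comm`, `typ`;
* `Emb.oZ` : `O₂(C_G(Z)) = Q_{47} Q_{44}`; `Emb.cen0` : `Z(Q_{47} Q_{44}) = X_{47} X_{44}`.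
-/

set_option autoImplicit false
set_option Elab.async false
set_option linter.unusedSectionVars false

namespace Cfsg.Agent.Omega.HOneEnd.FFour

open CoxeterSystem Cfsg.Agent.ChevalleyStructure.CoxeterGeom Cfsg.Agent.Tits.Roots Cfsg.Agent.Tits.Core
open Cfsg Cfsg.Lie Cfsg.Agent.ChevalleyStructure Cfsg.Agent.ChevalleyStructure.Elts
  Cfsg.Agent.ChevalleyStructure.RootVec Cfsg.Agent.ChevalleyStructure.CoxeterGeomTypes
open Cfsg.Agent.Nodes Cfsg.Agent.Nodes.Reps Cfsg.Agent.Nodes.BNOf Cfsg.Agent.Nodes.RGDChev Cfsg.Agent.Nodes.Coroot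
  Cfsg.Agent.Nodes.KindF Cfsg.Agent.Nodes.Bruhat Cfsg.Agent.Nodes.OppDec Cfsg.Agent.Nodes.LeviDec
  Cfsg.Agent.KFacts.ChevTwo Cfsg.Agent.KFacts.ChevTwoTab
  Cfsg.Agent.KFacts.ChevTwoInst Cfsg.Agent.KFacts.RgdTI Cfsg.Agent.KFacts.RgdOdd Cfsg.Agent.KFacts.RgdEx
  Cfsg.Agent.KFacts.F4Star Cfsg.Agent.KFacts.F4Cent Cfsg.Agent.KFacts.F4Pair Cfsg.Agent.KFacts.F4Torus
  Cfsg.Agent.KFacts.F4Perf Cfsg.Agent.KFacts.F4Aut Cfsg.Agent.KFacts.F4AutPair
open Subgroup Cfsg.Agent.ZN Cfsg.Agent.Omega.MinPar Cfsg.Agent.Omega.Frame Cfsg.Agent.Omega.All.HOne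
open Cfsg.Agent.Omega.FrameNOFF (CZ)
open Cfsg.Agent.MinSimple.VModule (le_o2 mem_zc zc_le zc_comm o2_le o2_isPGroup le_normalizer_o2 le_centralizer_zc
  zc_le_centralizer zc_sq normalizer_le_normalizer_zc)

universe u v

variable {K : Type v} [Field K] [Finite K] [CharP K 2] {G : Type u} [Group G] {j : ↥(chevF4.group K) →* G}

theorem mem_SG {A : Set (Fin 4 → ℤ)} {g : G} : g ∈ SG j A ↔ ∃ x ∈ RGD.Sup (XF K) A, j x = g := Iff.rfl

theorem mem_XG {r : Fin 4 → ℤ} {g : G} : g ∈ XG j r ↔ ∃ x ∈ XF K r, j x = g := Iff.rfl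

theorem SG_mono {A B : Set (Fin 4 → ℤ)} (h : A ⊆ B) : SG j A ≤ SG j B := map_mono (RGD.Sup_mono h)

theorem SG_le_range {A : Set (Fin 4 → ℤ)} : SG j A ≤ j.range := by
  rintro _ ⟨x, -, rfl⟩
  exact ⟨x, rfl⟩

theorem XG_le_SG {r : Fin 4 → ℤ} {A : Set (Fin 4 → ℤ)} (h : r ∈ A) : XG j r ≤ SG j A := map_mono (RGD.le_Sup h)

theorem SG_union {A B : Set (Fin 4 → ℤ)} : SG j (A ∪ B) = SG j A ⊔ SG j B := by
  unfold SG
  rw [← Subgroup.map_sup]
  congr 1
  apply le_antisymm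
  · refine RGD.Sup_le fun z hz => ?_
    rcases hz with h | h
    · exact (RGD.le_Sup h).trans le_sup_left
    · exact (RGD.le_Sup h).trans le_sup_right
  · exact sup_le (RGD.Sup_mono Set.subset_union_left) (RGD.Sup_mono Set.subset_union_right)

theorem el_of {A : Subgroup G} (h1 : ∀ a ∈ A, ∀ b ∈ A, a * b = b * a) (h2 : ∀ a ∈ A, a * a = 1) :
    IsElementaryAbelian 2 A :=
  ⟨⟨⟨fun a b => Subtype.ext (h1 a a.2 b b.2)⟩⟩, fun a ha => by rw [pow_two]; exact h2 a ha⟩

theorem SG_el {A : Set (Fin 4 → ℤ)} (hA : ∀ x ∈ A, IsRoot cF isType.isCartan x)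
    (h : ∀ x ∈ A, ∀ y ∈ A, 0 ≤ cpr cF isType.isCartan y x) : IsElementaryAbelian 2 (SG j A) := by
  refine el_of ?_ ?_
  · rintro _ ⟨a, ha, rfl⟩ _ ⟨b, hb, rfl⟩
    rw [← map_mul, ← map_mul, sup_comm hA hA h ha hb]
  · rintro _ ⟨a, ha, rfl⟩
    rw [← map_mul, sup_sq hA h ha, map_one]

theorem map_mem_normalizer {H : Subgroup ↥(chevF4.group K)} {t : ↥(chevF4.group K)}
    (ht : t ∈ normalizer (H : Set ↥(chevF4.group K))) : j t ∈ normalizer (H.map j : Set G) := by
  have key : ∀ t ∈ normalizer (H : Set ↥(chevF4.group K)), ∀ z ∈ H.map j, j t * z * (j t)⁻¹ ∈ H.map j := by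
    rintro t ht _ ⟨y, hy, rfl⟩
    refine ⟨t * y * t⁻¹, (mem_normalizer_iff.1 ht y).1 hy, ?_⟩
    rw [map_mul, map_mul, map_inv]
  rw [mem_normalizer_iff]
  intro z
  refine ⟨key t ht z, fun hz => ?_⟩
  have h1 := key t⁻¹ (inv_mem ht) _ hz
  rw [map_inv] at h1
  have e : (j t)⁻¹ * (j t * z * (j t)⁻¹) * (j t)⁻¹⁻¹ = z := by group
  rwa [e] at h1

namespace Emb

variable {S Y : Subgroup G} (E : Emb j S Y)

include E

theorem CG_eq {r : Fin 4 → ℤ} (hr : Dom r) : CG j r = j.range ⊓ centralizer (XG j r : Set G) := by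
  apply le_antisymm
  · refine le_inf SG_le_range ?_
    rintro _ ⟨x, hx, rfl⟩
    rw [mem_centralizer_iff]
    rintro _ ⟨z, hz, rfl⟩
    rw [← map_mul, ← map_mul, ((sysF (K := K) cF).lr hr.root).comm' hx hz]
  · rintro _ ⟨⟨x, rfl⟩, hx⟩
    obtain ⟨z, hz, hz1⟩ := X_ne (K := K) hr.root
    refine ⟨x, cent_X cF hr.root hz hz1 (E.inj ?_), rfl⟩
    rw [map_mul, map_mul]
    exact ((mem_centralizer_iff.1 hx) _ ⟨z, hz, rfl⟩).symm

theorem UG_le : SG j (RGD.Pos cF isType.isCartan) ≤ S := by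
  rw [← E.S₀]; exact inf_le_left

theorem S_CG {r : Fin 4 → ℤ} (hr : Dom r) : S ≤ normalizer (CG j r : Set G) := by
  rw [E.CG_eq hr]
  exact normalizer_inf_le E.S_G (normalizer_centralizer_le (E.S_X hr))

/-- `O₂(C) ≤ Q` -/
theorem Q_max [Finite G] {r : Fin 4 → ℤ} (hr : IsRoot cF isType.isCartan r) {T : Subgroup G} (hT : IsPGroup 2 T)
    (hTG : T ≤ j.range) (hn : CG j r ≤ normalizer (T : Set G)) : T ≤ QG j r := by
  have : Fact (Nat.Prime 2) := ⟨Nat.prime_two⟩
  have h1 : T.comap j ≤ RGD.Sup (XF K) (Rad cF isType.isCartan r) := by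
    refine core_le (rgd (K := K) isType cF 2) hr (D := T.comap j) ?_ (hT.comap_of_injective j E.inj) fun u hu => ?_
    · rw [GG_top cF]; exact le_top
    · rw [← mem_normalizer_iff_cj, mem_normalizer_iff]
      intro y
      rw [mem_comap, mem_comap, map_mul, map_mul, map_inv]
      exact mem_normalizer_iff.1 (hn ⟨u, hu, rfl⟩) (j y)
  intro t ht
  obtain ⟨x, rfl⟩ := hTG ht
  exact ⟨x, h1 ht, rfl⟩

theorem rad_sub_posNe {r : Fin 4 → ℤ} (hr : Dom r) {i : Fin 4}
    (hi : cpr cF isType.isCartan (sr i) r = 0) : Rad cF isType.isCartan r ⊆ RGD.PosNe cF isType.isCartan i := by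
  intro x hx
  have h1 := hr.rad_sub hx
  refine ⟨h1.1, h1.2, ?_⟩
  rintro rfl
  have := hx.2
  omega

/-- both middle nodes are orthogonal to the dominant roots -/
theorem orth_one {r : Fin 4 → ℤ} (hr : Dom r) : cpr cF isType.isCartan (sr 1) r = 0 := by
  have h1 : (sr 1 : Fin 4 → ℤ) ∈ StabComb.RootsJ cF isType.isCartan JJ := by
    refine ⟨isRoot_sr cF _ 1, fun k hk => sr_ne ?_⟩
    rintro rfl
    exact hk (Or.inl rfl)
  have h2 := h1
  have h3 : (-(sr 1) : Fin 4 → ℤ) ∈ StabComb.RootsJ cF isType.isCartan JJ :=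
    ⟨h1.1.neg, fun k hk => by rw [Pi.neg_apply, h1.2 k hk, neg_zero]⟩
  have h4 := rootsJ_sub h2
  have h5 := rootsJ_sub h3
  have key : ∀ r, IsRoot cF isType.isCartan r → (sr 1 : Fin 4 → ℤ) ∈ Ge cF isType.isCartan r →
      (-(sr 1) : Fin 4 → ℤ) ∈ Ge cF isType.isCartan r → cpr cF isType.isCartan (sr 1) r = 0 := by
    intro r hr h1 h2
    have h3 := h1.2
    have h4 := h2.2
    rw [cpr_neg cF _ _ hr] at h4
    omega
  rcases hr with rfl | rfl
  · exact key _ (isRoot_v cF (by norm_num)) h4.1 h5.1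
  · exact key _ (isRoot_v cF (by norm_num)) h4.2 h5.2

/-- no field automorphisms, `Z(C/Q) = 1` -/
theorem fld [Finite G] {r : Fin 4 → ℤ} (hr : Dom r) {t : G} (ht : t ∈ S)
    (h : ∀ c ∈ CG j r, t * c * t⁻¹ * c⁻¹ ∈ QG j r) : t ∈ QG j r := by
  have hsr := isRoot_sr cF isType.isCartan 1
  have h0 : (sr 1 : Fin 4 → ℤ) ∈ Ge cF isType.isCartan r := ⟨hsr, (orth_one E hr).ge⟩
  have h1 : t ∈ SG j (RGD.Pos cF isType.isCartan) := by
    refine E.mem_range ht 1 fun x hx => ?_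
    exact SG_mono (rad_sub_posNe E hr (orth_one E hr)) (h _ ⟨x, RGD.le_Sup h0 hx, rfl⟩)
  have htC : t ∈ CG j r := SG_mono hr.pos_sub h1
  have hQS : QG j r ≤ S := (SG_mono hr.rad_sub).trans E.UG_le
  have hCQ : CG j r ≤ normalizer (QG j r : Set G) := by
    rintro _ ⟨c, hc, rfl⟩
    exact map_mem_normalizer (ge_le_normalizer hr.root hc)
  have hT : zpowers t ⊔ QG j r ≤ S := sup_le (zpowers_le.2 ht) hQS
  have hTC : zpowers t ⊔ QG j r ≤ CG j r := sup_le (zpowers_le.2 htC) (SG_mono rad_sub_ge)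
  have h2 : zpowers t ⊔ QG j r ≤ QG j r := by
    refine E.Q_max hr.root (E.two.to_le hT) (hTC.trans SG_le_range) ?_
    refine le_normalizer_of fun c hc x hx => ?_
    have h3 : zpowers t ⊔ QG j r ≤ (zpowers t ⊔ QG j r).comap (MulAut.conj c).toMonoidHom := by
      rw [sup_le_iff, zpowers_le]
      constructor
      · rw [mem_comap]
        show c * t * c⁻¹ ∈ _
        have h4 : c * t * c⁻¹ = (t * c * t⁻¹ * c⁻¹)⁻¹ * t := by group
        rw [h4]
        exact mul_mem (inv_mem (mem_sup_right (h _ hc))) (mem_sup_left (mem_zpowers t))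
      · intro y hy
        exact mem_comap.2 (mem_sup_right (conj_mem_of_normalizer (hCQ hc) hy))
    exact h3 hx
  exact h2 (mem_sup_left (mem_zpowers t))

theorem trans {r : Fin 4 → ℤ} (hr : Dom r) {x x' : G} (hx : x ∈ XG j r) (hx' : x' ∈ XG j r) (h1 : x ≠ 1)
    (h1' : x' ≠ 1) : ∃ y ∈ Y, y ∈ normalizer (XG j r : Set G) ∧ y ∈ normalizer (QG j r : Set G) ∧
      y * x * y⁻¹ = x' := by
  obtain ⟨a, ha, rfl⟩ := hx
  obtain ⟨b, hb, rfl⟩ := hx'
  obtain ⟨t, ht, e⟩ := exists_tor hr ha hb (fun h => h1 (by rw [h, map_one])) (fun h => h1' (by rw [h, map_one]))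
  refine ⟨j t, E.G_Y ⟨t, rfl⟩, map_mem_normalizer ?_, map_mem_normalizer ?_, ?_⟩
  · rw [mem_normalizer_iff_cj]
    exact (rgd (K := K) isType cF 2).tor r hr.root t ht
  · exact tor_normalizer (fun x hx => hx.1) ht
  · rw [← map_mul, ← map_inv, ← map_mul, e]

theorem side [Finite G] {r : Fin 4 → ℤ} (hr : Dom r)
    (irr : ∀ T : Subgroup G, T ≤ QG j r → CG j r ≤ normalizer (T : Set G) →
      QG j r ⊓ centralizer (T : Set G) ≤ T → T = QG j r) (comm : ⁅QG j r, QG j r⁆ = XG j r)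
    (typ : ∀ u ∈ UG j r, ∃ y ∈ Y, y * u * y⁻¹ ∈ zc S) :
    Side S Y (CG j r) (XG j r) (QG j r) (UG j r) where
  X_el := by
    have h1 : XG j r = SG j {r} := by
      unfold XG SG
      congr 1
      exact le_antisymm (RGD.le_Sup rfl) (RGD.Sup_le fun z hz => by rw [Set.mem_singleton_iff.1 hz])
    rw [h1]
    refine SG_el (fun x hx => ?_) fun x hx y hy => ?_
    · rw [Set.mem_singleton_iff.1 hx]; exact hr.root
    · rw [Set.mem_singleton_iff.1 hx, Set.mem_singleton_iff.1 hy, cpr_self cF _ hr.root]; norm_num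
  X_ne := by
    obtain ⟨z, hz, hz1⟩ := X_ne (K := K) hr.root
    intro h
    have h1 : j z ∈ XG j r := ⟨z, hz, rfl⟩
    rw [h, mem_bot] at h1
    exact hz1 (E.inj (by rw [h1, map_one]))
  X_S := (XG_le_SG (hr.rad_sub (self_mem_rad hr.root))).trans E.UG_le
  S_X := E.S_X hr
  X_U := XG_le_SG ⟨hr.root, Or.inl rfl⟩
  U_eq := by
    apply le_antisymm
    · refine le_inf (SG_mono (v7_sub_rad hr.root)) ?_
      rintro _ ⟨x, hx, rfl⟩
      rw [mem_centralizer_iff]
      rintro _ ⟨z, hz, rfl⟩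
      rw [← map_mul, ← map_mul, sup_comm (fun x hx => hx.1) (fun x hx => hx.1)
        (fun x hx y hy => hr.v7_comm hx hy) hx hz]
    · rintro _ ⟨⟨x, hx, rfl⟩, hc⟩
      refine ⟨x, cent_rad hr.root fun z hz => E.inj ?_, rfl⟩
      rw [map_mul, map_mul]
      exact ((mem_centralizer_iff.1 hc) _ ⟨z, hz, rfl⟩).symm
  U_el := SG_el (fun x hx => hx.1) fun x hx y hy => hr.v7_comm hx (v7_sub_rad hr.root hy)
  Q_S := (SG_mono hr.rad_sub).trans E.UG_le
  Q_C := SG_mono rad_sub_ge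
  C_X := by rw [E.CG_eq hr]; exact inf_le_right
  S_C := E.S_CG hr
  Q_max T hT hTC hn := E.Q_max hr.root hT (hTC.trans SG_le_range) hn
  fld t ht h := E.fld hr ht h
  irr := irr
  comm := comm
  trans x hx x' hx' h1 h1' := E.trans hr hx hx' h1 h1'
  typ := typ

/-! ### `O₂(C_G(Z))` -/

/-- `Ω₁(Z(S)) ≤ X_{47} X_{44}` -/
theorem zc_le_XX : zc S ≤ SG j {v 47, v 44} := by
  intro z hz
  obtain ⟨hzS, hzc, -⟩ := mem_zc.1 hz
  have h1 : ∀ c ∈ RGD.Pos cF isType.isCartan, ∀ x ∈ XF K c, Cfsg.Agent.KFacts.RgdOver.act j E.inj ⟨z, E.S_G hzS⟩ x = x := by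
    intro c hc x hx
    apply E.inj
    rw [Cfsg.Agent.KFacts.RgdOver.f_act j E.inj ⟨z, E.S_G hzS⟩]
    have h2 := hzc _ (E.UG_le ⟨x, RGD.le_Sup hc hx, rfl⟩)
    show z * j x * z⁻¹ = j x
    rw [← h2, mul_inv_cancel_right]
  obtain ⟨y, hy, e⟩ := aut_pos cF h1
  rw [E.mem_range_of_inner hzS e]
  exact ⟨y, hy, rfl⟩

theorem XX_comm {x y : ↥(chevF4.group K)} (hx : x ∈ RGD.Sup (XF K) {v 47, v 44})
    (hy : y ∈ RGD.Sup (XF K) (Ge cF isType.isCartan (v 47) ∩ Ge cF isType.isCartan (v 44))) : x * y = y * x := by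
  refine sup_comm ?_ (fun z hz => hz.1.1) ?_ hx hy
  · rintro x (rfl | rfl)
    · exact isRoot_v cF (by norm_num)
    · exact isRoot_v cF (by norm_num)
  · rintro x (rfl | rfl) y hy
    · exact hy.1.2
    · exact hy.2.2

theorem GeGe_le_CZ : SG j (Ge cF isType.isCartan (v 47) ∩ Ge cF isType.isCartan (v 44)) ≤ CZ S := by
  rintro _ ⟨y, hy, rfl⟩
  rw [mem_centralizer_iff]
  intro z hz
  obtain ⟨x, hx, rfl⟩ := E.zc_le_XX hz
  rw [← map_mul, ← map_mul, XX_comm E hx hy]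

theorem QQ_eq : QG j (v 47) ⊔ QG j (v 44) =
    SG j (Rad cF isType.isCartan (v 47) ∪ Rad cF isType.isCartan (v 44)) := SG_union.symm

theorem pos_sub_GG : RGD.Pos cF isType.isCartan ⊆
    Ge cF isType.isCartan (v 47) ∩ Ge cF isType.isCartan (v 44) :=
  fun _ hx => ⟨Dom.pos_sub (Or.inl rfl) hx, Dom.pos_sub (Or.inr rfl) hx⟩

/-- a 2-subgroup of `G₀` normalised by `⟨X_c : ⟨c,47⟩, ⟨c,44⟩ ≥ 0⟩` lies in `Q_{47} Q_{44}` -/
theorem core_QQ {T : Subgroup G} (hT : IsPGroup 2 T) (hTG : T ≤ j.range)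
    (hn : SG j (Ge cF isType.isCartan (v 47) ∩ Ge cF isType.isCartan (v 44)) ≤ normalizer (T : Set G)) :
    T ≤ QG j (v 47) ⊔ QG j (v 44) := by
  have h1 : T.comap j ≤ RGD.Sup (XF K) (Rad cF isType.isCartan (v 47) ∪ Rad cF isType.isCartan (v 44)) := by
    refine core_JJ (hT.comap_of_injective j E.inj) fun u hu => ?_
    rw [mem_normalizer_iff]
    intro y
    rw [mem_comap, mem_comap, map_mul, map_mul, map_inv]
    exact mem_normalizer_iff.1 (hn ⟨u, hu, rfl⟩) (j y)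
  rw [QQ_eq E]
  intro t ht
  obtain ⟨x, rfl⟩ := hTG ht
  exact ⟨x, h1 ht, rfl⟩

theorem QQ_le_S : QG j (v 47) ⊔ QG j (v 44) ≤ S :=
  sup_le ((SG_mono (Dom.rad_sub (Or.inl rfl))).trans E.UG_le) ((SG_mono (Dom.rad_sub (Or.inr rfl))).trans E.UG_le)

/-- `C_{G₀}(Z)` lies in `P_{47} ∩ P_{44}`. -/
theorem CZ_le_CG [Finite G] {r : Fin 4 → ℤ} (hr : Dom r) : CZ S ⊓ j.range ≤ CG j r := by
  have hf : Fact (Nat.Prime 2) := ⟨Nat.prime_two⟩
  have hXS : XG j r ≤ S := (XG_le_SG (hr.rad_sub (self_mem_rad hr.root))).trans E.UG_le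
  have h2 : ∀ x ∈ XG j r, x * x = 1 := by
    rintro _ ⟨x, hx, rfl⟩
    rw [← map_mul, e_sq hr.root hx, map_one]
  have hne : XG j r ≠ ⊥ := by
    obtain ⟨z, hz, hz1⟩ := X_ne (K := K) hr.root
    intro h
    have h1 : j z ∈ XG j r := ⟨z, hz, rfl⟩
    rw [h, mem_bot] at h1
    exact hz1 (E.inj (by rw [h1, map_one]))
  obtain ⟨z, hz, hzX, hz1⟩ := Cfsg.Agent.Omega.All.exists_zc_mem E.two hXS (E.S_X hr) h2 hne
  obtain ⟨x, hx, rfl⟩ := hzX
  rintro _ ⟨hg, y, rfl⟩
  refine ⟨y, cent_X cF hr.root hx (fun h => hz1 (by rw [h, map_one])) (E.inj ?_), rfl⟩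
  rw [map_mul, map_mul]
  exact ((mem_centralizer_iff.1 hg) _ hz).symm

/-- **`O₂(C_G(Z)) = Q_{47} Q_{44}`**, for a 2-group `S` containing `O₂(C_G(Z))`. -/
theorem oZ_of [Finite G] (hOS : o2 (CZ S) ≤ S) (hCZ : CZ S ≤ Y) :
    o2 (CZ S) = QG j (v 47) ⊔ QG j (v 44) := by
  have hf : Fact (Nat.Prime 2) := ⟨Nat.prime_two⟩
  have hN := le_normalizer_o2 (CZ S)
  have hS : S ≤ CZ S := le_centralizer_zc S
  have hE0 := E.GeGe_le_CZ
  have hNG : CZ S ≤ normalizer (j.range : Set G) := hCZ.trans E.Y_G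
  -- `O ∩ G₀ ≤ Q_{47} Q_{44}`
  have h1 : o2 (CZ S) ⊓ j.range ≤ QG j (v 47) ⊔ QG j (v 44) :=
    E.core_QQ ((o2_isPGroup _).to_le inf_le_left) inf_le_right
      (hE0.trans (normalizer_inf_le hN hNG))
  have hsr := isRoot_sr cF isType.isCartan 1
  have h0 : (sr 1 : Fin 4 → ℤ) ∈ Ge cF isType.isCartan (v 47) ∩ Ge cF isType.isCartan (v 44) :=
    ⟨⟨hsr, (orth_one E (Or.inl rfl)).ge⟩, ⟨hsr, (orth_one E (Or.inr rfl)).ge⟩⟩
  have h2 : Rad cF isType.isCartan (v 47) ∪ Rad cF isType.isCartan (v 44) ⊆ RGD.PosNe cF isType.isCartan 1 :=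
    Set.union_subset (rad_sub_posNe E (Or.inl rfl) (orth_one E (Or.inl rfl)))
      (rad_sub_posNe E (Or.inr rfl) (orth_one E (Or.inr rfl)))
  apply le_antisymm
  · intro t ht
    have h3 : t ∈ SG j (RGD.Pos cF isType.isCartan) := by
      refine E.mem_range (hOS ht) 1 fun x hx => ?_
      have hxE : j x ∈ CZ S := hE0 ⟨x, RGD.le_Sup h0 hx, rfl⟩
      have h4 : t * j x * t⁻¹ * (j x)⁻¹ ∈ o2 (CZ S) ⊓ j.range := by
        refine mem_inf.2 ⟨?_, ?_⟩
        · have e : t * j x * t⁻¹ * (j x)⁻¹ = t * (j x * t⁻¹ * (j x)⁻¹) := by group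
          rw [e]
          exact mul_mem ht (conj_mem_of_normalizer (hN hxE) (inv_mem ht))
        · exact mul_mem (conj_mem_of_normalizer (hNG (hS (hOS ht))) ⟨x, rfl⟩) (inv_mem ⟨x, rfl⟩)
      have h5 := h1 h4
      rw [QQ_eq E] at h5
      exact SG_mono h2 h5
    exact h1 ⟨ht, SG_le_range h3⟩
  · refine le_o2 ?_ (E.two.to_le E.QQ_le_S) ?_
    · rw [QQ_eq E]
      exact (SG_mono fun x hx => pos_sub_GG E (by
        rcases hx with h | h
        · exact Dom.rad_sub (Or.inl rfl) h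
        · exact Dom.rad_sub (Or.inr rfl) h)).trans hE0
    · -- `C_G(Z)` normalises `Q_{47} Q_{44}`
      have hEn : CZ S ⊓ j.range ≤ normalizer ((QG j (v 47) ⊔ QG j (v 44) : Subgroup G) : Set G) := by
        refine normalizer_sup_le ?_ ?_
        · intro g hg
          obtain ⟨c, hc, rfl⟩ := E.CZ_le_CG (Or.inl rfl) hg
          exact map_mem_normalizer (ge_le_normalizer (Dom.root (Or.inl rfl)) hc)
        · intro g hg
          obtain ⟨c, hc, rfl⟩ := E.CZ_le_CG (Or.inr rfl) hg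
          exact map_mem_normalizer (ge_le_normalizer (Dom.root (Or.inr rfl)) hc)
      have hCE : CZ S ≤ normalizer ((CZ S ⊓ j.range : Subgroup G) : Set G) := normalizer_inf_le le_normalizer hNG
      refine le_normalizer_of fun g hg x hx => ?_
      have h3 : (QG j (v 47) ⊔ QG j (v 44)).map (MulAut.conj g).toMonoidHom ≤ QG j (v 47) ⊔ QG j (v 44) := by
        have h4 : QG j (v 47) ⊔ QG j (v 44) ≤ j.range := sup_le SG_le_range SG_le_range
        refine E.core_QQ ((E.two.to_le E.QQ_le_S).map _) ?_ ?_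
        · rintro _ ⟨y, hy, rfl⟩
          exact conj_mem_of_normalizer (hNG hg) (h4 hy)
        · refine le_normalizer_of ?_
          rintro c hc _ ⟨y, hy, rfl⟩
          have hc' : g⁻¹ * c * g ∈ CZ S ⊓ j.range :=
            conj_mem_of_normalizer' (hCE hg) ⟨hE0 hc, SG_le_range hc⟩
          refine ⟨g⁻¹ * c * g * y * (g⁻¹ * c * g)⁻¹, conj_mem_of_normalizer (hEn hc') hy, ?_⟩
          show g * (g⁻¹ * c * g * y * (g⁻¹ * c * g)⁻¹) * g⁻¹ = c * (g * y * g⁻¹) * c⁻¹
          group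
      exact h3 ⟨x, hx, rfl⟩

/-- **`O₂(C_G(Z)) = Q_{47} Q_{44}`.** -/
theorem oZ [Finite G] (hmax : ∀ T : Subgroup G, IsPGroup 2 T → S ≤ T → T ≤ S) (hCZ : CZ S ≤ Y) :
    o2 (CZ S) = QG j (v 47) ⊔ QG j (v 44) := by
  have hf : Fact (Nat.Prime 2) := ⟨Nat.prime_two⟩
  refine E.oZ_of ?_ hCZ
  have h1 : IsPGroup 2 ↥(o2 (CZ S) ⊔ S) :=
    (o2_isPGroup _).to_sup_of_normal_left' E.two ((le_centralizer_zc S).trans (le_normalizer_o2 (CZ S)))
  exact le_sup_left.trans (hmax _ h1 le_sup_right)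

/-- **`Z(Q_{47} Q_{44}) = X_{47} X_{44}`.** -/
theorem cen0 : (QG j (v 47) ⊔ QG j (v 44)) ⊓ centralizer ((QG j (v 47) ⊔ QG j (v 44) : Subgroup G) : Set G) =
    XG j (v 47) ⊔ XG j (v 44) := by
  have hXX : XG j (v 47) ⊔ XG j (v 44) = SG j {v 47, v 44} := by
    unfold XG SG
    rw [← Subgroup.map_sup]
    congr 1
    apply le_antisymm
    · exact sup_le (RGD.le_Sup (Or.inl rfl)) (RGD.le_Sup (Or.inr rfl))
    · refine RGD.Sup_le fun z hz => ?_
      rcases hz with rfl | rfl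
      · exact le_sup_left
      · exact le_sup_right
  rw [hXX, QQ_eq E]
  apply le_antisymm
  · rintro _ ⟨⟨x, hx, rfl⟩, hc⟩
    refine ⟨x, cent_rad2 fun z hz => E.inj ?_, rfl⟩
    rw [map_mul, map_mul]
    exact ((mem_centralizer_iff.1 hc) _ ⟨z, hz, rfl⟩).symm
  · refine le_inf (SG_mono ?_) ?_
    · rintro x (rfl | rfl)
      · exact Or.inl (self_mem_rad (Dom.root (Or.inl rfl)))
      · exact Or.inr (self_mem_rad (Dom.root (Or.inr rfl)))
    · rintro _ ⟨x, hx, rfl⟩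
      rw [mem_centralizer_iff]
      rintro _ ⟨z, hz, rfl⟩
      rw [← map_mul, ← map_mul, XX_comm E hx (RGD.Sup_mono (fun x hx => pos_sub_GG E (by
        rcases hx with h | h
        · exact Dom.rad_sub (Or.inl rfl) h
        · exact Dom.rad_sub (Or.inr rfl) h)) hz)]

end Emb

end Cfsg.Agent.Omega.HOneEnd.FFour

end

-- merged: Cfsg.Agent.KFacts.F4Rl
section

/-!
`F₄(q)`, `q ≥ 2` even: relations in index language, both lengths at once (K-group facts for OMEGA, NodeAll h1; F4).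

The roots are the indices `0, …, 47` (`F4Cent.v`), sets of roots are 48-bit masks.

* `a1 r s m` : `m = r + s`, same length, negative product; `a2 r s m k` : `r` long, `s` short, `m = r + s`, `k = r + 2 s`;
* `SP X P` : the group generated by the `X r`, `r ∈ P`;
* `Rl e X` : root elements `e r t` with the commutator relations in characteristic two, and the centralisers `cm`;
* `com r s N` : `[X r, X s] ≤ SP X N` (check);
* `SP_comm`, `norm_SP` : commutators of the groups `SP X P`.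
-/

set_option autoImplicit false
set_option Elab.async false

namespace Cfsg.Agent.KFacts.F4Rl

open Cfsg.Lie Cfsg.Agent.ChevalleyStructure
open Cfsg.Agent.KFacts.ChevTwo Cfsg.Agent.KFacts.ChevTwoTab Cfsg.Agent.KFacts.F4Star
open scoped commutatorElement

/-! ### Tables -/

/-- `m = r + s`, roots of the same length with negative product -/
def a1 (r s m : ℕ) : Bool :=
  Nat.blt r 48 && Nat.blt s 48 && Nat.blt m 48 && (longM.testBit r == longM.testBit s) && !(nn r).testBit s &&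
    lin 1 m 1 r 1 s

/-- `r` long, `s` short, negative product, `m = r + s`, `k = r + 2 s` -/
def a2 (r s m k : ℕ) : Bool :=
  Nat.blt r 48 && Nat.blt s 48 && Nat.blt m 48 && Nat.blt k 48 && longM.testBit r && !longM.testBit s &&
    !(nn r).testBit s && lin 1 m 1 r 1 s && lin 1 k 1 r 2 s

/-- `[X r, X s] ≤ SP X N` -/
def com (r s N : ℕ) : Bool :=
  (nn r).testBit s ||
    (if longM.testBit r == longM.testBit s then (List.range 48).any fun m => N.testBit m && a1 r s m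
     else if longM.testBit r then
       (List.range 48).any fun m => N.testBit m && lin 1 m 1 r 1 s && (List.range 48).any fun k => N.testBit k && a2 r s m k
     else
       (List.range 48).any fun m => N.testBit m && lin 1 m 1 r 1 s && (List.range 48).any fun k => N.testBit k && a2 s r m k)

/-- `com` for all pairs of `P`, `Q` -/
def comM (P Q N : ℕ) : Bool :=
  (List.range 48).all fun r => !P.testBit r || (List.range 48).all fun s => !Q.testBit s || com r s N

/-- inclusion of masks -/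
def sub (P Q : ℕ) : Bool := (List.range 48).all fun r => !P.testBit r || Q.testBit r

theorem sub_iff {P Q : ℕ} (h : sub P Q = true) {r : ℕ} (hr : r < 48) (h1 : P.testBit r = true) : Q.testBit r = true := by
  have h2 := List.all_eq_true.1 h r (List.mem_range.2 hr)
  rw [h1] at h2
  exact h2

theorem comM_iff {P Q N : ℕ} (h : comM P Q N = true) {r s : ℕ} (hr : r < 48) (hs : s < 48) (h1 : P.testBit r = true)
    (h2 : Q.testBit s = true) : com r s N = true := by
  have h3 := List.all_eq_true.1 h r (List.mem_range.2 hr)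
  rw [h1] at h3
  have h4 := List.all_eq_true.1 h3 s (List.mem_range.2 hs)
  rw [h2] at h4
  exact h4

/-! ### Groups of a mask -/

section SP

variable {Y : Type*} [Group Y]

/-- the group generated by the `X r`, `r ∈ P` -/
def SP (X : ℕ → Subgroup Y) (P : ℕ) : Subgroup Y := ⨆ r : {r : ℕ // r < 48 ∧ P.testBit r = true}, X r.1

variable {X : ℕ → Subgroup Y}

theorem le_SP {P r : ℕ} (hr : r < 48) (h : P.testBit r = true) : X r ≤ SP X P :=
  le_iSup (fun r : {r : ℕ // r < 48 ∧ P.testBit r = true} => X r.1) ⟨r, hr, h⟩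

theorem SP_le {P : ℕ} {H : Subgroup Y} (h : ∀ r < 48, P.testBit r = true → X r ≤ H) : SP X P ≤ H :=
  iSup_le fun r => h r.1 r.2.1 r.2.2

theorem SP_mono {P Q : ℕ} (h : sub P Q = true) : SP X P ≤ SP X Q :=
  SP_le fun _ hr h1 => le_SP hr (sub_iff h hr h1)

end SP

/-! ### The relations -/

/-- the masks for which we use centralisers: `Q_s Q_l`, `Q_l`, `U_l`, `J_s`, `J₀`, `Q_l - {24}`, `Q_s Q_l - {24, 33}`,
and their duals -/
def cml : List ℕ := [281473449984000, 279076858232832, 281466386776064, 160323076096000, 279275953455104,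
  160322539225088, 277076930199552, 279069795024896, 279076841455616, 281457796841472, 281464843272192]

/-- Root elements of `F₄(F)`, characteristic two, in index language. -/
structure Rl {F Y : Type*} [Field F] [Group Y] (e : ℕ → F → Y) (X : ℕ → Subgroup Y) : Prop where
  mem : ∀ r < 48, ∀ y, y ∈ X r ↔ ∃ t, e r t = y
  add : ∀ r < 48, ∀ t u, e r (t + u) = e r t * e r u
  inj : ∀ r < 48, ∀ t, e r t = 1 → t = 0
  sep : ∀ r < 48, ∀ s < 48, r ≠ s → ∀ t u, e r t = e s u → t = 0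
  c0 : ∀ r < 48, ∀ s < 48, (nn r).testBit s = true → ∀ t u, e r t * e s u = e s u * e r t
  c1 : ∀ r s m, a1 r s m = true → ∀ t u, ⁅e r t, e s u⁆ = e m (t * u)
  c2 : ∀ r s m k, a2 r s m k = true → ∀ t u, ⁅e r t, e s u⁆ = e m (t * u) * e k (t * u ^ 2)
  cm : ∀ P ∈ cml, ∀ g : Y, (∀ r < 48, P.testBit r = true → ∀ y ∈ X r, g * y = y * g) → g ∈ SP X (starM P)

namespace Rl

variable {F Y : Type*} [Field F] [CharP F 2] [Group Y] {e : ℕ → F → Y} {X : ℕ → Subgroup Y} (R : Rl e X)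

include R

omit [CharP F 2] in
theorem e_mem {r : ℕ} (hr : r < 48) (t : F) : e r t ∈ X r := (R.mem r hr _).2 ⟨t, rfl⟩

omit [CharP F 2] in
theorem zero {r : ℕ} (hr : r < 48) : e r 0 = 1 := by
  have h1 := R.add r hr 0 0
  rw [add_zero] at h1
  exact (mul_eq_left.1 h1.symm)

theorem sq {r : ℕ} (hr : r < 48) (t : F) : e r t * e r t = 1 := by
  rw [← R.add r hr, CharTwo.add_self_eq_zero, R.zero hr]

theorem inv {r : ℕ} (hr : r < 48) (t : F) : (e r t)⁻¹ = e r t := inv_eq_of_mul_eq_one_left (R.sq hr t)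

omit [CharP F 2] in
theorem e_inj {r : ℕ} (hr : r < 48) {t u : F} (h : e r t = e r u) : t = u := by
  have h1 : e r (t - u) = 1 := by
    have h2 := R.add r hr (t - u) u
    rw [sub_add_cancel, h] at h2
    exact (mul_eq_right.1 h2.symm)
  exact sub_eq_zero.1 (R.inj r hr _ h1)

omit [CharP F 2] in
theorem comm_e {r s N : ℕ} (hr : r < 48) (hs : s < 48) (h : com r s N = true) (t u : F) : ⁅e r t, e s u⁆ ∈ SP X N := by
  unfold com at h
  rw [Bool.or_eq_true] at h
  rcases h with h | h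
  · rw [commutatorElement_eq_one_iff_mul_comm.2 (R.c0 r hr s hs h t u)]
    exact one_mem _
  · split_ifs at h with h1 h2
    · obtain ⟨m, hm, h3⟩ := List.any_eq_true.1 h
      rw [Bool.and_eq_true] at h3
      rw [R.c1 r s m h3.2]
      exact le_SP (List.mem_range.1 hm) h3.1 (R.e_mem (List.mem_range.1 hm) _)
    · obtain ⟨m, hm, h3⟩ := List.any_eq_true.1 h
      rw [Bool.and_eq_true, Bool.and_eq_true] at h3
      obtain ⟨k, hk, h4⟩ := List.any_eq_true.1 h3.2
      rw [Bool.and_eq_true] at h4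
      rw [R.c2 r s m k h4.2]
      exact mul_mem (le_SP (List.mem_range.1 hm) h3.1.1 (R.e_mem (List.mem_range.1 hm) _))
        (le_SP (List.mem_range.1 hk) h4.1 (R.e_mem (List.mem_range.1 hk) _))
    · obtain ⟨m, hm, h3⟩ := List.any_eq_true.1 h
      rw [Bool.and_eq_true, Bool.and_eq_true] at h3
      obtain ⟨k, hk, h4⟩ := List.any_eq_true.1 h3.2
      rw [Bool.and_eq_true] at h4
      rw [← commutatorElement_inv, R.c2 s r m k h4.2]
      exact inv_mem (mul_mem (le_SP (List.mem_range.1 hm) h3.1.1 (R.e_mem (List.mem_range.1 hm) _))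
        (le_SP (List.mem_range.1 hk) h4.1 (R.e_mem (List.mem_range.1 hk) _)))

omit [CharP F 2] in
/-- induction on the elements of `SP X P` -/
theorem SP_ind {P : ℕ} {C : Y → Prop} (hg : ∀ r < 48, P.testBit r = true → ∀ t, C (e r t)) (h1 : C 1)
    (hm : ∀ x y, x ∈ SP X P → y ∈ SP X P → C x → C y → C (x * y)) {y : Y} (hy : y ∈ SP X P) : C y := by
  have h2 : y ∈ SP X P ∧ C y := by
    refine Subgroup.iSup_induction (fun r : {r : ℕ // r < 48 ∧ P.testBit r = true} => X r.1)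
      (C := fun y => y ∈ SP X P ∧ C y) hy ?_ ⟨one_mem _, h1⟩
      fun x y hx hy => ⟨mul_mem hx.1 hy.1, hm x y hx.1 hy.1 hx.2 hy.2⟩
    rintro ⟨r, hr, hP⟩ x hx
    obtain ⟨t, rfl⟩ := (R.mem r hr x).1 hx
    exact ⟨le_SP hr hP hx, hg r hr hP t⟩
  exact h2.2

omit [CharP F 2] in
theorem SP_le' {P : ℕ} {H : Subgroup Y} (h : ∀ r < 48, P.testBit r = true → ∀ t, e r t ∈ H) : SP X P ≤ H :=
  SP_le fun r hr hP x hx => by
    obtain ⟨t, rfl⟩ := (R.mem r hr x).1 hx
    exact h r hr hP t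

/-- `X r` normalises `SP X N` -/
theorem norm_e {r N : ℕ} (hr : r < 48) (h : ∀ s < 48, N.testBit s = true → com r s N = true) (t : F) :
    e r t ∈ Subgroup.normalizer (SP X N : Set Y) := by
  have key : ∀ y ∈ SP X N, e r t * y * (e r t)⁻¹ ∈ SP X N := by
    intro y hy
    refine R.SP_ind (C := fun y => e r t * y * (e r t)⁻¹ ∈ SP X N) ?_ ?_ ?_ hy
    · intro s hs hN u
      have h1 := R.comm_e hr hs (h s hs hN) t u
      have h2 : e r t * e s u * (e r t)⁻¹ = ⁅e r t, e s u⁆ * e s u := by rw [commutatorElement_def]; group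
      rw [h2]
      exact mul_mem h1 (le_SP hs hN (R.e_mem hs u))
    · rw [mul_one, mul_inv_cancel]; exact one_mem _
    · intro x y _ _ hx hy
      have h2 : e r t * (x * y) * (e r t)⁻¹ = (e r t * x * (e r t)⁻¹) * (e r t * y * (e r t)⁻¹) := by group
      rw [h2]
      exact mul_mem hx hy
  rw [Subgroup.mem_normalizer_iff]
  intro y
  refine ⟨key y, fun hy => ?_⟩
  have h1 := key _ hy
  have h2 : e r t * (e r t * y * (e r t)⁻¹) * (e r t)⁻¹ = e r t * e r t * y * (e r t * e r t)⁻¹ := by group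
  rw [h2, R.sq hr, one_mul, inv_one, mul_one] at h1
  exact h1

/-- `SP X P` normalises `SP X N` -/
theorem norm_SP {P N : ℕ} (h : comM P N N = true) : SP X P ≤ Subgroup.normalizer (SP X N : Set Y) :=
  R.SP_le' fun _ hr hP t => R.norm_e hr (fun _ hs hN => comM_iff h hr hs hP hN) t

theorem comm_SP {P Q N : ℕ} (h : comM P Q N = true) (hP : comM P N N = true) (hQ : comM Q N N = true) {x y : Y}
    (hx : x ∈ SP X P) (hy : y ∈ SP X Q) : ⁅x, y⁆ ∈ SP X N := by
  have n1 : ∀ z ∈ SP X P, ∀ w ∈ SP X N, z * w * z⁻¹ ∈ SP X N := fun z hz w hw =>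
    (Subgroup.mem_normalizer_iff.1 (R.norm_SP hP hz) w).1 hw
  have n2 : ∀ z ∈ SP X Q, ∀ w ∈ SP X N, z * w * z⁻¹ ∈ SP X N := fun z hz w hw =>
    (Subgroup.mem_normalizer_iff.1 (R.norm_SP hQ hz) w).1 hw
  -- fix a generator on the left
  have key : ∀ r < 48, P.testBit r = true → ∀ t, ∀ y ∈ SP X Q, ⁅e r t, y⁆ ∈ SP X N := by
    intro r hr hP t y hy
    refine R.SP_ind (C := fun y => ⁅e r t, y⁆ ∈ SP X N) ?_ ?_ ?_ hy
    · intro s hs hQ u
      exact R.comm_e hr hs (comM_iff h hr hs hP hQ) t u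
    · rw [commutatorElement_one_right]; exact one_mem _
    · intro a b ha _ h1 h2
      have h3 : ⁅e r t, a * b⁆ = ⁅e r t, a⁆ * (a * ⁅e r t, b⁆ * a⁻¹) := by
        simp only [commutatorElement_def]; group
      rw [h3]
      exact mul_mem h1 (n2 a ha _ h2)
  refine R.SP_ind (C := fun x => ⁅x, y⁆ ∈ SP X N) (fun r hr hP t => key r hr hP t y hy) ?_ ?_ hx
  · rw [commutatorElement_one_left]; exact one_mem _
  · intro a b ha _ h1 h2
    have h3 : ⁅a * b, y⁆ = (a * ⁅b, y⁆ * a⁻¹) * ⁅a, y⁆ := by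
      simp only [commutatorElement_def]; group
    rw [h3]
    exact mul_mem (n1 a ha _ h2) h1

/-- commuting groups -/
theorem comm_zero {P Q : ℕ} (h : comM P Q 0 = true) {x y : Y} (hx : x ∈ SP X P) (hy : y ∈ SP X Q) : x * y = y * x := by
  have h0 : ∀ P, comM P 0 0 = true := by
    intro P
    unfold comM
    simp
  have h1 := R.comm_SP h (h0 P) (h0 Q) hx hy
  have h2 : SP X 0 ≤ ⊥ := SP_le fun r _ h => by rw [Nat.zero_testBit] at h; exact absurd h (by decide)
  exact commutatorElement_eq_one_iff_mul_comm.1 (Subgroup.mem_bot.1 (h2 h1))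

end Rl

end Cfsg.Agent.KFacts.F4Rl

end

-- merged: Cfsg.Agent.KFacts.F4Side
section

/-!
`F₄(q)`, `q ≥ 2` even: the long root parabolic in a chart `F4Rl.Rl` (K-group facts for OMEGA, NodeAll h1; F4).

`ρ = 47` the highest root (long), `σ = 44` the highest short root; `Q_l = SP X mQl` (roots with `⟨r, ρ^∨⟩ ≥ 1`),
`U_l = SP X mUl = Z(Q_l)`, `Q_s`, `U_s` the same with `σ`; `J_s = U_l ∩ Q_s`, `J_l = U_s ∩ Q_l`, `J₀ = Q_s ∩ Q_l`.

* `comm_Ql`, `mem_Ul`, `irr` (14), `typ`;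
* `Fm j t` : the coordinates of `j ∈ J₀` at `36, 38, 39, 40`; `exists_D` : the action of `Q_s Q_l` on `U_l`;
* `fix`, `triv`, `fin`, `mix`.
-/

set_option autoImplicit false
set_option Elab.async false
set_option linter.unusedSectionVars false

namespace Cfsg.Agent.KFacts.F4Side

open Cfsg.Agent.KFacts.F4Star Cfsg.Agent.KFacts.F4Rl
open scoped commutatorElement

def mQQ : ℕ := 281473449984000
def mQl : ℕ := 279076858232832
def mQs : ℕ := 281466386776064
def mUl : ℕ := 160323076096000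
def mUs : ℕ := 279275953455104
def mJs : ℕ := 160322539225088
def mJl : ℕ := 277076930199552
def mJ0 : ℕ := 279069795024896
def mPo : ℕ := 281474959933440
/-- `{29, 36, 38, 39, 40}` -/
def m5 : ℕ := 1993589784576

theorem star_Ql : starM mQl = mUl := by decide +kernel
theorem star_QQ : starM mQQ = 2 ^ 47 + 2 ^ 44 := by decide +kernel
theorem star_Ul : starM mUl = mQl := by decide +kernel
theorem star_Js : starM mJs = mQl + 2 ^ 41 := by decide +kernel
theorem star_M1 : starM 279076841455616 = mUl + 2 ^ 46 := by decide +kernel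
theorem star_M2 : starM 281464843272192 = 2 ^ 40 + 2 ^ 44 + 2 ^ 46 + 2 ^ 47 := by decide +kernel
theorem star_Qs : starM mQs = mUs := by decide +kernel

variable {F Y : Type*} [Field F] [CharP F 2] [Group Y] {e : ℕ → F → Y} {X : ℕ → Subgroup Y} (R : Rl e X)

include R

/-! ### Peeling -/

/-- one root group and a normalised group -/
theorem peel {r P P' : ℕ} (hr : r < 48) (hn : comM (2 ^ r) P P = true)
    (hP : ((List.range 48).all fun s => !P'.testBit s || Nat.beq s r || P.testBit s) = true) {y : Y}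
    (hy : y ∈ SP X P') : ∃ t, ∃ w ∈ SP X P, y = e r t * w := by
  have hrr : (2 ^ r).testBit r = true := Nat.testBit_two_pow_self
  have h1 : SP X P' ≤ X r ⊔ SP X P := by
    refine R.SP_le' fun s hs h t => ?_
    have h2 := List.all_eq_true.1 hP s (List.mem_range.2 hs)
    rw [h, Bool.or_eq_true, Bool.or_eq_true] at h2
    rcases h2 with (h2 | h2) | h2
    · exact absurd h2 (by decide)
    · rw [Nat.eq_of_beq_eq_true h2]
      exact Subgroup.mem_sup_left (R.e_mem hr t)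
    · exact Subgroup.mem_sup_right (le_SP hs h2 (R.e_mem hs t))
  have h2 : X r ≤ Subgroup.normalizer (SP X P : Set Y) := (le_SP (X := X) hr hrr).trans (R.norm_SP hn)
  have h3 : y ∈ ((X r ⊔ SP X P : Subgroup Y) : Set Y) := h1 hy
  rw [Subgroup.coe_mul_of_left_le_normalizer_right _ _ h2, Set.mem_mul] at h3
  obtain ⟨a, ha, w, hw, rfl⟩ := h3
  obtain ⟨t, rfl⟩ := (R.mem r hr a).1 ha
  exact ⟨t, w, hw, rfl⟩

omit [CharP F 2] in
theorem SP_one {r : ℕ} (hr : r < 48) {y : Y} (hy : y ∈ SP X (2 ^ r)) : ∃ t, y = e r t := by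
  have h1 : SP X (2 ^ r) ≤ X r := SP_le fun s _ h => by
    rw [Nat.testBit_two_pow, decide_eq_true_iff] at h
    rw [h]
  obtain ⟨t, rfl⟩ := (R.mem r hr y).1 (h1 hy)
  exact ⟨t, rfl⟩

/-- a root element times another root element is trivial only if both are -/
theorem mul_sep {r s : ℕ} (hr : r < 48) (hs : s < 48) (hrs : r ≠ s) {t u : F} (h : e r t * e s u = 1) :
    t = 0 ∧ u = 0 := by
  have h1 : e r t = e s u := by rw [← R.inv hs u]; exact eq_inv_of_mul_eq_one_left h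
  exact ⟨R.sep r hr s hs hrs t u h1, R.sep s hs r hr hrs.symm u t h1.symm⟩

omit R in
omit [CharP F 2] in
theorem a1_lt {r s m : ℕ} (h : a1 r s m = true) : r < 48 ∧ s < 48 ∧ m < 48 := by
  unfold a1 at h
  simp only [Bool.and_eq_true, Nat.blt_eq] at h
  exact ⟨h.1.1.1.1.1, h.1.1.1.1.2, h.1.1.1.2⟩

theorem conj_e (x y : Y) : x * y * x⁻¹ = ⁅x, y⁆ * y := by rw [commutatorElement_def]; group

theorem conj1 {r s m : ℕ} (h : a1 r s m = true) (t u : F) : e r t * e s u * (e r t)⁻¹ = e m (t * u) * e s u := by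
  rw [conj_e R, R.c1 r s m h]

theorem conj2 {r s m k : ℕ} (h : a2 r s m k = true) (t u : F) :
    e r t * e s u * (e r t)⁻¹ = e m (t * u) * e k (t * u ^ 2) * e s u := by
  rw [conj_e R, R.c2 r s m k h]

/-! ### `Q_l` -/

theorem comm_Ql {x y : Y} (hx : x ∈ SP X mQl) (hy : y ∈ SP X mQl) : ⁅x, y⁆ ∈ X 47 := by
  obtain ⟨t, ht⟩ := SP_one R (by norm_num) (R.comm_SP (N := 2 ^ 47) (by decide +kernel) (by decide +kernel)
    (by decide +kernel) hx hy)
  rw [ht]
  exact R.e_mem (by norm_num) t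

theorem le_comm_Ql : X 47 ≤ ⁅SP X mQl, SP X mQl⁆ := by
  intro x hx
  obtain ⟨t, rfl⟩ := (R.mem 47 (by norm_num) x).1 hx
  have h1 := R.c1 24 46 47 (by decide +kernel) t 1
  rw [mul_one] at h1
  rw [← h1]
  exact Subgroup.commutator_mem_commutator (le_SP (by norm_num) (by decide +kernel) (R.e_mem (by norm_num) _))
    (le_SP (by norm_num) (by decide +kernel) (R.e_mem (by norm_num) _))

theorem comm_Ul_Ql {x y : Y} (hx : x ∈ SP X mUl) (hy : y ∈ SP X mQl) : x * y = y * x :=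
  R.comm_zero (by decide +kernel) hx hy

omit [CharP F 2] in
theorem mem_Ul {x : Y} (h : ∀ y ∈ SP X mQl, x * y = y * x) : x ∈ SP X mUl := by
  rw [← star_Ql]
  refine R.cm mQl (by decide) x fun r hr h1 y hy => h y (le_SP hr h1 hy)

omit [CharP F 2] in
theorem mem_Ql {x : Y} (h : ∀ y ∈ SP X mUl, x * y = y * x) : x ∈ SP X mQl := by
  rw [← star_Ul]
  refine R.cm mUl (by decide) x fun r hr h1 y hy => h y (le_SP hr h1 hy)

omit R in
omit [CharP F 2] in
/-- Hall-Witt -/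
theorem hw {a b x y m t : Y} (hx : t * x * t⁻¹ = a * x) (hy : t * y * t⁻¹ = b * y) (hm : ⁅x, y⁆ = m)
    (ay : Commute a y) (ab : Commute a b) (am : Commute a m) (bx : Commute b x) (hby : Commute b y) :
    t * m = m * t := by
  have bm : Commute b m := by
    rw [← hm, commutatorElement_def]
    exact ((bx.mul_right hby).mul_right bx.inv_right).mul_right hby.inv_right
  have h1 : t * m * t⁻¹ = ⁅a * x, b * y⁆ := by
    rw [← hx, ← hy, ← hm]; simp only [commutatorElement_def]; group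
  have h2 : x * y * x⁻¹ = m * y := by rw [← hm, commutatorElement_def]; group
  have h3 : ⁅a * x, b * y⁆ = m := by
    calc ⁅a * x, b * y⁆ = a * (x * b) * y * x⁻¹ * a⁻¹ * y⁻¹ * b⁻¹ := by rw [commutatorElement_def]; group
      _ = a * b * (x * y * x⁻¹) * a⁻¹ * y⁻¹ * b⁻¹ := by rw [← bx.eq]; group
      _ = a * b * m * (y * a⁻¹) * y⁻¹ * b⁻¹ := by rw [h2]; group
      _ = a * b * m * (a⁻¹ * y) * y⁻¹ * b⁻¹ := by rw [ay.symm.inv_right.eq]
      _ = (a * b) * m * a⁻¹ * b⁻¹ := by group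
      _ = (b * a) * m * a⁻¹ * b⁻¹ := by rw [ab.eq]
      _ = b * (a * m) * a⁻¹ * b⁻¹ := by group
      _ = (b * m) * b⁻¹ := by rw [am.eq]; group
      _ = m := by rw [bm.eq]; group
  rw [h3] at h1
  calc t * m = (t * m * t⁻¹) * t := by group
    _ = m * t := by rw [h1]

/-- moving along a root -/
theorem step {T : Subgroup Y} {r d m : ℕ} (h : a1 r d m = true) (hd : ∀ s, ∀ t ∈ T, e d s * t * (e d s)⁻¹ ∈ T)
    {u : F} (hu : u ≠ 0) (hT : e r u ∈ T) (t : F) : e m t ∈ T := by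
  have h1 := R.c1 r d m h u (u⁻¹ * t)
  rw [mul_inv_cancel_left₀ hu] at h1
  have h2 := hd (u⁻¹ * t) _ (inv_mem hT)
  rw [← h1, commutatorElement_def]
  have h3 : e r u * e d (u⁻¹ * t) * (e r u)⁻¹ * (e d (u⁻¹ * t))⁻¹ =
    e r u * (e d (u⁻¹ * t) * (e r u)⁻¹ * (e d (u⁻¹ * t))⁻¹) := by group
  rw [h3]
  exact mul_mem hT h2

/-- `Q_l / U_l` is irreducible for `C(X_ρ)`. -/
theorem irr [Finite Y] (hp : IsPGroup 2 (SP X mPo)) {T : Subgroup Y} (hT : T ≤ SP X mQl)
    (hn : ∀ g ∈ SP X (nn 47), ∀ t ∈ T, g * t * g⁻¹ ∈ T)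
    (hc : ∀ q ∈ SP X mQl, (∀ t ∈ T, q * t = t * q) → q ∈ T) : T = SP X mQl := by
  have hU : SP X mUl ≤ T := by
    intro x hx
    have h1 : x ∈ SP X mQl := SP_mono (by decide +kernel) hx
    exact hc x h1 fun t ht => comm_Ul_Ql R hx (hT ht)
  by_cases h0 : T ≤ SP X mUl
  · refine le_antisymm hT fun q hq => hc q hq fun t ht => (comm_Ul_Ql R (h0 ht) hq).symm
  · have hPG : SP X mPo ≤ SP X (nn 47) := SP_mono (by decide +kernel)
    have hnU : ∀ y ∈ SP X mPo, ∀ m ∈ SP X mUl, y * m * y⁻¹ ∈ SP X mUl := fun y hy m hm =>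
      (Subgroup.mem_normalizer_iff.1 (R.norm_SP (P := mPo) (N := mUl) (by decide +kernel) hy) m).1 hm
    have : Fact (Nat.Prime 2) := ⟨Nat.prime_two⟩
    obtain ⟨t, ht, htU, hfix⟩ := Cfsg.Agent.GTwoFour.Tools.exists_fixed_mod hp
      (hT.trans (SP_mono (by decide +kernel))) (fun y hy n hn' => hn y (hPG hy) n hn') hnU
      (by
        by_contra h1
        push Not at h1
        exact h0 fun x hx => h1 x hx)
    have htQ := hT ht
    have hPU : ∀ x ∈ SP X mPo, ∀ y ∈ X 47, x * y = y * x := fun x hx y hy =>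
      R.comm_zero (P := mPo) (Q := 2 ^ 47) (by decide +kernel) hx (le_SP (by norm_num) (by decide +kernel) hy)
    -- `t` commutes with `X m` for `m = d + c`
    have key : ∀ d c m, a1 d c m = true → mPo.testBit d = true → mQl.testBit c = true → mQl.testBit m = true →
        ∀ s, t * e m s = e m s * t := by
      intro d c m h hd hc' hm' s
      obtain ⟨hd48, hc48, hm48⟩ := a1_lt h
      have hdm : e d s ∈ SP X mPo := le_SP hd48 hd (R.e_mem hd48 s)
      have hcm : e c 1 ∈ SP X mQl := le_SP hc48 hc' (R.e_mem hc48 1)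
      have hcm' : e c 1 ∈ SP X mPo := SP_mono (by decide +kernel) hcm
      have h1 : ⁅t, e d s⁆ ∈ SP X mUl := by
        rw [← commutatorElement_inv]; exact inv_mem (hfix _ hdm)
      have h2 : ⁅t, e c 1⁆ ∈ X 47 := comm_Ql R htQ hcm
      have h1P : ⁅t, e d s⁆ ∈ SP X mPo := SP_mono (by decide +kernel) h1
      refine hw (a := ⁅t, e d s⁆) (b := ⁅t, e c 1⁆) (x := e d s) (y := e c 1) (conj_e R _ _) (conj_e R _ _)
        (by rw [R.c1 d c m h, mul_one]) (comm_Ul_Ql R h1 hcm) (hPU _ h1P _ h2)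
        (comm_Ul_Ql R h1 (le_SP hm48 hm' (R.e_mem hm48 s))) (hPU _ hdm _ h2).symm (hPU _ hcm' _ h2).symm
    have key2 : ∀ r < 48, mUl.testBit r = true → ∀ s, t * e r s = e r s * t := fun r hr h s =>
      (comm_Ul_Ql R (le_SP hr h (R.e_mem hr s)) htQ).symm
    have h1 : t ∈ SP X (starM 279076841455616) := by
      refine R.cm _ (by decide) t fun r hr h2 y hy => ?_
      obtain ⟨s, rfl⟩ := (R.mem r hr y).1 hy
      by_cases h3 : mUl.testBit r = true
      · exact key2 r hr h3 s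
      · have h4 : ((List.range 48).all fun r => !(279076841455616 : ℕ).testBit r || mUl.testBit r ||
            ((List.range 48).any fun d => mPo.testBit d && (List.range 48).any fun c => mQl.testBit c && mQl.testBit r &&
              a1 d c r)) = true := by decide +kernel
        have h5 := List.all_eq_true.1 h4 r (List.mem_range.2 hr)
        rw [Bool.not_eq_true] at h3
        rw [h2, h3, Bool.not_true, Bool.false_or, Bool.false_or] at h5
        obtain ⟨d, -, h6⟩ := List.any_eq_true.1 h5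
        rw [Bool.and_eq_true] at h6
        obtain ⟨c, -, h7⟩ := List.any_eq_true.1 h6.2
        rw [Bool.and_eq_true, Bool.and_eq_true] at h7
        exact key d c r h7.2 h6.1 h7.1.1 h7.1.2 s
    rw [star_M1] at h1
    obtain ⟨u, w, hw', hte⟩ := peel R (r := 46) (P := mUl) (by norm_num) (by decide +kernel) (by decide +kernel) h1
    have hu : u ≠ 0 := by
      rintro rfl
      rw [R.zero (by norm_num), one_mul] at hte
      exact htU (hte ▸ hw')
    have h2 : e 46 u ∈ T := by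
      have h3 : e 46 u = t * w⁻¹ := by rw [hte]; group
      rw [h3]
      exact mul_mem ht (inv_mem (hU hw'))
    have hd : ∀ d, (nn 47).testBit d = true → d < 48 → ∀ s, ∀ t ∈ T, e d s * t * (e d s)⁻¹ ∈ T := fun d h hd48 s t ht =>
      hn _ (le_SP hd48 h (R.e_mem hd48 s)) t ht
    have m45 := step R (r := 46) (d := 22) (m := 45) (by decide +kernel) (hd 22 (by decide +kernel) (by norm_num)) hu h2
    have m46 := step R (r := 45) (d := 25) (m := 46) (by decide +kernel) (hd 25 (by decide +kernel) (by norm_num))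
      one_ne_zero (m45 1)
    have m43 := step R (r := 46) (d := 17) (m := 43) (by decide +kernel) (hd 17 (by decide +kernel) (by norm_num))
      one_ne_zero (m46 1)
    have m42 := step R (r := 43) (d := 22) (m := 42) (by decide +kernel) (hd 22 (by decide +kernel) (by norm_num))
      one_ne_zero (m43 1)
    have m32 := step R (r := 46) (d := 6) (m := 32) (by decide +kernel) (hd 6 (by decide +kernel) (by norm_num))
      one_ne_zero (m46 1)
    have m31 := step R (r := 45) (d := 6) (m := 31) (by decide +kernel) (hd 6 (by decide +kernel) (by norm_num))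
      one_ne_zero (m45 1)
    have m26 := step R (r := 43) (d := 6) (m := 26) (by decide +kernel) (hd 6 (by decide +kernel) (by norm_num))
      one_ne_zero (m43 1)
    have m24 := step R (r := 42) (d := 6) (m := 24) (by decide +kernel) (hd 6 (by decide +kernel) (by norm_num))
      one_ne_zero (m42 1)
    refine le_antisymm hT (R.SP_le' fun r hr h t => ?_)
    by_cases h3 : mUl.testBit r = true
    · exact hU (le_SP hr h3 (R.e_mem hr t))
    · have h4 : ((List.range 48).all fun r => !mQl.testBit r || mUl.testBit r ||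
          [24, 26, 31, 32, 42, 43, 45, 46].contains r) = true := by decide +kernel
      have h5 := List.all_eq_true.1 h4 r (List.mem_range.2 hr)
      rw [Bool.not_eq_true] at h3
      rw [h, h3] at h5
      have h6 : r ∈ [24, 26, 31, 32, 42, 43, 45, 46] := by simpa using h5
      simp only [List.mem_cons, List.not_mem_nil, or_false] at h6
      rcases h6 with rfl | rfl | rfl | rfl | rfl | rfl | rfl | rfl
      · exact m24 t
      · exact m26 t
      · exact m31 t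
      · exact m32 t
      · exact m42 t
      · exact m43 t
      · exact m45 t
      · exact m46 t

end Cfsg.Agent.KFacts.F4Side

end

-- merged: Cfsg.Agent.KFacts.F4Form
section

/-!
`F₄(q)`, `q ≥ 2` even: the action of `Q_s Q_l` on `U_l`, in a chart `F4Rl.Rl` (K-group facts for OMEGA, NodeAll h1; F4).

* `Fm e j t` : the coordinates `t` of `j ∈ J₀` at `36, 38, 39, 40`;
* `Dm e X v D` : `v ∈ Q_s Q_l` acts on `J_s` as `j ↦ j e_44(⟨D, t(j)⟩)` and `[v, e_29(s)]` has coordinates `s D`;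
* `fix`, `fin`, `mix`.
-/

set_option autoImplicit false
set_option Elab.async false
set_option linter.unusedSectionVars false

namespace Cfsg.Agent.KFacts.F4Form

open Cfsg.Agent.KFacts.F4Star Cfsg.Agent.KFacts.F4Rl Cfsg.Agent.KFacts.F4Side
open scoped commutatorElement

variable {F Y : Type*} [Field F] [CharP F 2] [Group Y] {e : ℕ → F → Y} {X : ℕ → Subgroup Y}

/-- the short roots of `J₀` -/
def cc (i : Fin 4) : ℕ := ![36, 38, 39, 40] i
/-- their partners: `cc i + dd i = 44` -/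
def dd (i : Fin 4) : ℕ := ![37, 35, 34, 33] i

theorem cc_lt : ∀ i, cc i < 48 := by decide
theorem dd_lt : ∀ i, dd i < 48 := by decide
theorem a_dc : ∀ i, a1 (dd i) (cc i) 44 = true := by decide +kernel
theorem n_dc : ∀ i k, k ≠ i → (nn (dd k)).testBit (cc i) = true := by decide +kernel
theorem a_d29 : ∀ i, a1 (dd i) 29 (cc i.rev) = true := by decide +kernel
theorem cc_Js : ∀ i, mJs.testBit (cc i) = true := by decide +kernel

/-- `t` = the coordinates of `j` at `36, 38, 39, 40` -/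
def Fm (e : ℕ → F → Y) (j : Y) (t : Fin 4 → F) : Prop := ∀ i s, ⁅e (dd i) s, j⁆ = e 44 (s * t i)

variable (R : Rl e X)

include R

theorem Fm.unique {j : Y} {t t' : Fin 4 → F} (h : Fm e j t) (h' : Fm e j t') : t = t' := by
  funext i
  have h1 := (h i 1).symm.trans (h' i 1)
  rw [one_mul, one_mul] at h1
  exact R.e_inj (by norm_num) h1

theorem Fm.one : Fm e (1 : Y) 0 := by
  intro i s
  rw [commutatorElement_one_right, Pi.zero_apply, mul_zero, R.zero (by norm_num)]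

theorem Fm.mul {j j' : Y} (hj : j ∈ SP X mJ0) {t t' : Fin 4 → F} (h : Fm e j t) (h' : Fm e j' t') :
    Fm e (j * j') (t + t') := by
  intro i s
  have h1 : ⁅e (dd i) s, j * j'⁆ = ⁅e (dd i) s, j⁆ * (j * ⁅e (dd i) s, j'⁆ * j⁻¹) := by
    simp only [commutatorElement_def]; group
  have h2 : e 44 (s * t' i) ∈ SP X (2 ^ 44) := le_SP (by norm_num) (by decide +kernel) (R.e_mem (by norm_num) _)
  have h3 : j * e 44 (s * t' i) = e 44 (s * t' i) * j := R.comm_zero (P := mJ0) (by decide +kernel) hj h2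
  rw [h1, h i s, h' i s, h3, mul_inv_cancel_right, Pi.add_apply, mul_add, R.add 44 (by norm_num)]

theorem Fm.single (i : Fin 4) (u : F) : Fm e (e (cc i) u) (Pi.single i u) := by
  intro k s
  by_cases h : k = i
  · subst h
    rw [R.c1 _ _ _ (a_dc k), Pi.single_eq_same]
  · rw [commutatorElement_eq_one_iff_mul_comm.2 (R.c0 _ (dd_lt k) _ (cc_lt i) (n_dc i k h) s u),
      Pi.single_eq_of_ne h, mul_zero, R.zero (by norm_num)]

theorem Fm.zero {r : ℕ} (hr : r < 48) (h : ∀ i, (nn (dd i)).testBit r = true) (u : F) : Fm e (e r u) 0 := by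
  intro k s
  rw [commutatorElement_eq_one_iff_mul_comm.2 (R.c0 _ (dd_lt k) _ hr (h k) s u), Pi.zero_apply, mul_zero,
    R.zero (by norm_num)]

/-- every element of `J₀` has coordinates -/
theorem exists_Fm {j : Y} (hj : j ∈ SP X mJ0) : ∃ t, Fm e j t := by
  refine R.SP_ind (C := fun j => ∃ t, Fm e j t) ?_ ⟨0, Fm.one R⟩ ?_ hj
  · intro r hr h u
    have h1 : ((List.range 48).all fun r => !mJ0.testBit r || [36, 38, 39, 40].contains r ||
        ([37, 35, 34, 33].all fun d => (nn d).testBit r)) = true := by decide +kernel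
    have h2 := List.all_eq_true.1 h1 r (List.mem_range.2 hr)
    rw [h, Bool.not_true, Bool.false_or, Bool.or_eq_true] at h2
    rcases h2 with h2 | h2
    · have h3 : r ∈ [36, 38, 39, 40] := by simpa using h2
      simp only [List.mem_cons, List.not_mem_nil, or_false] at h3
      rcases h3 with rfl | rfl | rfl | rfl
      · exact ⟨_, Fm.single R 0 u⟩
      · exact ⟨_, Fm.single R 1 u⟩
      · exact ⟨_, Fm.single R 2 u⟩
      · exact ⟨_, Fm.single R 3 u⟩
    · refine ⟨0, Fm.zero R hr (fun i => ?_) u⟩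
      rw [List.all_eq_true] at h2
      exact h2 (dd i) (by revert i; decide)
  · rintro x y hx hy ⟨t, ht⟩ ⟨t', ht'⟩
    exact ⟨t + t', Fm.mul R hx ht ht'⟩

/-- the element of `J_s` with given coordinates -/
theorem exists_of_t (t : Fin 4 → F) : ∃ j ∈ SP X mJs, Fm e j t := by
  have hm : ∀ i u, e (cc i) u ∈ SP X mJs := fun i u => le_SP (cc_lt i) (cc_Js i) (R.e_mem (cc_lt i) u)
  have hJ : SP X mJs ≤ SP X mJ0 := SP_mono (by decide +kernel)
  refine ⟨e (cc 0) (t 0) * (e (cc 1) (t 1) * (e (cc 2) (t 2) * e (cc 3) (t 3))),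
    mul_mem (hm _ _) (mul_mem (hm _ _) (mul_mem (hm _ _) (hm _ _))), ?_⟩
  have h1 := Fm.mul R (hJ (hm 0 (t 0))) (Fm.single R 0 (t 0)) (Fm.mul R (hJ (hm 1 (t 1))) (Fm.single R 1 (t 1))
    (Fm.mul R (hJ (hm 2 (t 2))) (Fm.single R 2 (t 2)) (Fm.single R 3 (t 3))))
  have h2 : Pi.single 0 (t 0) + (Pi.single 1 (t 1) + (Pi.single 2 (t 2) + Pi.single 3 (t 3))) = t := by
    funext i
    fin_cases i <;> simp
  rw [h2] at h1
  exact h1

/-- an element of `J₀` with zero coordinates lies in `U_s` -/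
theorem mem_Us {j : Y} (hj : j ∈ SP X mJ0) (h : Fm e j 0) : j ∈ SP X mUs := by
  rw [← star_Qs]
  refine R.cm mQs (by decide) j fun r hr h1 y hy => ?_
  obtain ⟨s, rfl⟩ := (R.mem r hr y).1 hy
  have h2 : ((List.range 48).all fun r => !mQs.testBit r || [33, 34, 35, 37].contains r ||
      ((List.range 48).all fun s => !mJ0.testBit s || com s r 0)) = true := by decide +kernel
  have h3 := List.all_eq_true.1 h2 r (List.mem_range.2 hr)
  rw [h1, Bool.not_true, Bool.false_or, Bool.or_eq_true] at h3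
  rcases h3 with h3 | h3
  · have h4 : ∃ i, r = dd i := by
      have h5 : r ∈ [33, 34, 35, 37] := by simpa using h3
      simp only [List.mem_cons, List.not_mem_nil, or_false] at h5
      rcases h5 with rfl | rfl | rfl | rfl
      · exact ⟨3, rfl⟩
      · exact ⟨2, rfl⟩
      · exact ⟨1, rfl⟩
      · exact ⟨0, rfl⟩
    obtain ⟨i, rfl⟩ := h4
    have h5 := h i s
    rw [Pi.zero_apply, mul_zero, R.zero (by norm_num)] at h5
    exact (commutatorElement_eq_one_iff_mul_comm.1 h5).symm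
  · have h4 : comM mJ0 (2 ^ r) 0 = true := by
      unfold comM
      rw [List.all_eq_true]
      intro a ha
      have h5 := List.all_eq_true.1 h3 a ha
      cases h6 : mJ0.testBit a
      · rfl
      · rw [h6, Bool.not_true, Bool.false_or] at h5
        rw [Bool.not_true, Bool.false_or, List.all_eq_true]
        intro b hb
        rw [Nat.testBit_two_pow]
        by_cases h7 : r = b
        · subst h7
          rw [h5, Bool.or_true]
        · rw [decide_eq_false h7]; rfl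
    exact R.comm_zero h4 hj (le_SP hr Nat.testBit_two_pow_self (R.e_mem hr s))

/-! ### The action on `U_l` -/

/-- `v` acts on `J_s` as `j ↦ j e_44(⟨D, t(j)⟩)`, and `[v, e_29(s)]` has coordinates `s D` (reversed) -/
def Dm (e : ℕ → F → Y) (X : ℕ → Subgroup Y) (v : Y) (D : Fin 4 → F) : Prop :=
  (∀ j ∈ SP X mJs, ∀ t, Fm e j t → ⁅v, j⁆ = e 44 (∑ i, D i * t i)) ∧
    ∀ s, ⁅v, e 29 s⁆ ∈ SP X mJs ∧ Fm e ⁅v, e 29 s⁆ fun i => s * D i.rev

theorem Dm.mul {v v' : Y} (hv : v ∈ SP X mQQ) {D D' : Fin 4 → F} (h : Dm e X v D) (h' : Dm e X v' D') :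
    Dm e X (v * v') (D + D') := by
  have h0 : ∀ x, ⁅v * v', x⁆ = v * ⁅v', x⁆ * v⁻¹ * ⁅v, x⁆ := fun x => by simp only [commutatorElement_def]; group
  have h44 : ∀ u, v * e 44 u = e 44 u * v := fun u =>
    R.comm_zero (P := mQQ) (Q := 2 ^ 44) (by decide +kernel) hv
      (le_SP (by norm_num) (by decide +kernel) (R.e_mem (by norm_num) _))
  constructor
  · intro j hj t ht
    rw [h0, h.1 j hj t ht, h'.1 j hj t ht, h44, mul_inv_cancel_right, ← R.add 44 (by norm_num), ← Finset.sum_add_distrib]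
    congr 1
    refine Finset.sum_congr rfl fun i _ => ?_
    rw [Pi.add_apply]; ring
  · intro s
    obtain ⟨h1, h2⟩ := h.2 s
    obtain ⟨h3, h4⟩ := h'.2 s
    have h5 : v * ⁅v', e 29 s⁆ * v⁻¹ = e 44 (∑ i, D i * (s * D' i.rev)) * ⁅v', e 29 s⁆ := by
      rw [conj_e R, h.1 _ h3 _ h4]
    have h6 : e 44 (∑ i, D i * (s * D' i.rev)) ∈ SP X mJs :=
      le_SP (by norm_num) (by decide +kernel) (R.e_mem (by norm_num) _)
    rw [h0, h5]
    have hJ : SP X mJs ≤ SP X mJ0 := SP_mono (by decide +kernel)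
    refine ⟨mul_mem (mul_mem h6 h3) h1, ?_⟩
    have h7 := Fm.mul R (hJ (mul_mem h6 h3)) (Fm.mul R (hJ h6)
      (Fm.zero R (r := 44) (by norm_num) (by decide +kernel) _) h4) h2
    have h8 : (0 + fun i : Fin 4 => s * D' i.rev) + (fun i : Fin 4 => s * D i.rev) =
        fun i : Fin 4 => s * (D + D') i.rev := by
      funext i
      simp only [Pi.add_apply, Pi.zero_apply]
      ring
    rw [h8] at h7
    exact h7

theorem Dm.zero_of {r : ℕ} (hr : r < 48) (h : ∀ s < 48, mJs.testBit s = true → (nn r).testBit s = true) (u : F)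
    (h29 : ∀ s, ⁅e r u, e 29 s⁆ ∈ SP X mJs ∧ Fm e ⁅e r u, e 29 s⁆ 0) : Dm e X (e r u) 0 := by
  constructor
  · intro j hj t _
    have h1 : j * e r u = e r u * j := by
      refine R.SP_ind (C := fun j => j * e r u = e r u * j) (fun s hs h2 w => (R.c0 r hr s hs (h s hs h2) u w).symm)
        (by rw [one_mul, mul_one]) (fun x y _ _ hx hy => by rw [mul_assoc, hy, ← mul_assoc, hx, mul_assoc]) hj
    rw [commutatorElement_eq_one_iff_mul_comm.2 h1.symm]
    simp only [Pi.zero_apply, zero_mul, Finset.sum_const_zero]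
    rw [R.zero (by norm_num)]
  · intro s
    have h1 : (fun i : Fin 4 => s * (0 : Fin 4 → F) i.rev) = 0 := by
      funext i; simp
    rw [h1]
    exact h29 s

theorem exists_Dm {v : Y} (hv : v ∈ SP X mQQ) : ∃ D, Dm e X v D := by
  have h44 : ∀ u, e 44 u ∈ SP X mJs := fun u => le_SP (by norm_num) (by decide +kernel) (R.e_mem (by norm_num) _)
  have h47 : ∀ u, e 47 u ∈ SP X mJs := fun u => le_SP (by norm_num) (by decide +kernel) (R.e_mem (by norm_num) _)
  have hJ : SP X mJs ≤ SP X mJ0 := SP_mono (by decide +kernel)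
  refine R.SP_ind (C := fun v => ∃ D, Dm e X v D) ?_ ⟨0, ?_⟩ ?_ hv
  · intro r hr h u
    have h1 : ((List.range 48).all fun r => !mQQ.testBit r || [33, 34, 35, 37].contains r || Nat.beq r 41 ||
        ((nn r).testBit 29 && ((List.range 48).all fun s => !mJs.testBit s || (nn r).testBit s))) = true := by
      decide +kernel
    have h2 := List.all_eq_true.1 h1 r (List.mem_range.2 hr)
    rw [h, Bool.not_true, Bool.false_or, Bool.or_eq_true, Bool.or_eq_true, Bool.and_eq_true] at h2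
    rcases h2 with (h2 | h2) | ⟨h2, h3⟩
    · have h3 : ∃ i, r = dd i := by
        have h5 : r ∈ [33, 34, 35, 37] := by simpa using h2
        simp only [List.mem_cons, List.not_mem_nil, or_false] at h5
        rcases h5 with rfl | rfl | rfl | rfl
        · exact ⟨3, rfl⟩
        · exact ⟨2, rfl⟩
        · exact ⟨1, rfl⟩
        · exact ⟨0, rfl⟩
      obtain ⟨i, rfl⟩ := h3
      refine ⟨Pi.single i u, fun j hj t ht => ?_, fun s => ?_⟩
      · rw [ht i u, Finset.sum_eq_single i]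
        · rw [Pi.single_eq_same]
        · intro k _ hk
          rw [Pi.single_eq_of_ne hk, zero_mul]
        · intro h; exact absurd (Finset.mem_univ i) h
      · rw [R.c1 _ _ _ (a_d29 i)]
        refine ⟨le_SP (cc_lt _) (cc_Js _) (R.e_mem (cc_lt _) _), ?_⟩
        have h3 := Fm.single R i.rev (u * s)
        have h4 : (fun k : Fin 4 => s * (Pi.single i u : Fin 4 → F) k.rev) = Pi.single i.rev (u * s) := by
          funext k
          by_cases hk : k = i.rev
          · subst hk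
            rw [Fin.rev_rev, Pi.single_eq_same, Pi.single_eq_same, mul_comm]
          · rw [Pi.single_eq_of_ne hk, Pi.single_eq_of_ne (fun h => hk (by rw [← h, Fin.rev_rev])), mul_zero]
        rw [h4]
        exact h3
    · obtain rfl := Nat.eq_of_beq_eq_true h2
      refine ⟨0, Dm.zero_of R hr (by
        intro s hs h3
        have h4 : ((List.range 48).all fun s => !mJs.testBit s || (nn 41).testBit s) = true := by decide +kernel
        have h5 := List.all_eq_true.1 h4 s (List.mem_range.2 hs)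
        rw [h3] at h5
        exact h5) u fun s => ?_⟩
      rw [R.c2 41 29 44 47 (by decide +kernel)]
      refine ⟨mul_mem (h44 _) (h47 _), ?_⟩
      have h3 := Fm.mul R (hJ (h44 (u * s))) (Fm.zero R (r := 44) (by norm_num) (by decide +kernel) _)
        (Fm.zero R (r := 47) (by norm_num) (by decide +kernel) (u * s ^ 2))
      rwa [add_zero] at h3
    · refine ⟨0, Dm.zero_of R hr (by
        intro s hs h4
        have h5 := List.all_eq_true.1 h3 s (List.mem_range.2 hs)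
        rw [h4] at h5
        exact h5) u fun s => ?_⟩
      rw [commutatorElement_eq_one_iff_mul_comm.2 (R.c0 r hr 29 (by norm_num) h2 u s)]
      exact ⟨one_mem _, Fm.one R⟩
  · constructor
    · intro j _ t _
      rw [commutatorElement_one_left]
      simp only [Pi.zero_apply, zero_mul, Finset.sum_const_zero]
      rw [R.zero (by norm_num)]
    · intro s
      rw [commutatorElement_one_left]
      have h1 : (fun i : Fin 4 => s * (0 : Fin 4 → F) i.rev) = 0 := by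
        funext i; simp
      rw [h1]
      exact ⟨one_mem _, Fm.one R⟩
  · rintro x y hx _ ⟨D, hD⟩ ⟨D', hD'⟩
    exact ⟨D + D', Dm.mul R hx hD hD'⟩

theorem QQ_comm_44 {v : Y} (hv : v ∈ SP X mQQ) (u : F) : v * e 44 u = e 44 u * v :=
  R.comm_zero (P := mQQ) (Q := 2 ^ 44) (by decide +kernel) hv
    (le_SP (by norm_num) (by decide +kernel) (R.e_mem (by norm_num) _))

theorem Ul_comm {x y : Y} (hx : x ∈ SP X mUl) (hy : y ∈ SP X mUl) : x * y = y * x :=
  R.comm_zero (by decide +kernel) hx hy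

/-- `C_{Q_s Q_l}(J_s) ≤ X_41 Q_l` -/
theorem cent_Js {v : Y} (h : ∀ j ∈ SP X mJs, v * j = j * v) : ∃ x, ∃ q ∈ SP X mQl, v = e 41 x * q := by
  have h1 : v ∈ SP X (starM mJs) := R.cm mJs (by decide) v fun r hr h1 y hy => h y (le_SP hr h1 hy)
  rw [star_Js] at h1
  exact peel R (r := 41) (P := mQl) (by norm_num) (by decide +kernel) (by decide +kernel) h1

theorem comm_of_D {v : Y} {D : Fin 4 → F} (h : Dm e X v D) (h0 : D = 0) : ∀ j ∈ SP X mJs, v * j = j * v := by
  intro j hj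
  obtain ⟨t, ht⟩ := exists_Fm R (SP_mono (Q := mJ0) (by decide +kernel) hj)
  have h1 := h.1 j hj t ht
  rw [h0] at h1
  simp only [Pi.zero_apply, zero_mul, Finset.sum_const_zero] at h1
  rw [R.zero (by norm_num)] at h1
  exact commutatorElement_eq_one_iff_mul_comm.1 h1

/-- **`fix`** : a vector outside `X^⊥` is moved by every Siegel element. -/
theorem fix {v u : Y} (hv : v ∈ SP X mQQ) (hu : u ∈ SP X mUl) (hvu : v * u = u * v) (hJ : u ∉ SP X mJs) :
    v ∈ SP X mQl := by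
  obtain ⟨a, j, hj, rfl⟩ := peel R (r := 29) (P := mJs) (by norm_num) (by decide +kernel) (by decide +kernel) hu
  have ha : a ≠ 0 := by
    rintro rfl
    rw [R.zero (by norm_num), one_mul] at hJ
    exact hJ hj
  obtain ⟨D, hD⟩ := exists_Dm R hv
  obtain ⟨t, ht⟩ := exists_Fm R (SP_mono (Q := mJ0) (by decide +kernel) hj)
  have h1 : ⁅v, e 29 a⁆ * (e 29 a * ⁅v, j⁆ * (e 29 a)⁻¹) = 1 := by
    have h2 : ⁅v, e 29 a⁆ * (e 29 a * ⁅v, j⁆ * (e 29 a)⁻¹) = ⁅v, e 29 a * j⁆ := by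
      simp only [commutatorElement_def]; group
    rw [h2]
    exact commutatorElement_eq_one_iff_mul_comm.2 hvu
  rw [hD.1 j hj t ht, R.c0 29 (by norm_num) 44 (by norm_num) (by decide +kernel), mul_inv_cancel_right] at h1
  have h2 : ⁅v, e 29 a⁆ = e 44 (∑ i, D i * t i) := by
    rw [← R.inv (by norm_num) (∑ i, D i * t i)]
    exact eq_inv_of_mul_eq_one_left h1
  have h3 := (hD.2 a).2
  rw [h2] at h3
  have h4 := Fm.unique R h3 (Fm.zero R (r := 44) (by norm_num) (by decide +kernel) _)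
  have h5 : D = 0 := by
    funext i
    have h6 := congrFun h4 i.rev
    rw [Fin.rev_rev, Pi.zero_apply, mul_eq_zero] at h6
    exact h6.resolve_left ha
  have h6 := comm_of_D R hD h5
  obtain ⟨x, q, hq, rfl⟩ := cent_Js R h6
  have h7 : ⁅e 41 x * q, e 29 a⁆ = 1 := by
    rw [h2, h5]
    simp only [Pi.zero_apply, zero_mul, Finset.sum_const_zero]
    rw [R.zero (by norm_num)]
  have h8 : q * e 29 a = e 29 a * q :=
    (comm_Ul_Ql R (le_SP (by norm_num) (by decide +kernel) (R.e_mem (by norm_num) _)) hq).symm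
  have h9 : ⁅e 41 x, e 29 a⁆ = 1 := by
    rw [← h7]
    have h10 : ⁅e 41 x * q, e 29 a⁆ = e 41 x * (q * e 29 a * q⁻¹) * (e 41 x)⁻¹ * (e 29 a)⁻¹ := by
      rw [commutatorElement_def]; group
    rw [h10, h8, mul_inv_cancel_right, commutatorElement_def]
  rw [R.c2 41 29 44 47 (by decide +kernel)] at h9
  have h10 := (mul_sep R (by norm_num) (by norm_num) (by norm_num) h9).1
  have h11 : x = 0 := (mul_eq_zero.1 h10).resolve_right ha
  rw [h11, R.zero (by norm_num), one_mul]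
  exact hq

/-- **`comm`** : `[J_s, Q_s Q_l] ≤ X_σ` -/
theorem comm_Js {j v : Y} (hj : j ∈ SP X mJs) (hv : v ∈ SP X mQQ) : ⁅j, v⁆ ∈ X 44 := by
  obtain ⟨D, hD⟩ := exists_Dm R hv
  obtain ⟨t, ht⟩ := exists_Fm R (SP_mono (Q := mJ0) (by decide +kernel) hj)
  rw [← commutatorElement_inv, hD.1 j hj t ht]
  exact inv_mem (R.e_mem (by norm_num) _)

/-- **`triv`** : the group induced by `C(J_s)` on `U_l` is centralised by `U`. -/
theorem triv {s v : Y} (hs : s ∈ SP X mPo) (hv : ∀ j ∈ SP X mJs, v * j = j * v) : ⁅s, v⁆ ∈ SP X mQl := by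
  obtain ⟨x, q, hq, rfl⟩ := cent_Js R hv
  have hn : ∀ y ∈ SP X mPo, ∀ m ∈ SP X mQl, y * m * y⁻¹ ∈ SP X mQl := fun y hy m hm =>
    (Subgroup.mem_normalizer_iff.1 (R.norm_SP (P := mPo) (N := mQl) (by decide +kernel) hy) m).1 hm
  have h1 : ⁅s, e 41 x⁆ ∈ SP X mQl :=
    R.comm_SP (P := mPo) (Q := 2 ^ 41) (N := mQl) (by decide +kernel) (by decide +kernel) (by decide +kernel) hs
      (le_SP (by norm_num) (by decide +kernel) (R.e_mem (by norm_num) _))
  have h41 : e 41 x ∈ SP X mPo := le_SP (by norm_num) (by decide +kernel) (R.e_mem (by norm_num) _)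
  have h2 : ⁅s, e 41 x * q⁆ = ⁅s, e 41 x⁆ * (e 41 x * (s * q * s⁻¹ * q⁻¹) * (e 41 x)⁻¹) := by
    simp only [commutatorElement_def]; group
  rw [h2]
  exact mul_mem h1 (hn _ h41 _ (mul_mem (hn _ hs _ hq) (inv_mem hq)))

/-- **`fin`** : `[Q_l, v] ≤ U_l` for no `v ∈ X_41 Q_l - Q_l`. -/
theorem fin {v : Y} (hv : ∀ j ∈ SP X mJs, v * j = j * v)
    (h : ∀ s ∈ SP X mPo, ∃ u ∈ SP X mUl, u⁻¹ * s * v = v * (u⁻¹ * s)) : v ∈ SP X mQl := by
  obtain ⟨x, q, hq, rfl⟩ := cent_Js R hv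
  obtain ⟨u, hu, h1⟩ := h (e 24 1) (le_SP (by norm_num) (by decide +kernel) (R.e_mem (by norm_num) _))
  have hn : ∀ y ∈ SP X mPo, ∀ m ∈ SP X mUl, y * m * y⁻¹ ∈ SP X mUl := fun y hy m hm =>
    (Subgroup.mem_normalizer_iff.1 (R.norm_SP (P := mPo) (N := mUl) (by decide +kernel) hy) m).1 hm
  have h41 : e 41 x ∈ SP X mPo := le_SP (by norm_num) (by decide +kernel) (R.e_mem (by norm_num) _)
  have h24 : e 24 1 ∈ SP X mQl := le_SP (by norm_num) (by decide +kernel) (R.e_mem (by norm_num) _)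
  have hqP : q ∈ SP X mPo := SP_mono (by decide +kernel) hq
  -- `[e_24, v] = [u, v] ∈ U_l`
  have h2 : ⁅e 24 1, e 41 x * q⁆ ∈ SP X mUl := by
    have h3 : ⁅e 24 1, e 41 x * q⁆ = u * ((e 41 x * q) * u⁻¹ * (e 41 x * q)⁻¹) := by
      have h4 : e 24 1 * (e 41 x * q) = u * (e 41 x * q) * (u⁻¹ * e 24 1) := by
        calc e 24 1 * (e 41 x * q) = u * (u⁻¹ * e 24 1 * (e 41 x * q)) := by group
          _ = _ := by rw [h1]; group
      rw [commutatorElement_def, h4]
      group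
    rw [h3]
    exact mul_mem hu (hn _ (mul_mem h41 hqP) _ (inv_mem hu))
  have h3 : ⁅e 24 1, e 41 x * q⁆ = ⁅e 24 1, e 41 x⁆ * (e 41 x * ⁅e 24 1, q⁆ * (e 41 x)⁻¹) := by
    simp only [commutatorElement_def]; group
  have h4 : ⁅e 24 1, q⁆ ∈ SP X mUl := le_SP (by norm_num) (by decide +kernel) (comm_Ql R h24 hq)
  rw [h3, R.c1 24 41 42 (by decide +kernel), one_mul] at h2
  have h5 : e 42 x ∈ SP X mUl := by
    have h6 := mul_mem h2 (inv_mem (hn _ h41 _ h4))
    rwa [mul_inv_cancel_right] at h6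
  -- `U_l` commutes with `e_32`, but `[e_42(x), e_32(1)] = e_47(x)`
  have h6 := comm_Ul_Ql R h5 (le_SP (r := 32) (by norm_num) (by decide +kernel) (R.e_mem (by norm_num) 1))
  have h7 := R.c1 42 32 47 (by decide +kernel) x 1
  rw [commutatorElement_eq_one_iff_mul_comm.2 h6, mul_one] at h7
  rw [R.inj 47 (by norm_num) x h7.symm, R.zero (by norm_num), one_mul]
  exact hq

/-- **`mix`** : `[v, Q_s] = X_σ` for `v ∈ J₀ - U_s`. -/
theorem mix {v : Y} (hv : v ∈ SP X mJ0) (hU : v ∉ SP X mUs) {x : Y} (hx : x ∈ X 44) :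
    ∃ y ∈ SP X mQQ, y * v * y⁻¹ = v * x := by
  obtain ⟨t, ht⟩ := exists_Fm R hv
  have h1 : ∃ i, t i ≠ 0 := by
    by_contra h1
    push Not at h1
    exact hU (mem_Us R hv (by rwa [show t = 0 from funext h1] at ht))
  obtain ⟨i, hi⟩ := h1
  obtain ⟨u, rfl⟩ := (R.mem 44 (by norm_num) x).1 hx
  have hd : ∀ i, mQQ.testBit (dd i) = true := by decide +kernel
  refine ⟨e (dd i) (u / t i), le_SP (dd_lt i) (hd i) (R.e_mem (dd_lt i) _), ?_⟩
  rw [conj_e R, ht i, div_mul_cancel₀ u hi]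
  exact (QQ_comm_44 R (SP_mono (by decide +kernel) hv) u).symm

end Cfsg.Agent.KFacts.F4Form

end

-- merged: Cfsg.Agent.KFacts.F4Typ
section

/-!
`F₄(q)`, `q ≥ 2` even: the elements of `U_l`, in a chart `F4Rl.Rl` (K-group facts for OMEGA, NodeAll h1; F4).

* `typ` : every element of `U_l` lies in `X_ρ` or is conjugate under `C(X_ρ)` to `e_σ(a) e_ρ(b)`, `a ≠ 0`.
-/

set_option autoImplicit false
set_option Elab.async false
set_option linter.unusedSectionVars false

namespace Cfsg.Agent.KFacts.F4Typ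

open Cfsg.Agent.KFacts.F4Star Cfsg.Agent.KFacts.F4Rl Cfsg.Agent.KFacts.F4Side Cfsg.Agent.KFacts.F4Form
open scoped commutatorElement

variable {F Y : Type*} [Field F] [CharP F 2] [Group Y] {e : ℕ → F → Y} {X : ℕ → Subgroup Y}

variable (R : Rl e X)

include R

theorem e_comm_SP {r P : ℕ} (hr : r < 48) (h : comM (2 ^ r) P 0 = true) (t : F) {w : Y} (hw : w ∈ SP X P) :
    e r t * w = w * e r t :=
  R.comm_zero h (le_SP hr Nat.testBit_two_pow_self (R.e_mem hr t)) hw

/-- clearing a coordinate -/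
theorem kill {a : F} (ha : a ≠ 0) {d r P P' : ℕ} (h1 : a1 d 44 r = true) (hr : comM (2 ^ r) P P = true)
    (hP : ((List.range 48).all fun s => !P'.testBit s || Nat.beq s r || P.testBit s) = true)
    (hdr : (nn d).testBit r = true) (hd : comM (2 ^ d) P P = true) (hd47 : (nn d).testBit 47 = true)
    (h44r : (nn 44).testBit r = true)
    (hG : (nn 47).testBit d = true) {w : Y} (hw : w ∈ SP X P') (b : F) :
    ∃ g ∈ SP X (nn 47), ∃ w' ∈ SP X P, g * (e 44 a * w * e 47 b) * g⁻¹ = e 44 a * w' * e 47 b := by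
  obtain ⟨hd48, -, hr48⟩ := a1_lt h1
  obtain ⟨c, w1, hw1, rfl⟩ := peel R hr48 hr hP hw
  refine ⟨e d (c / a), le_SP hd48 hG (R.e_mem hd48 _), e d (c / a) * w1 * (e d (c / a))⁻¹,
    (Subgroup.mem_normalizer_iff.1 (R.norm_SP (P := 2 ^ d) hd (le_SP hd48 Nat.testBit_two_pow_self (R.e_mem hd48 _)))
      w1).1 hw1, ?_⟩
  obtain ⟨g, hg⟩ : ∃ g, g = e d (c / a) := ⟨_, rfl⟩
  have e1 : g * e 44 a * g⁻¹ = e r c * e 44 a := by
    rw [hg, conj1 R h1, div_mul_cancel₀ c ha]
  have e2 : g * e r c * g⁻¹ = e r c := by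
    rw [hg, R.c0 d hd48 r hr48 hdr, mul_inv_cancel_right]
  have e3 : g * e 47 b * g⁻¹ = e 47 b := by
    rw [hg, R.c0 d hd48 47 (by norm_num) hd47, mul_inv_cancel_right]
  rw [← hg]
  calc g * (e 44 a * (e r c * w1) * e 47 b) * g⁻¹
      = (g * e 44 a * g⁻¹) * (g * e r c * g⁻¹) * (g * w1 * g⁻¹) * (g * e 47 b * g⁻¹) := by group
    _ = e r c * (e 44 a * e r c) * (g * w1 * g⁻¹) * e 47 b := by rw [e1, e2, e3]; group
    _ = (e r c * e r c) * e 44 a * (g * w1 * g⁻¹) * e 47 b := by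
      rw [R.c0 44 (by norm_num) r hr48 h44r]; group
    _ = _ := by rw [R.sq hr48, one_mul]

/-- `u ~ e_44(a) w e_47(b)`, `a ≠ 0`, implies `u ~ e_44(a) e_47(b')` -/
theorem kill_all {a : F} (ha : a ≠ 0) {w : Y} (hw : w ∈ SP X 1993401696256) (b : F) :
    ∃ g ∈ SP X (nn 47), ∃ b', g * (e 44 a * w * e 47 b) * g⁻¹ = e 44 a * e 47 b' := by
  obtain ⟨g1, hg1, w1, hw1, e1⟩ := kill R ha (d := 14) (r := 40) (P := 893890068480) (P' := 1993401696256)
    (by decide +kernel)
    (by decide +kernel) (by decide +kernel) (by decide +kernel) (by decide +kernel) (by decide +kernel)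
    (by decide +kernel) (by decide +kernel) hw b
  obtain ⟨g2, hg2, w2, hw2, e2⟩ := kill R ha (d := 13) (r := 39) (P := 344134254592) (P' := 893890068480)
    (by decide +kernel)
    (by decide +kernel) (by decide +kernel) (by decide +kernel) (by decide +kernel) (by decide +kernel)
    (by decide +kernel) (by decide +kernel) hw1 b
  obtain ⟨g3, hg3, w3, hw3, e3⟩ := kill R ha (d := 12) (r := 38) (P := 69256347648) (P' := 344134254592)
    (by decide +kernel)
    (by decide +kernel) (by decide +kernel) (by decide +kernel) (by decide +kernel) (by decide +kernel)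
    (by decide +kernel) (by decide +kernel) hw2 b
  obtain ⟨g4, hg4, w4, hw4, e4⟩ := kill R ha (d := 10) (r := 36) (P := 2 ^ 29) (P' := 69256347648)
    (by decide +kernel)
    (by decide +kernel) (by decide +kernel) (by decide +kernel) (by decide +kernel) (by decide +kernel)
    (by decide +kernel) (by decide +kernel) hw3 b
  obtain ⟨c, rfl⟩ := SP_one R (by norm_num) hw4
  -- the last step
  obtain ⟨g, hg⟩ : ∃ g, g = e 6 (c / a) := ⟨_, rfl⟩
  have hgm : g ∈ SP X (nn 47) := hg ▸ le_SP (by norm_num) (by decide +kernel) (R.e_mem (by norm_num) _)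
  have f1 : g * e 44 a * g⁻¹ = e 29 c * e 47 (c / a * a ^ 2) * e 44 a := by
    rw [hg, conj2 R (show a2 6 44 29 47 = true by decide +kernel), div_mul_cancel₀ c ha]
  have f2 : g * e 29 c * g⁻¹ = e 29 c := by
    rw [hg, R.c0 6 (by norm_num) 29 (by norm_num) (by decide +kernel), mul_inv_cancel_right]
  have f3 : g * e 47 b * g⁻¹ = e 47 b := by
    rw [hg, R.c0 6 (by norm_num) 47 (by norm_num) (by decide +kernel), mul_inv_cancel_right]
  have f4 : g * (e 44 a * e 29 c * e 47 b) * g⁻¹ = e 44 a * e 47 (c / a * a ^ 2 + b) := by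
    have c1 := R.c0 29 (by norm_num) 47 (by norm_num) (by decide +kernel) c (c / a * a ^ 2)
    have c2 := R.c0 44 (by norm_num) 29 (by norm_num) (by decide +kernel) a c
    have c3 := R.c0 44 (by norm_num) 47 (by norm_num) (by decide +kernel) a (c / a * a ^ 2)
    calc g * (e 44 a * e 29 c * e 47 b) * g⁻¹
        = (g * e 44 a * g⁻¹) * (g * e 29 c * g⁻¹) * (g * e 47 b * g⁻¹) := by group
      _ = e 29 c * e 47 (c / a * a ^ 2) * (e 44 a * e 29 c) * e 47 b := by rw [f1, f2, f3]; group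
      _ = (e 47 (c / a * a ^ 2) * e 29 c) * (e 29 c * e 44 a) * e 47 b := by rw [c1, c2]
      _ = e 47 (c / a * a ^ 2) * (e 29 c * e 29 c) * e 44 a * e 47 b := by group
      _ = e 47 (c / a * a ^ 2) * e 44 a * e 47 b := by rw [R.sq (by norm_num), mul_one]
      _ = e 44 a * (e 47 (c / a * a ^ 2) * e 47 b) := by rw [← c3]; group
      _ = _ := by rw [← R.add 47 (by norm_num)]
  refine ⟨g * (g4 * (g3 * (g2 * g1))), mul_mem hgm (mul_mem hg4 (mul_mem hg3 (mul_mem hg2 hg1))),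
    c / a * a ^ 2 + b, ?_⟩
  rw [← f4, ← e4, ← e3, ← e2, ← e1]
  group

/-- every element of `U_l` lies in `X_ρ` or is conjugate under `C(X_ρ)` to `e_σ(a) e_ρ(b)`, `a ≠ 0` -/
theorem typ {u : Y} (hu : u ∈ SP X mUl) :
    u ∈ X 47 ∨ ∃ g ∈ SP X (nn 47), ∃ a, a ≠ 0 ∧ ∃ b, g * u * g⁻¹ = e 44 a * e 47 b := by
  obtain ⟨a, w0, hw0, rfl⟩ := peel R (r := 44) (P := 1993401696256 + 2 ^ 47) (P' := mUl) (by norm_num)
    (by decide +kernel) (by decide +kernel) hu
  obtain ⟨b, w, hw, rfl⟩ := peel R (r := 47) (P := 1993401696256) (P' := 1993401696256 + 2 ^ 47) (by norm_num)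
    (by decide +kernel) (by decide +kernel) hw0
  have c47 : ∀ (b : F), e 47 b * w = w * e 47 b := fun b =>
    e_comm_SP R (by norm_num) (by decide +kernel) b hw
  rw [c47]
  by_cases ha : a = 0
  · subst ha
    rw [R.zero (by norm_num), one_mul]
    -- raise
    have raise : ∀ g ∈ SP X (nn 47), ∀ a b', a ≠ 0 → g * (w * e 47 b) * g⁻¹ = e 44 a * w * e 47 b' →
        ∃ g ∈ SP X (nn 47), ∃ a, a ≠ 0 ∧ ∃ b', g * (w * e 47 b) * g⁻¹ = e 44 a * e 47 b' := by
      intro g hg a b' ha h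
      obtain ⟨g1, hg1, b1, e1⟩ := kill_all R ha hw b'
      refine ⟨g1 * g, mul_mem hg1 hg, a, ha, b1, ?_⟩
      rw [← e1, ← h]; group
    obtain ⟨c, w1, hw1, rfl⟩ := peel R (r := 29) (P := 1992864825344) (P' := 1993401696256) (by norm_num)
      (by decide +kernel) (by decide +kernel) hw
    by_cases hc : c = 0
    · subst hc
      rw [R.zero (by norm_num), one_mul] at *
      have hJs : SP X 1992864825344 ≤ SP X mJs := SP_mono (by decide +kernel)
      obtain ⟨t, ht⟩ := exists_Fm R (SP_mono (Q := mJ0) (by decide +kernel) hw1)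
      by_cases h : ∃ i, t i ≠ 0
      · obtain ⟨i, hi⟩ := h
        have hd : ∀ i, (nn 47).testBit (dd i) = true := by decide +kernel
        have hd' : ∀ i, (nn (dd i)).testBit 47 = true := by decide +kernel
        refine Or.inr (raise (e (dd i) 1) (le_SP (dd_lt i) (hd i) (R.e_mem (dd_lt i) _)) (t i) b hi ?_)
        have h1 := ht i 1
        rw [one_mul] at h1
        have h2 := R.c0 (dd i) (dd_lt i) 47 (by norm_num) (hd' i) 1 b
        calc e (dd i) 1 * (w1 * e 47 b) * (e (dd i) 1)⁻¹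
            = (e (dd i) 1 * w1 * (e (dd i) 1)⁻¹) * (e (dd i) 1 * e 47 b * (e (dd i) 1)⁻¹) := by group
          _ = _ := by rw [conj_e R, h1, h2, mul_inv_cancel_right]
      · left
        push Not at h
        have h0 : t = 0 := funext h
        -- coordinates
        obtain ⟨c1, w2, hw2, rfl⟩ := peel R (r := 36) (P := 1924145348608) (P' := 1992864825344) (by norm_num)
          (by decide +kernel) (by decide +kernel) hw1
        obtain ⟨c2, w3, hw3, rfl⟩ := peel R (r := 38) (P := 1649267441664) (P' := 1924145348608) (by norm_num)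
          (by decide +kernel) (by decide +kernel) hw2
        obtain ⟨c3, w4, hw4, rfl⟩ := peel R (r := 39) (P := 2 ^ 40) (P' := 1649267441664) (by norm_num)
          (by decide +kernel) (by decide +kernel) hw3
        obtain ⟨c4, rfl⟩ := SP_one R (by norm_num) hw4
        have hm : ∀ i u, e (cc i) u ∈ SP X mJ0 := fun i u =>
          SP_mono (P := mJs) (by decide +kernel) (le_SP (cc_lt i) (cc_Js i) (R.e_mem (cc_lt i) u))
        have h1 := Fm.mul R (hm 0 c1) (Fm.single R 0 c1) (Fm.mul R (hm 1 c2) (Fm.single R 1 c2)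
          (Fm.mul R (hm 2 c3) (Fm.single R 2 c3) (Fm.single R 3 c4)))
        have h2 := Fm.unique R ht h1
        rw [h0] at h2
        have i0 := congrFun h2 0
        have i1 := congrFun h2 1
        have i2 := congrFun h2 2
        have i3 := congrFun h2 3
        simp at i0 i1 i2 i3
        rw [← i0, ← i1, ← i2, ← i3, R.zero (by norm_num), R.zero (by norm_num), R.zero (by norm_num),
          R.zero (by norm_num), one_mul, one_mul, one_mul, one_mul]
        exact R.e_mem (by norm_num) _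
    · refine Or.inr (raise (e 41 1) (le_SP (by norm_num) (by decide +kernel) (R.e_mem (by norm_num) _)) c
        (1 * c ^ 2 + b) hc ?_)
      have f1 : e 41 1 * e 29 c * (e 41 1)⁻¹ = e 44 c * e 47 (1 * c ^ 2) * e 29 c := by
        rw [conj2 R (show a2 41 29 44 47 = true by decide +kernel), one_mul]
      have f2 : e 41 1 * w1 * (e 41 1)⁻¹ = w1 := by
        rw [e_comm_SP R (P := 1992864825344) (by norm_num) (by decide +kernel) 1 hw1, mul_inv_cancel_right]
      have f3 : e 41 1 * e 47 b * (e 41 1)⁻¹ = e 47 b := by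
        rw [R.c0 41 (by norm_num) 47 (by norm_num) (by decide +kernel), mul_inv_cancel_right]
      calc e 41 1 * (e 29 c * w1 * e 47 b) * (e 41 1)⁻¹
          = (e 41 1 * e 29 c * (e 41 1)⁻¹) * (e 41 1 * w1 * (e 41 1)⁻¹) * (e 41 1 * e 47 b * (e 41 1)⁻¹) := by group
        _ = e 44 c * (e 47 (1 * c ^ 2) * (e 29 c * w1)) * e 47 b := by rw [f1, f2, f3]; group
        _ = e 44 c * (e 29 c * w1) * (e 47 (1 * c ^ 2) * e 47 b) := by rw [c47]; group
        _ = _ := by rw [← R.add 47 (by norm_num)]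
  · right
    obtain ⟨g, hg, b', e1⟩ := kill_all R ha hw b
    refine ⟨g, hg, a, ha, b', ?_⟩
    rw [← e1]; group

end Cfsg.Agent.KFacts.F4Typ

end

-- merged: Cfsg.Agent.KFacts.F4Two
section

/-!
`F₄(q)`, `q ≥ 2` even: the lattice between `X_σ X_ρ` and `J₀`, commutators of `Q_s Q_l`, in a
chart `F4Rl.Rl` (K-group facts for OMEGA, NodeAll h1; F4).

* `two` : the groups `X_σ X_ρ < T < J₀` normalised by `C(X_σ X_ρ)` are `J_s`, `J_l`;
* `comm0`, `cen0`, `commJs`, `inf_Js`, `inf_J0`, `sup_QQ`, strict inclusions.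
-/

set_option autoImplicit false
set_option Elab.async false
set_option linter.unusedSectionVars false

namespace Cfsg.Agent.KFacts.F4Two

open Cfsg.Agent.KFacts.F4Star Cfsg.Agent.KFacts.F4Rl Cfsg.Agent.KFacts.F4Side Cfsg.Agent.KFacts.F4Form
open scoped commutatorElement

variable {F Y : Type*} [Field F] [CharP F 2] [Group Y] {e : ℕ → F → Y} {X : ℕ → Subgroup Y}

theorem star_J0 : starM mJ0 = mJ0 + 2 ^ 29 + 2 ^ 41 := by decide +kernel

/-- the union of two masks -/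
theorem SP_sup (P Q : ℕ) : SP X (P ||| Q) = SP X P ⊔ SP X Q := by
  refine le_antisymm (SP_le fun r hr h => ?_) (sup_le (SP_le fun r hr h => le_SP hr ?_)
    (SP_le fun r hr h => le_SP hr ?_))
  · rw [Nat.testBit_or, Bool.or_eq_true] at h
    rcases h with h | h
    · exact (le_SP hr h).trans le_sup_left
    · exact (le_SP hr h).trans le_sup_right
  · rw [Nat.testBit_or, h, Bool.true_or]
  · rw [Nat.testBit_or, h, Bool.or_true]

theorem SP_pow {r : ℕ} (hr : r < 48) : SP X (2 ^ r) = X r :=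
  le_antisymm (SP_le fun s _ h => by rw [Nat.testBit_two_pow, decide_eq_true_iff] at h; rw [h])
    (le_SP hr Nat.testBit_two_pow_self)

theorem SP_eq {P Q : ℕ} (h : P = Q) : SP X P = SP X Q := by rw [h]

theorem sup_Z : X 44 ⊔ X 47 = SP X (2 ^ 44 + 2 ^ 47) := by
  rw [← SP_pow (X := X) (show 44 < 48 by norm_num), ← SP_pow (X := X) (show 47 < 48 by norm_num), ← SP_sup]
  exact SP_eq (by decide +kernel)

theorem sup_QQ : SP X mQs ⊔ SP X mQl = SP X mQQ := by
  rw [← SP_sup]; exact SP_eq (by decide +kernel)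

theorem sup_J0 : SP X mJs ⊔ SP X mJl = SP X mJ0 := by
  rw [← SP_sup]; exact SP_eq (by decide +kernel)

variable (R : Rl e X)

include R

/-- a product decomposition -/
theorem split {P P1 P2 : ℕ} (h : P = P1 ||| P2) (hn : comM P1 P2 P2 = true) {y : Y} (hy : y ∈ SP X P) :
    ∃ a ∈ SP X P1, ∃ b ∈ SP X P2, y = a * b := by
  rw [h, SP_sup] at hy
  have h3 : y ∈ ((SP X P1 ⊔ SP X P2 : Subgroup Y) : Set Y) := hy
  rw [Subgroup.coe_mul_of_left_le_normalizer_right _ _ (R.norm_SP hn), Set.mem_mul] at h3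
  obtain ⟨a, ha, b, hb, rfl⟩ := h3
  exact ⟨a, ha, b, hb, rfl⟩

/-- fixed points of `U` on `J₀ / X_σ X_ρ` -/
theorem fixed [Finite Y] (hp : IsPGroup 2 (SP X mPo)) {T : Subgroup Y} (h1 : ¬ T ≤ SP X (2 ^ 44 + 2 ^ 47))
    (h0 : SP X (2 ^ 44 + 2 ^ 47) ≤ T) (hT : T ≤ SP X mJ0) (hn : ∀ g ∈ SP X mPo, ∀ t ∈ T, g * t * g⁻¹ ∈ T) :
    ∃ a b, (a ≠ 0 ∨ b ≠ 0) ∧ e 40 a * e 46 b ∈ T := by
  have hnZ : ∀ y ∈ SP X mPo, ∀ m ∈ SP X (2 ^ 44 + 2 ^ 47), y * m * y⁻¹ ∈ SP X (2 ^ 44 + 2 ^ 47) := fun y hy m hm =>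
    (Subgroup.mem_normalizer_iff.1 (R.norm_SP (P := mPo) (N := 2 ^ 44 + 2 ^ 47) (by decide +kernel) hy) m).1 hm
  have : Fact (Nat.Prime 2) := ⟨Nat.prime_two⟩
  obtain ⟨t, ht, htU, hfix⟩ := Cfsg.Agent.GTwoFour.Tools.exists_fixed_mod hp
    (hT.trans (SP_mono (by decide +kernel))) (fun y hy n hn' => hn y hy n hn') hnZ
    (by
      by_contra h2
      push Not at h2
      exact h1 fun x hx => h2 x hx)
  have hZ : ∀ z ∈ SP X (2 ^ 44 + 2 ^ 47), ∀ x ∈ SP X mPo, z * x = x * z := fun z hz x hx =>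
    R.comm_zero (P := 2 ^ 44 + 2 ^ 47) (Q := mPo) (by decide +kernel) hz hx
  have hfix' : ∀ x ∈ SP X mPo, ⁅t, x⁆ ∈ SP X (2 ^ 44 + 2 ^ 47) := fun x hx => by
    rw [← commutatorElement_inv]; exact inv_mem (hfix x hx)
  have key : ∀ d c m, a1 d c m = true → mPo.testBit d = true → mQQ.testBit c = true →
      ∀ s, t * e m s = e m s * t := by
    intro d c m h hd hc s
    obtain ⟨hd48, hc48, hm48⟩ := a1_lt h
    have hdm : e d s ∈ SP X mPo := le_SP hd48 hd (R.e_mem hd48 s)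
    have hcm : e c 1 ∈ SP X mQQ := le_SP hc48 hc (R.e_mem hc48 1)
    have hcm' : e c 1 ∈ SP X mPo := SP_mono (by decide +kernel) hcm
    have a1' := hfix' _ hdm
    have a2' := hfix' _ hcm'
    have hZP : SP X (2 ^ 44 + 2 ^ 47) ≤ SP X mPo := SP_mono (by decide +kernel)
    have hm : ⁅e d s, e c 1⁆ ∈ SP X mPo := by
      rw [commutatorElement_def]
      exact mul_mem (mul_mem (mul_mem hdm hcm') (inv_mem hdm)) (inv_mem hcm')
    rw [R.c1 d c m h, mul_one] at hm
    exact hw (a := ⁅t, e d s⁆) (b := ⁅t, e c 1⁆) (x := e d s) (y := e c 1) (conj_e R _ _) (conj_e R _ _)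
      (by rw [R.c1 d c m h, mul_one]) (hZ _ a1' _ hcm') (hZ _ a1' _ (hZP a2')) (hZ _ a1' _ hm) (hZ _ a2' _ hdm)
      (hZ _ a2' _ hcm')
  have h2 : t ∈ SP X (starM 281464843272192) := by
    refine R.cm _ (by decide) t fun r hr h2 y hy => ?_
    obtain ⟨s, rfl⟩ := (R.mem r hr y).1 hy
    have h4 : ((List.range 48).all fun r => !(281464843272192 : ℕ).testBit r ||
        comM mJ0 (2 ^ r) 0 ||
        ((List.range 48).any fun d => mPo.testBit d && (List.range 48).any fun c => mQQ.testBit c &&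
          a1 d c r)) = true := by decide +kernel
    have h5 := List.all_eq_true.1 h4 r (List.mem_range.2 hr)
    rw [h2, Bool.not_true, Bool.false_or, Bool.or_eq_true] at h5
    rcases h5 with h5 | h5
    · exact R.comm_zero h5 (hT ht) (le_SP hr Nat.testBit_two_pow_self (R.e_mem hr s))
    · obtain ⟨d, -, h6⟩ := List.any_eq_true.1 h5
      rw [Bool.and_eq_true] at h6
      obtain ⟨c, -, h7⟩ := List.any_eq_true.1 h6.2
      rw [Bool.and_eq_true] at h7
      exact key d c r h7.2 h6.1 h7.1 s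
  rw [star_M2] at h2
  obtain ⟨a, w, hw', rfl⟩ := peel R (r := 40) (P := 2 ^ 44 + 2 ^ 46 + 2 ^ 47) (by norm_num) (by decide +kernel)
    (by decide +kernel) h2
  obtain ⟨b, w2, hw2, rfl⟩ := peel R (r := 46) (P := 2 ^ 44 + 2 ^ 47) (by norm_num) (by decide +kernel)
    (by decide +kernel) hw'
  refine ⟨a, b, ?_, ?_⟩
  · by_contra h3
    push Not at h3
    rw [h3.1, h3.2, R.zero (by norm_num), R.zero (by norm_num), one_mul, one_mul] at htU
    exact htU hw2
  · have h3 : e 40 a * e 46 b = e 40 a * (e 46 b * w2) * w2⁻¹ := by group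
    rw [h3]
    exact mul_mem ht (inv_mem (h0 hw2))

/-- from `X_40` to `J_s` -/
theorem gen_s {T : Subgroup Y} (h0 : SP X (2 ^ 44 + 2 ^ 47) ≤ T)
    (hn : ∀ g ∈ SP X (nn 44 &&& nn 47), ∀ t ∈ T, g * t * g⁻¹ ∈ T) {a : F} (ha : a ≠ 0) (h : e 40 a ∈ T) :
    SP X mJs ≤ T := by
  have hd : ∀ d, (nn 44 &&& nn 47).testBit d = true → d < 48 → ∀ s, ∀ t ∈ T, e d s * t * (e d s)⁻¹ ∈ T :=
    fun d h hd48 s t ht => hn _ (le_SP hd48 h (R.e_mem hd48 s)) t ht
  have m38 := step R (r := 40) (d := 19) (m := 38) (by decide +kernel) (hd 19 (by decide +kernel) (by norm_num)) ha h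
  have m39 := step R (r := 40) (d := 20) (m := 39) (by decide +kernel) (hd 20 (by decide +kernel) (by norm_num)) ha h
  have m36 := step R (r := 38) (d := 20) (m := 36) (by decide +kernel) (hd 20 (by decide +kernel) (by norm_num))
    one_ne_zero (m38 1)
  have m40 := step R (r := 38) (d := 28) (m := 40) (by decide +kernel) (hd 28 (by decide +kernel) (by norm_num))
    one_ne_zero (m38 1)
  refine R.SP_le' fun r hr h1 t => ?_
  have h4 : ((List.range 48).all fun r => !mJs.testBit r || (2 ^ 44 + 2 ^ 47 : ℕ).testBit r ||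
      [36, 38, 39, 40].contains r) = true := by decide +kernel
  have h5 := List.all_eq_true.1 h4 r (List.mem_range.2 hr)
  rw [h1, Bool.not_true, Bool.false_or, Bool.or_eq_true] at h5
  rcases h5 with h5 | h5
  · exact h0 (le_SP hr h5 (R.e_mem hr t))
  · have h6 : r ∈ [36, 38, 39, 40] := by simpa using h5
    simp only [List.mem_cons, List.not_mem_nil, or_false] at h6
    rcases h6 with rfl | rfl | rfl | rfl
    · exact m36 t
    · exact m38 t
    · exact m39 t
    · exact m40 t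

/-- from `X_46` to `J_l` -/
theorem gen_l {T : Subgroup Y} (h0 : SP X (2 ^ 44 + 2 ^ 47) ≤ T)
    (hn : ∀ g ∈ SP X (nn 44 &&& nn 47), ∀ t ∈ T, g * t * g⁻¹ ∈ T) {a : F} (ha : a ≠ 0) (h : e 45 a ∈ T) :
    SP X mJl ≤ T := by
  have hd : ∀ d, (nn 44 &&& nn 47).testBit d = true → d < 48 → ∀ s, ∀ t ∈ T, e d s * t * (e d s)⁻¹ ∈ T :=
    fun d h hd48 s t ht => hn _ (le_SP hd48 h (R.e_mem hd48 s)) t ht
  have m46 := step R (r := 45) (d := 25) (m := 46) (by decide +kernel) (hd 25 (by decide +kernel) (by norm_num)) ha h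
  have m45 := step R (r := 46) (d := 22) (m := 45) (by decide +kernel) (hd 22 (by decide +kernel) (by norm_num))
    one_ne_zero (m46 1)
  have m43 := step R (r := 46) (d := 17) (m := 43) (by decide +kernel) (hd 17 (by decide +kernel) (by norm_num))
    one_ne_zero (m46 1)
  have m42 := step R (r := 43) (d := 22) (m := 42) (by decide +kernel) (hd 22 (by decide +kernel) (by norm_num))
    one_ne_zero (m43 1)
  refine R.SP_le' fun r hr h1 t => ?_
  have h4 : ((List.range 48).all fun r => !mJl.testBit r || (2 ^ 44 + 2 ^ 47 : ℕ).testBit r ||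
      [42, 43, 45, 46].contains r) = true := by decide +kernel
  have h5 := List.all_eq_true.1 h4 r (List.mem_range.2 hr)
  rw [h1, Bool.not_true, Bool.false_or, Bool.or_eq_true] at h5
  rcases h5 with h5 | h5
  · exact h0 (le_SP hr h5 (R.e_mem hr t))
  · have h6 : r ∈ [42, 43, 45, 46] := by simpa using h5
    simp only [List.mem_cons, List.not_mem_nil, or_false] at h6
    rcases h6 with rfl | rfl | rfl | rfl
    · exact m42 t
    · exact m43 t
    · exact m45 t
    · exact m46 t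

/-- `e_40(a) ∉ U_s`, `a ≠ 0` -/
theorem e40_Us {a : F} (h : ∀ y ∈ SP X mQs, e 40 a * y = y * e 40 a) : a = 0 := by
  have h1 := h (e 33 1) (le_SP (by norm_num) (by decide +kernel) (R.e_mem (by norm_num) _))
  have h2 := R.c1 40 33 44 (by decide +kernel) a 1
  rw [commutatorElement_eq_one_iff_mul_comm.2 h1, mul_one] at h2
  exact R.inj 44 (by norm_num) _ h2.symm

theorem e46_Ul {a : F} (h : ∀ y ∈ SP X mQl, e 46 a * y = y * e 46 a) : a = 0 := by
  have h1 := h (e 24 1) (le_SP (by norm_num) (by decide +kernel) (R.e_mem (by norm_num) _))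
  have h2 := R.c1 46 24 47 (by decide +kernel) a 1
  rw [commutatorElement_eq_one_iff_mul_comm.2 h1, mul_one] at h2
  exact R.inj 47 (by norm_num) _ h2.symm

/-- **`two`** : the two 4-dimensional modules. -/
theorem two [Finite Y] (hp : IsPGroup 2 (SP X mPo)) {T : Subgroup Y} (h1 : ¬ T ≤ SP X (2 ^ 44 + 2 ^ 47))
    (h0 : SP X (2 ^ 44 + 2 ^ 47) ≤ T) (hT : T ≤ SP X mJ0)
    (hn : ∀ g ∈ SP X (nn 44 &&& nn 47), ∀ t ∈ T, g * t * g⁻¹ ∈ T) :
    T = SP X mJs ∨ T = SP X mJl ∨ T = SP X mJ0 := by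
  have hPE : SP X mPo ≤ SP X (nn 44 &&& nn 47) := SP_mono (by decide +kernel)
  have nJs : ∀ g ∈ SP X mPo, ∀ t ∈ SP X mJs, g * t * g⁻¹ ∈ SP X mJs := fun g hg t ht =>
    (Subgroup.mem_normalizer_iff.1 (R.norm_SP (P := mPo) (N := mJs) (by decide +kernel) hg) t).1 ht
  have nJl : ∀ g ∈ SP X mPo, ∀ t ∈ SP X mJl, g * t * g⁻¹ ∈ SP X mJl := fun g hg t ht =>
    (Subgroup.mem_normalizer_iff.1 (R.norm_SP (P := mPo) (N := mJl) (by decide +kernel) hg) t).1 ht
  have hd : ∀ d, (nn 44 &&& nn 47).testBit d = true → d < 48 → ∀ s, ∀ t ∈ T, e d s * t * (e d s)⁻¹ ∈ T :=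
    fun d h hd48 s t ht => hn _ (le_SP hd48 h (R.e_mem hd48 s)) t ht
  have cJsUl : ∀ x ∈ SP X mJs, ∀ y ∈ SP X mQl, x * y = y * x := fun x hx y hy =>
    comm_Ul_Ql R (SP_mono (by decide +kernel) hx) hy
  have cJlQs : ∀ x ∈ SP X mJl, ∀ y ∈ SP X mQs, x * y = y * x := fun x hx y hy =>
    R.comm_zero (P := mJl) (Q := mQs) (by decide +kernel) hx hy
  have cZQs : ∀ x ∈ SP X (2 ^ 44 + 2 ^ 47), ∀ y ∈ SP X mPo, x * y = y * x := fun x hx y hy =>
    R.comm_zero (P := 2 ^ 44 + 2 ^ 47) (Q := mPo) (by decide +kernel) hx hy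
  have zJs : SP X (2 ^ 44 + 2 ^ 47) ≤ SP X mJs := SP_mono (by decide +kernel)
  have zJl : SP X (2 ^ 44 + 2 ^ 47) ≤ SP X mJl := SP_mono (by decide +kernel)
  -- the case `J_s ≤ T`
  have caseS : SP X mJs ≤ T → T = SP X mJs ∨ T = SP X mJ0 := by
    intro hs
    by_cases h2 : T ≤ SP X mJs
    · exact Or.inl (le_antisymm h2 hs)
    · right
      obtain ⟨a, b, hab, hm⟩ := fixed R hp (T := T ⊓ SP X mJl)
        (fun h3 => h2 fun t ht => by
          obtain ⟨x, hx, y, hy, rfl⟩ := split R (P := mJ0) (P1 := mJs) (P2 := mJl) (by decide +kernel)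
            (by decide +kernel) (hT ht)
          have h4 : y ∈ T := by
            have h5 : y = x⁻¹ * (x * y) := by group
            rw [h5]; exact mul_mem (inv_mem (hs hx)) ht
          exact mul_mem hx (zJs (h3 ⟨h4, hy⟩))) (le_inf h0 zJl)
        (inf_le_left.trans hT) fun g hg t ht => ⟨hn g (hPE hg) t ht.1, nJl g hg t ht.2⟩
      have hb : b ≠ 0 := by
        rintro rfl
        have h3 := hab.resolve_right (fun h => h rfl)
        rw [R.zero (by norm_num), mul_one] at hm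
        exact h3 (e40_Us R fun y hy => cJlQs _ hm.2 y hy)
      have h3 : e 46 b ∈ T := by
        have h4 : e 46 b = (e 40 a)⁻¹ * (e 40 a * e 46 b) := by group
        rw [h4]
        exact mul_mem (inv_mem (hs (le_SP (by norm_num) (by decide +kernel) (R.e_mem (by norm_num) _)))) hm.1
      have m45 := step R (r := 46) (d := 22) (m := 45) (by decide +kernel) (hd 22 (by decide +kernel) (by norm_num))
        hb h3
      refine le_antisymm hT ?_
      rw [← sup_J0]
      exact sup_le hs (gen_l R h0 hn one_ne_zero (m45 1))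
  -- the case `J_l ≤ T`
  have caseL : SP X mJl ≤ T → T = SP X mJl ∨ T = SP X mJ0 := by
    intro hs
    by_cases h2 : T ≤ SP X mJl
    · exact Or.inl (le_antisymm h2 hs)
    · right
      obtain ⟨a, b, hab, hm⟩ := fixed R hp (T := T ⊓ SP X mJs)
        (fun h3 => h2 fun t ht => by
          obtain ⟨x, hx, y, hy, rfl⟩ := split R (P := mJ0) (P1 := mJs) (P2 := mJl) (by decide +kernel)
            (by decide +kernel) (hT ht)
          have h4 : x ∈ T := by
            have h5 : x = (x * y) * y⁻¹ := by group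
            rw [h5]; exact mul_mem ht (inv_mem (hs hy))
          exact mul_mem (zJl (h3 ⟨h4, hx⟩)) hy) (le_inf h0 zJs)
        (inf_le_left.trans hT) fun g hg t ht => ⟨hn g (hPE hg) t ht.1, nJs g hg t ht.2⟩
      have hb : a ≠ 0 := by
        rintro rfl
        have h3 := hab.resolve_left (fun h => h rfl)
        rw [R.zero (by norm_num), one_mul] at hm
        exact h3 (e46_Ul R fun y hy => cJsUl _ hm.2 y hy)
      have h3 : e 40 a ∈ T := by
        have h4 : e 40 a = (e 40 a * e 46 b) * (e 46 b)⁻¹ := by group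
        rw [h4]
        exact mul_mem hm.1 (inv_mem (hs (le_SP (by norm_num) (by decide +kernel) (R.e_mem (by norm_num) _))))
      refine le_antisymm hT ?_
      rw [← sup_J0]
      exact sup_le (gen_s R h0 hn hb h3) hs
  obtain ⟨a, b, hab, hm⟩ := fixed R hp h1 h0 hT fun g hg t ht => hn g (hPE hg) t ht
  by_cases hb : b = 0
  · subst hb
    have h3 := hab.resolve_right (fun h => h rfl)
    rw [R.zero (by norm_num), mul_one] at hm
    rcases caseS (gen_s R h0 hn h3 hm) with h4 | h4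
    · exact Or.inl h4
    · exact Or.inr (Or.inr h4)
  · have h3 : e 45 b ∈ T := by
      have h4 := mul_mem (hd 22 (by decide +kernel) (by norm_num) 1 _ hm) (inv_mem hm)
      have h5 : e 22 1 * (e 40 a * e 46 b) * (e 22 1)⁻¹ * (e 40 a * e 46 b)⁻¹ =
          (e 22 1 * e 40 a) * e 46 b * (e 22 1)⁻¹ * (e 46 b)⁻¹ * (e 40 a)⁻¹ := by group
      rw [h5, R.c0 22 (by norm_num) 40 (by norm_num) (by decide +kernel)] at h4
      have h6 : e 40 a * e 22 1 * e 46 b * (e 22 1)⁻¹ * (e 46 b)⁻¹ * (e 40 a)⁻¹ =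
          e 40 a * ⁅e 22 1, e 46 b⁆ * (e 40 a)⁻¹ := by rw [commutatorElement_def]; group
      rw [h6, R.c1 22 46 45 (by decide +kernel), R.c0 40 (by norm_num) 45 (by norm_num) (by decide +kernel),
        mul_inv_cancel_right, one_mul] at h4
      exact h4
    rcases caseL (gen_l R h0 hn hb h3) with h4 | h4
    · exact Or.inr (Or.inl h4)
    · exact Or.inr (Or.inr h4)

/-! ### Commutators and intersections -/

theorem comm0 : ⁅SP X mQQ, SP X mQQ⁆ = SP X mJ0 := by
  refine le_antisymm (Subgroup.commutator_le.2 fun x hx y hy => ?_) (R.SP_le' fun r hr h t => ?_)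
  · exact R.comm_SP (N := mJ0) (by decide +kernel) (by decide +kernel) (by decide +kernel) hx hy
  · have h4 : ((List.range 48).all fun r => !mJ0.testBit r ||
        ((List.range 48).any fun d => mQQ.testBit d && (List.range 48).any fun c => mQQ.testBit c &&
          a1 d c r)) = true := by decide +kernel
    have h5 := List.all_eq_true.1 h4 r (List.mem_range.2 hr)
    rw [h, Bool.not_true, Bool.false_or] at h5
    obtain ⟨d, -, h6⟩ := List.any_eq_true.1 h5
    rw [Bool.and_eq_true] at h6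
    obtain ⟨c, -, h7⟩ := List.any_eq_true.1 h6.2
    rw [Bool.and_eq_true] at h7
    obtain ⟨hd48, hc48, hm48⟩ := a1_lt h7.2
    have h8 := R.c1 d c r h7.2 t 1
    rw [mul_one] at h8
    rw [← h8]
    exact Subgroup.commutator_mem_commutator (le_SP hd48 h6.1 (R.e_mem hd48 _)) (le_SP hc48 h7.1 (R.e_mem hc48 _))

omit [CharP F 2] in
theorem cen0' {x : Y} (h : ∀ y ∈ SP X mQQ, x * y = y * x) : x ∈ SP X (2 ^ 44 + 2 ^ 47) := by
  have h1 := R.cm mQQ (by decide) x fun r hr h1 y hy => h y (le_SP hr h1 hy)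
  rw [star_QQ] at h1
  rwa [add_comm] at h1

theorem commJs : ⁅SP X mJs, SP X mQQ⁆ = X 44 := by
  refine le_antisymm (Subgroup.commutator_le.2 fun x hx y hy => comm_Js R hx hy) fun x hx => ?_
  obtain ⟨t, rfl⟩ := (R.mem 44 (by norm_num) x).1 hx
  have h1 := R.c1 36 37 44 (by decide +kernel) t 1
  rw [mul_one] at h1
  rw [← h1]
  exact Subgroup.commutator_mem_commutator (le_SP (by norm_num) (by decide +kernel) (R.e_mem (by norm_num) _))
    (le_SP (by norm_num) (by decide +kernel) (R.e_mem (by norm_num) _))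

/-- `e_29(a) ∈ Q_s` only for `a = 0` -/
theorem e29_Qs {a : F} (h : ∀ y ∈ SP X mUs, e 29 a * y = y * e 29 a) : a = 0 := by
  have h1 := h (e 41 1) (le_SP (by norm_num) (by decide +kernel) (R.e_mem (by norm_num) _))
  have h2 := R.c2 41 29 44 47 (by decide +kernel) 1 a
  rw [commutatorElement_eq_one_iff_mul_comm.2 h1.symm, one_mul] at h2
  exact (mul_sep R (by norm_num) (by norm_num) (by norm_num) h2.symm).1

/-- `e_41(a) ∈ Q_l` only for `a = 0` -/
theorem e41_Ql {a : F} (h : ∀ y ∈ SP X mUl, e 41 a * y = y * e 41 a) : a = 0 := by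
  have h1 := h (e 29 1) (le_SP (by norm_num) (by decide +kernel) (R.e_mem (by norm_num) _))
  have h2 := R.c2 41 29 44 47 (by decide +kernel) a 1
  rw [commutatorElement_eq_one_iff_mul_comm.2 h1, mul_one] at h2
  exact (mul_sep R (by norm_num) (by norm_num) (by norm_num) h2.symm).1

theorem comm_Us_Qs {x y : Y} (hx : x ∈ SP X mUs) (hy : y ∈ SP X mQs) : x * y = y * x :=
  R.comm_zero (by decide +kernel) hx hy

/-- `U_l ∩ Q_s = J_s` -/
theorem inf_Js : SP X mUl ⊓ SP X mQs = SP X mJs := by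
  refine le_antisymm ?_ (le_inf (SP_mono (by decide +kernel)) (SP_mono (by decide +kernel)))
  rintro u ⟨hu, hq⟩
  obtain ⟨a, j, hj, rfl⟩ := peel R (r := 29) (P := mJs) (by norm_num) (by decide +kernel) (by decide +kernel) hu
  have hj' : j ∈ SP X mQs := SP_mono (by decide +kernel) hj
  have h1 : e 29 a ∈ SP X mQs := by
    have h2 : e 29 a = e 29 a * j * j⁻¹ := by group
    rw [h2]
    exact mul_mem hq (inv_mem hj')
  rw [e29_Qs R fun y hy => (comm_Us_Qs R hy h1).symm, R.zero (by norm_num), one_mul]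
  exact hj

/-- `Q_s ∩ Q_l = J₀` -/
theorem inf_J0 : SP X mQs ⊓ SP X mQl = SP X mJ0 := by
  refine le_antisymm ?_ (le_inf (SP_mono (by decide +kernel)) (SP_mono (by decide +kernel)))
  rintro u ⟨hs, hl⟩
  have h1 : u ∈ SP X (starM mJ0) := by
    refine R.cm mJ0 (by decide) u fun r hr h y hy => ?_
    have h2 : ((List.range 48).all fun r => !mJ0.testBit r || mUs.testBit r || mUl.testBit r) = true := by
      decide +kernel
    have h3 := List.all_eq_true.1 h2 r (List.mem_range.2 hr)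
    rw [h, Bool.not_true, Bool.false_or, Bool.or_eq_true] at h3
    rcases h3 with h3 | h3
    · exact (comm_Us_Qs R (le_SP hr h3 hy) hs).symm
    · exact (comm_Ul_Ql R (le_SP hr h3 hy) hl).symm
  rw [star_J0] at h1
  obtain ⟨a, w, hw, rfl⟩ := peel R (r := 29) (P := mJ0 + 2 ^ 41) (by norm_num) (by decide +kernel)
    (by decide +kernel) h1
  obtain ⟨b, w2, hw2, rfl⟩ := peel R (r := 41) (P := mJ0) (P' := mJ0 + 2 ^ 41) (by norm_num) (by decide +kernel)
    (by decide +kernel) hw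
  have hws : w2 ∈ SP X mQs := SP_mono (P := mJ0) (by decide +kernel) hw2
  have hwl : w2 ∈ SP X mQl := SP_mono (P := mJ0) (by decide +kernel) hw2
  have h41 : e 41 b ∈ SP X mQs := le_SP (by norm_num) (by decide +kernel) (R.e_mem (by norm_num) _)
  have h29 : e 29 a ∈ SP X mQl := le_SP (by norm_num) (by decide +kernel) (R.e_mem (by norm_num) _)
  have h2 : e 29 a ∈ SP X mQs := by
    have h3 : e 29 a = e 29 a * (e 41 b * w2) * (e 41 b * w2)⁻¹ := by group
    rw [h3]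
    exact mul_mem hs (inv_mem (mul_mem h41 hws))
  have h4 : e 41 b ∈ SP X mQl := by
    have h3 : e 41 b = (e 29 a)⁻¹ * (e 29 a * (e 41 b * w2)) * w2⁻¹ := by group
    rw [h3]
    exact mul_mem (mul_mem (inv_mem h29) hl) (inv_mem hwl)
  rw [e29_Qs R fun y hy => (comm_Us_Qs R hy h2).symm, e41_Ql R fun y hy => (comm_Ul_Ql R hy h4).symm,
    R.zero (by norm_num), R.zero (by norm_num), one_mul, one_mul]
  exact hw2

/-- `X_σ X_ρ < J_s` -/
theorem lt_Js : SP X (2 ^ 44 + 2 ^ 47) < SP X mJs := by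
  refine lt_of_le_of_ne (SP_mono (by decide +kernel)) fun h => ?_
  have h1 : e 40 1 ∈ SP X (2 ^ 44 + 2 ^ 47) := by
    rw [h]; exact le_SP (by norm_num) (by decide +kernel) (R.e_mem (by norm_num) _)
  exact one_ne_zero (e40_Us R fun y hy => R.comm_zero (P := 2 ^ 44 + 2 ^ 47) (Q := mQs) (by decide +kernel) h1 hy)

/-- `X_σ X_ρ < J_l` -/
theorem lt_Jl : SP X (2 ^ 44 + 2 ^ 47) < SP X mJl := by
  refine lt_of_le_of_ne (SP_mono (by decide +kernel)) fun h => ?_
  have h1 : e 46 1 ∈ SP X (2 ^ 44 + 2 ^ 47) := by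
    rw [h]; exact le_SP (by norm_num) (by decide +kernel) (R.e_mem (by norm_num) _)
  exact one_ne_zero (e46_Ul R fun y hy => R.comm_zero (P := 2 ^ 44 + 2 ^ 47) (Q := mQl) (by decide +kernel) h1 hy)

/-- `J_s < J₀` -/
theorem Js_lt : SP X mJs < SP X mJ0 := by
  refine lt_of_le_of_ne (SP_mono (by decide +kernel)) fun h => ?_
  have h1 : e 46 1 ∈ SP X mJs := by
    rw [h]; exact le_SP (by norm_num) (by decide +kernel) (R.e_mem (by norm_num) _)
  exact one_ne_zero (e46_Ul R fun y hy => comm_Ul_Ql R (SP_mono (by decide +kernel) h1) hy)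

/-- `J_l < J₀` -/
theorem Jl_lt : SP X mJl < SP X mJ0 := by
  refine lt_of_le_of_ne (SP_mono (by decide +kernel)) fun h => ?_
  have h1 : e 40 1 ∈ SP X mJl := by
    rw [h]; exact le_SP (by norm_num) (by decide +kernel) (R.e_mem (by norm_num) _)
  exact one_ne_zero (e40_Us R fun y hy => comm_Us_Qs R (SP_mono (by decide +kernel) h1) hy)

end Cfsg.Agent.KFacts.F4Two

end

-- merged: Cfsg.Agent.KFacts.F4Off
section

/-!
`F₄(q)`, `q ≥ 2` even: counting, in a chart `F4Rl.Rl` (K-group facts for OMEGA, NodeAll h1; F4).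

* `card` : `|X_σ| |J_s| ≤ |U_l|`;
* `off` : `|V| |C_{U_l}(V)| ≤ |U_l| |C_V(U_l)|` for `V ≤ Q_s Q_l`.
-/

set_option autoImplicit false
set_option Elab.async false
set_option linter.unusedSectionVars false

namespace Cfsg.Agent.KFacts.F4Off

open Cfsg.Agent.KFacts.F4Star Cfsg.Agent.KFacts.F4Rl Cfsg.Agent.KFacts.F4Side Cfsg.Agent.KFacts.F4Form
  Cfsg.Agent.KFacts.F4Two
open scoped commutatorElement

/-! ### Counting -/

theorem perp_card {F : Type*} [Field F] [Finite F] (S : Set (Fin 4 → F)) :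
    Nat.card S * Nat.card {t : Fin 4 → F | ∀ b ∈ S, ∑ i, b i * t i = 0} ≤ Nat.card F ^ 4 := by
  obtain ⟨W, hW⟩ : ∃ W : Submodule F (Fin 4 → F), W = Submodule.span F S := ⟨_, rfl⟩
  obtain ⟨B, hB⟩ : ∃ B : LinearMap.BilinForm F (Fin 4 → F), B = (dotProductEquiv F (Fin 4)).toLinearMap := ⟨_, rfl⟩
  have hBi : LinearMap.ker B = ⊥ := by rw [hB]; exact LinearEquiv.ker _
  have hBa : ∀ b t, B b t = ∑ i, b i * t i := by intro b t; rw [hB]; rfl
  have h1 := LinearMap.BilinForm.finrank_add_finrank_orthogonal' (B := B) W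
  rw [hBi, inf_bot_eq, finrank_bot, add_zero, Module.finrank_fin_fun] at h1
  have h2 : Nat.card S ≤ Nat.card W := Nat.card_mono (Set.toFinite _) (by
    intro x hx; rw [hW]; exact Submodule.subset_span hx)
  have h3 : Nat.card {t : Fin 4 → F | ∀ b ∈ S, ∑ i, b i * t i = 0} ≤ Nat.card (B.orthogonal W) := by
    refine Nat.card_mono (Set.toFinite _) ?_
    intro t ht
    show t ∈ B.orthogonal W
    rw [LinearMap.BilinForm.mem_orthogonal_iff]
    intro b hb
    rw [hW] at hb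
    show B b t = 0
    refine Submodule.span_induction (p := fun b _ => B b t = 0) (fun b hb => ?_) ?_ (fun x y _ _ hx hy => ?_)
      (fun a x _ hx => ?_) hb
    · rw [hBa]; exact ht b hb
    · rw [map_zero, LinearMap.zero_apply]
    · rw [map_add, LinearMap.add_apply, hx, hy, add_zero]
    · rw [map_smul, LinearMap.smul_apply, hx, smul_zero]
  refine (Nat.mul_le_mul h2 h3).trans (le_of_eq ?_)
  rw [Module.natCard_eq_pow_finrank (K := F) (V := W), Module.natCard_eq_pow_finrank (K := F) (V := B.orthogonal W),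
    ← pow_add, h1]

theorem card_le_of_sep {A α : Type*} [Group A] [Finite A] [Finite α] (H : Subgroup A) (φ : A → α)
    (h : ∀ a b, φ a = φ b → a⁻¹ * b ∈ H) : Nat.card A ≤ Nat.card α * Nat.card H := by
  rw [Subgroup.card_eq_card_quotient_mul_card_subgroup H]
  refine Nat.mul_le_mul_right _ (Nat.card_le_card_of_injective (fun c : A ⧸ H => φ c.out) fun c c' hc => ?_)
  rw [← QuotientGroup.out_eq' c, ← QuotientGroup.out_eq' c']
  exact QuotientGroup.eq.2 (h _ _ hc)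

/-- the same for subgroups -/
theorem card_le_of_sep' {Y α : Type*} [Group Y] [Finite Y] [Finite α] {A H : Subgroup Y} (hHA : H ≤ A) (φ : A → α)
    (h : ∀ a b : A, φ a = φ b → (a : Y)⁻¹ * b ∈ H) : Nat.card A ≤ Nat.card α * Nat.card H := by
  rw [← Nat.card_congr (Subgroup.subgroupOfEquivOfLe hHA).toEquiv]
  exact card_le_of_sep (H.subgroupOf A) φ fun a b hab => Subgroup.mem_subgroupOf.2 (h a b hab)

variable {F Y : Type*} [Field F] [CharP F 2] [Group Y] {e : ℕ → F → Y} {X : ℕ → Subgroup Y}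

variable (R : Rl e X)

include R

omit [CharP F 2] in
theorem card_X {r : ℕ} (hr : r < 48) : Nat.card (X r) = Nat.card F := by
  refine (Nat.card_congr (Equiv.ofBijective (fun t : F => (⟨e r t, R.e_mem hr t⟩ : X r)) ⟨fun t u h => ?_, ?_⟩)).symm
  · have h1 : e r t = e r u := Subtype.ext_iff.1 h
    have h2 := R.add r hr (t - u) u
    rw [sub_add_cancel, h1] at h2
    exact sub_eq_zero.1 (R.inj r hr _ (mul_eq_right.1 h2.symm))
  · rintro ⟨x, hx⟩
    obtain ⟨t, rfl⟩ := (R.mem r hr x).1 hx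
    exact ⟨t, rfl⟩

/-- **`card`** -/
theorem card [Finite Y] : Nat.card (X 44) * Nat.card (SP X mJs) ≤ Nat.card (SP X mUl) := by
  rw [card_X R (by norm_num), ← Nat.card_prod]
  have h29 : ∀ t, e 29 t ∈ SP X mUl := fun t => le_SP (by norm_num) (by decide +kernel) (R.e_mem (by norm_num) _)
  have hJ : SP X mJs ≤ SP X mUl := SP_mono (by decide +kernel)
  refine Nat.card_le_card_of_injective
    (fun p : F × SP X mJs => (⟨e 29 p.1 * p.2, mul_mem (h29 _) (hJ p.2.2)⟩ : SP X mUl)) ?_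
  rintro ⟨t, j⟩ ⟨t', j'⟩ h
  have h1 : e 29 t * (j : Y) = e 29 t' * j' := Subtype.ext_iff.1 h
  have h2 : e 29 (t + t') = (j' : Y) * (j : Y)⁻¹ := by
    rw [add_comm, R.add 29 (by norm_num)]
    have h3 : e 29 t = e 29 t' * j' * (j : Y)⁻¹ := by rw [← h1]; group
    rw [h3]
    calc e 29 t' * (e 29 t' * j' * (j : Y)⁻¹) = (e 29 t' * e 29 t') * (j' * (j : Y)⁻¹) := by group
      _ = _ := by rw [R.sq (by norm_num), one_mul]
  have h3 : e 29 (t + t') ∈ SP X mQs := by
    rw [h2]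
    exact SP_mono (P := mJs) (by decide +kernel) (mul_mem j'.2 (inv_mem j.2))
  have h4 : t = t' := CharTwo.add_eq_zero.1 (e29_Qs R fun y hy => (comm_Us_Qs R hy h3).symm)
  subst h4
  have h5 : (j : Y) = j' := mul_left_cancel h1
  rw [Subtype.ext h5]

theorem D_unique {v : Y} {D D' : Fin 4 → F} (h : Dm e X v D) (h' : Dm e X v D') : D = D' := by
  have h1 := Fm.unique R (h.2 1).2 (h'.2 1).2
  funext i
  have h2 := congrFun h1 i.rev
  simpa using h2

/-- an element of `J_s ∩ U_s` has zero coordinates -/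
theorem Fm_zero_of_Us {j : Y} (h : j ∈ SP X mUs) : Fm e j 0 := by
  intro i s
  have hd : ∀ i, mQs.testBit (dd i) = true := by decide +kernel
  have h1 := comm_Us_Qs R h (le_SP (dd_lt i) (hd i) (R.e_mem (dd_lt i) s))
  rw [commutatorElement_eq_one_iff_mul_comm.2 h1.symm, Pi.zero_apply, mul_zero, R.zero (by norm_num)]

/-- **`off`** -/
theorem off [Finite F] [Finite Y] {V : Subgroup Y} (hV : V ≤ SP X mQQ) :
    Nat.card V * Nat.card ↥(SP X mUl ⊓ Subgroup.centralizer (V : Set Y)) ≤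
      Nat.card (SP X mUl) * Nat.card ↥(V ⊓ Subgroup.centralizer (SP X mUl : Set Y)) := by
  by_cases hc : V ≤ Subgroup.centralizer (SP X mUl : Set Y)
  · rw [inf_eq_left.2 hc, mul_comm]
    exact Nat.mul_le_mul_right _ (Subgroup.card_le_of_le inf_le_left)
  -- `C_U(V) ≤ J_s`
  obtain ⟨v0, hv0, hv0c⟩ := Set.not_subset.1 hc
  obtain ⟨C, hC⟩ : ∃ C : Subgroup Y, C = SP X mUl ⊓ Subgroup.centralizer (V : Set Y) := ⟨_, rfl⟩
  have hCJ : C ≤ SP X mJs := by
    rw [hC]
    rintro u ⟨hu, hu'⟩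
    by_contra h1
    refine hv0c ?_
    have h2 := fix R (hV hv0) hu (Subgroup.mem_centralizer_iff.1 hu' v0 hv0) h1
    exact Subgroup.mem_centralizer_iff.2 fun y hy => comm_Ul_Ql R hy h2
  -- the coordinates `D`
  choose! D hD using fun v (hv : v ∈ SP X mQQ) => exists_Dm R hv
  have hDm : ∀ a ∈ SP X mQQ, ∀ b ∈ SP X mQQ, D a = D b → D (a⁻¹ * b) = 0 := by
    intro a ha b hb h
    have h1 := Dm.mul R ha (hD a ha) (hD (a⁻¹ * b) (mul_mem (inv_mem ha) hb))
    rw [mul_inv_cancel_left] at h1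
    have h2 := D_unique R h1 (hD b hb)
    rw [← h] at h2
    simpa using h2
  -- `V₀ = {v : D v = 0}`
  have hD1 : D 1 = 0 := by
    have h := hDm 1 (one_mem _) 1 (one_mem _) rfl
    rwa [inv_one, one_mul] at h
  have hDmul : ∀ a ∈ SP X mQQ, ∀ b ∈ SP X mQQ, D (a * b) = D a + D b := fun a ha b hb =>
    D_unique R (hD _ (mul_mem ha hb)) (Dm.mul R ha (hD a ha) (hD b hb))
  obtain ⟨V0, hV0⟩ : ∃ V0 : Subgroup Y, ∀ v, v ∈ V0 ↔ v ∈ V ∧ D v = 0 := by
    refine ⟨{ carrier := {v | v ∈ V ∧ D v = 0}, mul_mem' := ?_, one_mem' := ⟨one_mem _, hD1⟩, inv_mem' := ?_ },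
      fun v => Iff.rfl⟩
    · rintro a b ⟨ha, ha'⟩ ⟨hb, hb'⟩
      exact ⟨mul_mem ha hb, by rw [hDmul a (hV ha) b (hV hb), ha', hb', add_zero]⟩
    · rintro a ⟨ha, ha'⟩
      refine ⟨inv_mem ha, ?_⟩
      have h1 := hDmul a (hV ha) a⁻¹ (inv_mem (hV ha))
      rw [mul_inv_cancel, hD1, ha', zero_add] at h1
      exact h1.symm
  have hV0V : V0 ≤ V := fun v hv => ((hV0 v).1 hv).1
  obtain ⟨B, hB⟩ : ∃ B : Set (Fin 4 → F), B = D '' (V : Set Y) := ⟨_, rfl⟩
  -- `|V| ≤ |B| |V₀|`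
  have c1 : Nat.card V ≤ Nat.card B * Nat.card V0 :=
    card_le_of_sep' hV0V (fun v => (⟨D v, by rw [hB]; exact ⟨v, v.2, rfl⟩⟩ : B)) fun a b h =>
      (hV0 _).2 ⟨mul_mem (inv_mem a.2) b.2, hDm a (hV a.2) b (hV b.2) (Subtype.ext_iff.1 h)⟩
  -- `|V₀| ≤ q |C_V(U)|`
  have c2 : Nat.card V0 ≤ Nat.card F * Nat.card ↥(V ⊓ Subgroup.centralizer (SP X mUl : Set Y)) := by
    have h1 : ∀ v : V0, ∃ x, ∃ q ∈ SP X mQl, (v : Y) = e 41 x * q := fun v =>
      cent_Js R (comm_of_D R (hD v (hV (hV0V v.2))) ((hV0 _).1 v.2).2)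
    choose φ q hq hφ using h1
    refine card_le_of_sep' ?_ φ fun a b h => ?_
    · rintro v ⟨hv, hv'⟩
      refine (hV0 v).2 ⟨hv, ?_⟩
      have h2 := hD v (hV hv)
      -- `v` centralises `e_29`
      have h3 := Subgroup.mem_centralizer_iff.1 hv' (e 29 1)
        (le_SP (by norm_num) (by decide +kernel) (R.e_mem (by norm_num) _))
      have h4 := (h2.2 1).2
      rw [commutatorElement_eq_one_iff_mul_comm.2 h3.symm] at h4
      have h5 := Fm.unique R h4 (Fm.one R)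
      funext i
      have h6 := congrFun h5 i.rev
      simpa using h6
    · refine Subgroup.mem_inf.2 ⟨mul_mem (inv_mem (hV0V a.2)) (hV0V b.2), ?_⟩
      have h2 : (a : Y)⁻¹ * b = (q a)⁻¹ * q b := by
        rw [hφ a, hφ b, h]; group
      rw [h2]
      refine Subgroup.mem_centralizer_iff.2 fun y hy => ?_
      exact comm_Ul_Ql R hy (mul_mem ((SP X mQl).inv_mem (hq a)) (hq b))
  -- coordinates `t` on `J_s`
  have hCu : ∀ c ∈ C, ∀ v ∈ V, v * c = c * v := fun c hc v hv => by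
    rw [hC] at hc
    exact Subgroup.mem_centralizer_iff.1 hc.2 v hv
  choose! T hT using fun j (hj : j ∈ SP X mJ0) => exists_Fm R hj
  have hJ : SP X mJs ≤ SP X mJ0 := SP_mono (by decide +kernel)
  have hTmul : ∀ a ∈ SP X mJ0, ∀ b ∈ SP X mJ0, T (a * b) = T a + T b := fun a ha b hb =>
    Fm.unique R (hT _ (mul_mem ha hb)) (Fm.mul R ha (hT a ha) (hT b hb))
  obtain ⟨Z, hZ⟩ : ∃ Z : Subgroup Y, Z = SP X mJs ⊓ SP X mUs := ⟨_, rfl⟩
  have hZJ : Z ≤ SP X mJs := by rw [hZ]; exact inf_le_left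
  have hZT : ∀ z ∈ Z, T z = 0 := fun z hz => by
    rw [hZ] at hz
    exact Fm.unique R (hT z (hJ hz.1)) (Fm_zero_of_Us R hz.2)
  have hZC : Z ≤ C := by
    intro z hz
    rw [hC]
    refine ⟨SP_mono (P := mJs) (by decide +kernel) (by rw [hZ] at hz; exact hz.1), ?_⟩
    refine Subgroup.mem_centralizer_iff.2 fun v hv => ?_
    have h1 := hD v (hV hv)
    have hz' : z ∈ SP X mJs := by rw [hZ] at hz; exact hz.1
    have h2 := h1.1 z hz' (T z) (hT z (hJ hz'))
    rw [hZT z hz] at h2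
    simp only [Pi.zero_apply, mul_zero, Finset.sum_const_zero] at h2
    rw [R.zero (by norm_num)] at h2
    exact commutatorElement_eq_one_iff_mul_comm.1 h2
  -- `|C| ≤ |B^⊥| |Z|`
  have c3 : Nat.card C ≤ Nat.card {t : Fin 4 → F | ∀ b ∈ B, ∑ i, b i * t i = 0} * Nat.card Z := by
    refine card_le_of_sep' hZC (fun c => (⟨T c, ?_⟩ : {t : Fin 4 → F | ∀ b ∈ B, ∑ i, b i * t i = 0})) fun a b h => ?_
    · rintro b hb
      rw [hB] at hb
      obtain ⟨v, hv, rfl⟩ := hb
      have hcJ := hCJ c.2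
      have h2 := (hD v (hV hv)).1 c hcJ (T c) (hT c (hJ hcJ))
      rw [commutatorElement_eq_one_iff_mul_comm.2 (hCu c c.2 v hv)] at h2
      exact R.inj 44 (by norm_num) _ h2.symm
    · have h1 : T a = T b := Subtype.ext_iff.1 h
      have haJ := hCJ a.2
      have hbJ := hCJ b.2
      have hm : (a : Y)⁻¹ * b ∈ SP X mJs := mul_mem (inv_mem haJ) hbJ
      have h2 := hTmul a (hJ haJ) ((a : Y)⁻¹ * b) (hJ hm)
      rw [mul_inv_cancel_left, h1] at h2
      have h3 : T ((a : Y)⁻¹ * b) = 0 := by simpa using h2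
      rw [hZ]
      exact ⟨hm, mem_Us R (hJ hm) (h3 ▸ hT _ (hJ hm))⟩
  -- `q⁴ |Z| ≤ |J_s|`
  have c4 : Nat.card F ^ 4 * Nat.card Z ≤ Nat.card (SP X mJs) := by
    have h1 : Nat.card (Fin 4 → F) = Nat.card F ^ 4 := by rw [Nat.card_fun, Nat.card_fin]
    choose jt hjt hjt' using fun t => exists_of_t R t
    rw [← h1, ← Nat.card_prod]
    refine Nat.card_le_card_of_injective (fun p : (Fin 4 → F) × Z =>
      (⟨jt p.1 * p.2, mul_mem (hjt _) (hZJ p.2.2)⟩ : SP X mJs)) ?_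
    rintro ⟨t, z⟩ ⟨t', z'⟩ h
    have h2 : jt t * (z : Y) = jt t' * z' := Subtype.ext_iff.1 h
    have hz : (z : Y) ∈ SP X mJ0 := hJ (hZJ z.2)
    have hz' : (z' : Y) ∈ SP X mJ0 := hJ (hZJ z'.2)
    have h3 : T (jt t * z) = T (jt t' * z') := by rw [h2]
    rw [hTmul _ (hJ (hjt t)) _ hz, hTmul _ (hJ (hjt t')) _ hz', hZT z z.2, hZT z' z'.2, add_zero, add_zero,
      Fm.unique R (hT _ (hJ (hjt t))) (hjt' t), Fm.unique R (hT _ (hJ (hjt t'))) (hjt' t')] at h3
    subst h3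
    rw [Subtype.ext (mul_left_cancel h2)]
  -- together
  have c5 := perp_card B
  have c6 := card R
  rw [card_X R (by norm_num)] at c6
  rw [← hC]
  calc Nat.card V * Nat.card C
      ≤ (Nat.card B * (Nat.card F * Nat.card ↥(V ⊓ Subgroup.centralizer (SP X mUl : Set Y)))) *
        (Nat.card {t : Fin 4 → F | ∀ b ∈ B, ∑ i, b i * t i = 0} * Nat.card Z) :=
        Nat.mul_le_mul (c1.trans (Nat.mul_le_mul_left _ c2)) c3
    _ = (Nat.card B * Nat.card {t : Fin 4 → F | ∀ b ∈ B, ∑ i, b i * t i = 0}) * (Nat.card F * Nat.card Z *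
        Nat.card ↥(V ⊓ Subgroup.centralizer (SP X mUl : Set Y))) := by ring
    _ ≤ Nat.card F ^ 4 * (Nat.card F * Nat.card Z *
        Nat.card ↥(V ⊓ Subgroup.centralizer (SP X mUl : Set Y))) := Nat.mul_le_mul_right _ c5
    _ = Nat.card F * (Nat.card F ^ 4 * Nat.card Z) *
        Nat.card ↥(V ⊓ Subgroup.centralizer (SP X mUl : Set Y)) := by ring
    _ ≤ Nat.card (SP X mUl) * Nat.card ↥(V ⊓ Subgroup.centralizer (SP X mUl : Set Y)) :=
        Nat.mul_le_mul_right _ ((Nat.mul_le_mul_left _ c4).trans c6)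

end Cfsg.Agent.KFacts.F4Off

end

-- merged: Cfsg.Agent.KFacts.F4RlInst
section

/-!
`F₄(q)`, `q ≥ 2` even: the two instances of `F4Rl.Rl` (K-group facts for OMEGA, NodeAll h1; F4).

* `eI`, `XI` : `e r t = e_{v r}(t)`; `rl : Rl (eI F) (XI F)`;
* `eD`, `XD` : the dual chart `e r t = e_{dual (v r)}(t)` (`r` short), `e_{dual (v r)}(√t)` (`r` long);
  `rlD : Rl (eD rt) (XD F)`;
* `SP_XI : SP (XI F) P = RGD.Sup (XF F) (SetOf P)`, `SP_XD : SP (XD F) P = SP (XI F) (dm P)`.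
-/

set_option autoImplicit false
set_option Elab.async false

namespace Cfsg.Agent.KFacts.F4RlInst

open CoxeterSystem Cfsg.Agent.ChevalleyStructure.CoxeterGeom Cfsg.Agent.Tits.Roots Cfsg.Agent.Tits.Core
open Cfsg.Lie Cfsg.Agent.ChevalleyStructure Cfsg.Agent.ChevalleyStructure.Elts
  Cfsg.Agent.ChevalleyStructure.RootVec Cfsg.Agent.ChevalleyStructure.CoxeterGeomTypes
open Cfsg.Agent.Nodes Cfsg.Agent.Nodes.Reps Cfsg.Agent.Nodes.BNOf Cfsg.Agent.Nodes.RGDChev Cfsg.Agent.Nodes.Coroot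
  Cfsg.Agent.Nodes.KindF Cfsg.Agent.KFacts.ChevTwo Cfsg.Agent.KFacts.ChevTwoTab
  Cfsg.Agent.KFacts.ChevTwoInst Cfsg.Agent.KFacts.F4Star Cfsg.Agent.KFacts.F4Cent Cfsg.Agent.KFacts.F4Pair
  Cfsg.Agent.KFacts.F4Torus Cfsg.Agent.KFacts.F4Model Cfsg.Agent.KFacts.F4Rl
open scoped commutatorElement

universe u

variable (F : Type u) [Field F] [Finite F] [CharP F 2]

/-- the root elements in index language -/
noncomputable def eI (r : ℕ) (t : F) : ↥(chevF4.group F) := eF F (v r) t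

/-- the root groups in index language -/
def XI (r : ℕ) : Subgroup ↥(chevF4.group F) := XF F (v r)

variable {F}

theorem phi_v {r : ℕ} (hr : r < 48) : v r ∈ Cfsg.Agent.OddHalf.D7F4.Model.Phi := (phi_iff cF _).2 (isRoot_v cF hr)

theorem B_long {r : ℕ} (hr : r < 48) :
    longM.testBit r = true ↔ Cfsg.Agent.OddHalf.D7F4.Model.B (v r) (v r) = 4 := by
  rw [testBit_long cF hr]
  exact lg_iff cF (phi_v hr)

theorem B_eq {r s : ℕ} (hr : r < 48) (hs : s < 48) (h : (longM.testBit r == longM.testBit s) = true) :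
    Cfsg.Agent.OddHalf.D7F4.Model.B (v r) (v r) = Cfsg.Agent.OddHalf.D7F4.Model.B (v s) (v s) := by
  have h1 := B_long hr
  have h2 := B_long hs
  rw [beq_iff_eq.1 h] at h1
  rcases Cfsg.Agent.OddHalf.D7F4.Model.norm _ (phi_v hr) with h3 | h3 <;>
    rcases Cfsg.Agent.OddHalf.D7F4.Model.norm _ (phi_v hs) with h4 | h4
  · rw [h3, h4]
  · exact absurd (h1.1 (h2.2 h4)) (by rw [h3]; norm_num)
  · exact absurd (h2.1 (h1.2 h3)) (by rw [h4]; norm_num)
  · rw [h3, h4]

theorem B_neg {r s : ℕ} (hr : r < 48) (hs : s < 48) (h : (!(nn r).testBit s) = true) :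
    Cfsg.Agent.OddHalf.D7F4.Model.B (v r) (v s) < 0 := by
  rw [Bool.not_eq_true'] at h
  by_contra h1
  rw [not_lt] at h1
  have h2 : (nn r).testBit s = true := by
    rw [testBit_nn cF hr hs, cpr_nonneg_iff cF (phi_v hs) (phi_v hr), Cfsg.Agent.OddHalf.D7F4.Model.B_symm]
    exact h1
  rw [h2] at h
  exact absurd h (by decide)

theorem lin_add {r s m : ℕ} (h : lin 1 m 1 r 1 s = true) : v m = v r + v s := by
  have := lin_sound h
  rwa [Nat.cast_one, one_smul, one_smul, one_smul] at this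

theorem lin_two {r s k : ℕ} (h : lin 1 k 1 r 2 s = true) : v k = v r + v s + v s := by
  have := lin_sound h
  rw [Nat.cast_one, one_smul, one_smul] at this
  rw [this, add_assoc, ← two_smul ℤ (v s)]
  rfl

theorem blt_iff {a b : ℕ} (h : Nat.blt a b = true) : a < b := by rwa [Nat.blt_eq] at h

omit [Finite F] [CharP F 2] in
theorem SP_XI (P : ℕ) : SP (XI F) P = RGD.Sup (XF F) (SetOf P) := by
  apply le_antisymm
  · exact SP_le fun r hr h => RGD.le_Sup (X := XF F) ((mem_SetOf hr).2 h)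
  · refine RGD.Sup_le ?_
    rintro _ ⟨r, hr, h, rfl⟩
    exact le_SP (X := XI F) hr h

theorem spanChk : (cml.all fun P => spanM P) = true := by decide +kernel

theorem cmI {P : ℕ} (hP : spanM P = true) {g : ↥(chevF4.group F)}
    (h : ∀ r < 48, P.testBit r = true → ∀ y ∈ XI F r, g * y = y * g) : g ∈ SP (XI F) (starM P) := by
  rw [SP_XI]
  refine cent_mask hP ?_
  rintro _ ⟨r, hr, h1, rfl⟩
  refine ⟨eF F (v r) 1, (mem_XF_iff cF (isRoot_v cF hr)).2 ⟨1, rfl⟩, fun h2 => one_ne_zero (e_eq_one (phi_v hr) h2), ?_⟩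
  exact h r hr h1 _ ((mem_XF_iff cF (isRoot_v cF hr)).2 ⟨1, rfl⟩)

theorem rl : Rl (eI F) (XI F) where
  mem r hr y := mem_XF_iff cF (isRoot_v cF hr)
  add r hr t u := (dat (K := F)).add (v r) (isRoot_v cF hr) t u
  inj r hr t h := e_eq_one (phi_v hr) h
  sep r hr s hs hrs t u h := by
    have h1 := ind (phi_v hr) (phi_v hs) (fun h0 => hrs (v_inj hr hs h0)) (eF F (v r) t)
      ((mem_XF_iff cF (isRoot_v cF hr)).2 ⟨t, rfl⟩) ((mem_XF_iff cF (isRoot_v cF hs)).2 ⟨u, h.symm⟩)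
    exact e_eq_one (phi_v hr) h1
  c0 r hr s hs h t u := by
    rw [testBit_nn cF hr hs, cpr_nonneg_iff cF (phi_v hs) (phi_v hr), Cfsg.Agent.OddHalf.D7F4.Model.B_symm] at h
    exact X0 (phi_v hr) (phi_v hs) h _ ((mem_XF_iff cF (isRoot_v cF hr)).2 ⟨t, rfl⟩) _
      ((mem_XF_iff cF (isRoot_v cF hs)).2 ⟨u, rfl⟩)
  c1 r s m h t u := by
    unfold a1 at h
    simp only [Bool.and_eq_true] at h
    obtain ⟨⟨⟨⟨⟨hr, hs⟩, hm⟩, h1⟩, h2⟩, h3⟩ := h
    have hr := blt_iff hr
    have hs := blt_iff hs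
    have hm := blt_iff hm
    have h4 := lin_add h3
    have h5 : v r ≠ -v s := by
      intro h0
      have h6 : v m = 0 := by rw [h4, h0, neg_add_cancel]
      have h7 := v_neg hm
      rw [h6, neg_zero, ← h6] at h7
      have h8 := v_inj (by omega) hm h7
      omega
    show ⁅eF F (v r) t, eF F (v s) u⁆ = eF F (v m) (t * u)
    rw [comm1 (phi_v hr) (phi_v hs) (B_eq hr hs h1) (B_neg hr hs h2) h5, h4]
  c2 r s m k h t u := by
    unfold a2 at h
    simp only [Bool.and_eq_true] at h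
    obtain ⟨⟨⟨⟨⟨⟨⟨⟨hr, hs⟩, hm⟩, hk⟩, h1⟩, h2⟩, h3⟩, h4⟩, h5⟩ := h
    have hr := blt_iff hr
    have hs := blt_iff hs
    have h6 : Cfsg.Agent.OddHalf.D7F4.Model.B (v r) (v r) = 4 := (B_long hr).1 h1
    have h7 : Cfsg.Agent.OddHalf.D7F4.Model.B (v s) (v s) = 2 := by
      rcases Cfsg.Agent.OddHalf.D7F4.Model.norm _ (phi_v hs) with h | h
      · exact h
      · rw [(B_long hs).2 h] at h2
        exact absurd h2 (by decide)
    have h8 : Cfsg.Agent.OddHalf.D7F4.Model.B (v r) (v s) = -2 := by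
      have h9 := B_neg hr hs h3
      rcases Cfsg.Agent.OddHalf.D7F4.Model.ls _ (phi_v hr) _ (phi_v hs) h6 h7 with h | h | h
      · exact h
      · omega
      · omega
    show ⁅eF F (v r) t, eF F (v s) u⁆ = eF F (v m) (t * u) * eF F (v k) (t * u ^ 2)
    rw [comm2 (phi_v hr) (phi_v hs) h6 h7 h8, lin_add h4, lin_two h5]
  cm P hP g h := cmI (List.all_eq_true.1 spanChk P hP) h

/-! ### The dual chart -/

/-- the duality on the indices -/
def dul : List ℕ := [3, 7, 8, 0, 9, 11, 18, 1, 2, 4, 15, 5, 16, 21, 23, 10, 12, 19, 6, 17, 22, 13, 20, 14, 33, 27, 34, 25,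
  30, 41, 28, 35, 37, 24, 26, 31, 42, 32, 43, 45, 46, 29, 36, 38, 47, 39, 40, 44]

def du (r : ℕ) : ℕ := dul.getD r 0

/-- the dual of a mask -/
def dm (P : ℕ) : ℕ := (List.range 48).foldl (fun acc r => if P.testBit r then Nat.lor acc (2 ^ du r) else acc) 0

theorem du_lt {r : ℕ} (hr : r < 48) : du r < 48 := by
  have h : ((List.range 48).all fun r => Nat.blt (du r) 48) = true := by decide +kernel
  exact blt_iff (List.all_eq_true.1 h r (List.mem_range.2 hr))

theorem du_du {r : ℕ} (hr : r < 48) : du (du r) = r := by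
  have h : ((List.range 48).all fun r => Nat.beq (du (du r)) r) = true := by decide +kernel
  exact Nat.eq_of_beq_eq_true (List.all_eq_true.1 h r (List.mem_range.2 hr))

theorem du_long {r : ℕ} (hr : r < 48) : longM.testBit (du r) = !longM.testBit r := by
  have h : ((List.range 48).all fun r => longM.testBit (du r) == !longM.testBit r) = true := by decide +kernel
  exact beq_iff_eq.1 (List.all_eq_true.1 h r (List.mem_range.2 hr))

theorem du_nn {r s : ℕ} (hr : r < 48) (hs : s < 48) : (nn (du r)).testBit (du s) = (nn r).testBit s := by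
  have h : ((List.range 48).all fun r => (List.range 48).all fun s =>
    (nn (du r)).testBit (du s) == (nn r).testBit s) = true := by decide +kernel
  exact beq_iff_eq.1 (List.all_eq_true.1 (List.all_eq_true.1 h r (List.mem_range.2 hr)) s (List.mem_range.2 hs))

theorem du_a1chk : ((List.range 48).all fun r => (List.range 48).all fun s =>
    (nn r).testBit s || !(longM.testBit r == longM.testBit s) || (List.range 48).all fun m =>
      !(lin 1 m 1 r 1 s) || lin 1 (du m) 1 (du r) 1 (du s)) = true := by decide +kernel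

theorem du_a2chk : ((List.range 48).all fun r => !longM.testBit r || (List.range 48).all fun s =>
    (nn r).testBit s || longM.testBit s || (List.range 48).all fun m =>
      (!(lin 1 m 1 r 1 s) || lin 1 (du m) 1 (du s) 2 (du r)) && (!(lin 1 m 1 r 2 s) || lin 1 (du m) 1 (du s) 1 (du r))) =
    true := by decide +kernel

theorem nn_symm {r s : ℕ} (hr : r < 48) (hs : s < 48) : (nn r).testBit s = (nn s).testBit r := by
  have h : ((List.range 48).all fun r => (List.range 48).all fun s => (nn r).testBit s == (nn s).testBit r) = true := by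
    decide +kernel
  exact beq_iff_eq.1 (List.all_eq_true.1 (List.all_eq_true.1 h r (List.mem_range.2 hr)) s (List.mem_range.2 hs))

theorem blt_of {a b : ℕ} (h : a < b) : Nat.blt a b = true := by rwa [Nat.blt_eq]

theorem du_a1 {r s m : ℕ} (h : a1 r s m = true) : a1 (du r) (du s) (du m) = true := by
  unfold a1 at h
  simp only [Bool.and_eq_true] at h
  obtain ⟨⟨⟨⟨⟨hr, hs⟩, hm⟩, h1⟩, h2⟩, h3⟩ := h
  have hr := blt_iff hr
  have hs := blt_iff hs
  have hm := blt_iff hm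
  have h4 := List.all_eq_true.1 (List.all_eq_true.1 du_a1chk r (List.mem_range.2 hr)) s (List.mem_range.2 hs)
  rw [Bool.not_eq_true'] at h2
  rw [h2, h1] at h4
  have h5 := List.all_eq_true.1 h4 m (List.mem_range.2 hm)
  rw [h3] at h5
  unfold a1
  simp only [Bool.and_eq_true]
  refine ⟨⟨⟨⟨⟨blt_of (du_lt hr), blt_of (du_lt hs)⟩, blt_of (du_lt hm)⟩, ?_⟩, ?_⟩, h5⟩
  · rw [du_long hr, du_long hs, beq_iff_eq.1 h1]
    exact beq_self_eq_true _
  · rw [du_nn hr hs, h2]; rfl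

theorem du_a2 {r s m k : ℕ} (h : a2 r s m k = true) : a2 (du s) (du r) (du k) (du m) = true := by
  unfold a2 at h
  simp only [Bool.and_eq_true] at h
  obtain ⟨⟨⟨⟨⟨⟨⟨⟨hr, hs⟩, hm⟩, hk⟩, h1⟩, h2⟩, h3⟩, h4⟩, h5⟩ := h
  have hr := blt_iff hr
  have hs := blt_iff hs
  have hm := blt_iff hm
  have hk := blt_iff hk
  have h6 := List.all_eq_true.1 du_a2chk r (List.mem_range.2 hr)
  rw [h1] at h6
  have h7 := List.all_eq_true.1 h6 s (List.mem_range.2 hs)
  rw [Bool.not_eq_true'] at h2 h3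
  rw [h2, h3] at h7
  have h8 := List.all_eq_true.1 h7 m (List.mem_range.2 hm)
  have h9 := List.all_eq_true.1 h7 k (List.mem_range.2 hk)
  rw [Bool.and_eq_true] at h8 h9
  have h10 := h8.1
  have h11 := h9.2
  rw [h4] at h10
  rw [h5] at h11
  unfold a2
  simp only [Bool.and_eq_true]
  refine ⟨⟨⟨⟨⟨⟨⟨⟨blt_of (du_lt hs), blt_of (du_lt hr)⟩, blt_of (du_lt hk)⟩, blt_of (du_lt hm)⟩, ?_⟩, ?_⟩, ?_⟩, h11⟩, h10⟩
  · rw [du_long hs, h2]; rfl
  · rw [du_long hr, h1]; rfl
  · rw [du_nn hs hr, nn_symm hs hr, h3]; rfl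

theorem lenChk1 : ((List.range 48).all fun r => (List.range 48).all fun s =>
    (nn r).testBit s || !(longM.testBit r == longM.testBit s) || (List.range 48).all fun m =>
      !(lin 1 m 1 r 1 s) || (longM.testBit m == longM.testBit r)) = true := by decide +kernel

theorem lenChk2 : ((List.range 48).all fun r => !longM.testBit r || (List.range 48).all fun s =>
    (nn r).testBit s || longM.testBit s || (List.range 48).all fun m =>
      (!(lin 1 m 1 r 1 s) || !longM.testBit m) && (!(lin 1 m 1 r 2 s) || longM.testBit m)) = true := by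
  decide +kernel

theorem dmChk : (cml.all fun P => spanM (dm P) && Nat.beq (starM (dm P)) (dm (starM P))) = true := by decide +kernel

theorem lor_fold (P : ℕ) (L : List ℕ) : ∀ (i s : ℕ),
    (L.foldl (fun acc r => if P.testBit r then Nat.lor acc (2 ^ du r) else acc) i).testBit s = true ↔
      i.testBit s = true ∨ ∃ r ∈ L, P.testBit r = true ∧ du r = s := by
  induction L with
  | nil => intro i s; simp
  | cons a L ih =>
    intro i s
    rw [List.foldl_cons, ih]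
    have e1 : ∀ x y : ℕ, Nat.lor x y = x ||| y := fun _ _ => rfl
    by_cases ha : P.testBit a = true
    · rw [if_pos ha, e1, Nat.testBit_lor, Bool.or_eq_true, Nat.testBit_two_pow, decide_eq_true_iff]
      constructor
      · rintro ((h | h) | ⟨r, hr, h⟩)
        · exact Or.inl h
        · exact Or.inr ⟨a, List.mem_cons_self, ha, h⟩
        · exact Or.inr ⟨r, List.mem_cons_of_mem _ hr, h⟩
      · rintro (h | ⟨r, hr, h1, h2⟩)
        · exact Or.inl (Or.inl h)
        · rcases List.mem_cons.1 hr with rfl | hr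
          · exact Or.inl (Or.inr h2)
          · exact Or.inr ⟨r, hr, h1, h2⟩
    · rw [if_neg ha]
      constructor
      · rintro (h | ⟨r, hr, h⟩)
        · exact Or.inl h
        · exact Or.inr ⟨r, List.mem_cons_of_mem _ hr, h⟩
      · rintro (h | ⟨r, hr, h1, h2⟩)
        · exact Or.inl h
        · rcases List.mem_cons.1 hr with rfl | hr
          · exact absurd h1 ha
          · exact Or.inr ⟨r, hr, h1, h2⟩

theorem testBit_dm {P s : ℕ} : (dm P).testBit s = true ↔ ∃ r < 48, P.testBit r = true ∧ du r = s := by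
  unfold dm
  rw [lor_fold, Nat.zero_testBit]
  simp only [List.mem_range, Bool.false_eq_true, false_or]

variable (F) in
/-- the root groups of the dual chart -/
def XD (r : ℕ) : Subgroup ↥(chevF4.group F) := XI F (du r)

omit [Finite F] [CharP F 2] in
theorem SP_XD (P : ℕ) : SP (XD F) P = SP (XI F) (dm P) := by
  apply le_antisymm
  · exact SP_le fun r hr h => le_SP (X := XI F) (du_lt hr) (testBit_dm.2 ⟨r, hr, h, rfl⟩)
  · refine SP_le fun s hs h => ?_
    obtain ⟨r, hr, h1, rfl⟩ := testBit_dm.1 h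
    exact le_SP (X := XD F) hr h1

/-- the root elements of the dual chart -/
noncomputable def eD (rt : F ≃+* F) (r : ℕ) (t : F) : ↥(chevF4.group F) :=
  if longM.testBit r = true then eI F (du r) (rt t) else eI F (du r) t

omit [Finite F] in
theorem exists_rt [Finite F] : ∃ rt : F ≃+* F, ∀ t, rt t ^ 2 = t := by
  have h1 : Function.Bijective (frobenius F 2) :=
    ⟨frobenius_inj F 2, Finite.surjective_of_injective (frobenius_inj F 2)⟩
  refine ⟨(RingEquiv.ofBijective (frobenius F 2) h1).symm, fun t => ?_⟩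
  exact (RingEquiv.ofBijective (frobenius F 2) h1).apply_symm_apply t

section

variable {rt : F ≃+* F}

omit [Finite F] [CharP F 2] in
theorem eD_long {r : ℕ} (h : longM.testBit r = true) (t : F) : eD rt r t = eI F (du r) (rt t) := if_pos h

omit [Finite F] [CharP F 2] in
theorem eD_short {r : ℕ} (h : longM.testBit r = false) (t : F) : eD rt r t = eI F (du r) t :=
  if_neg (by rw [h]; decide)

theorem rlD (hrt : ∀ t, rt t ^ 2 = t) : Rl (eD rt) (XD F) where
  mem r hr y := by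
    have h1 := (rl (F := F)).mem (du r) (du_lt hr) y
    show y ∈ XI F (du r) ↔ _
    rw [h1]
    cases h : longM.testBit r
    · simp only [eD_short h]
    · simp only [eD_long h]
      constructor
      · rintro ⟨t, rfl⟩
        exact ⟨rt.symm t, by rw [RingEquiv.apply_symm_apply]⟩
      · rintro ⟨t, rfl⟩
        exact ⟨rt t, rfl⟩
  add r hr t u := by
    cases h : longM.testBit r
    · simp only [eD_short h]; exact rl.add _ (du_lt hr) t u
    · simp only [eD_long h, map_add]; exact rl.add _ (du_lt hr) _ _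
  inj r hr t h1 := by
    cases h : longM.testBit r
    · rw [eD_short h] at h1; exact rl.inj _ (du_lt hr) t h1
    · rw [eD_long h] at h1
      exact (map_eq_zero_iff rt rt.injective).1 (rl.inj _ (du_lt hr) _ h1)
  sep r hr s hs hrs t u h1 := by
    have hne : du r ≠ du s := fun h0 => hrs (by rw [← du_du hr, ← du_du hs, h0])
    have key : ∀ t' u', eI F (du r) t' = eI F (du s) u' → t' = 0 := fun t' u' h =>
      rl.sep _ (du_lt hr) _ (du_lt hs) hne t' u' h
    cases h : longM.testBit r <;> cases h' : longM.testBit s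
    · rw [eD_short h, eD_short h'] at h1; exact key _ _ h1
    · rw [eD_short h, eD_long h'] at h1; exact key _ _ h1
    · rw [eD_long h, eD_short h'] at h1; exact (map_eq_zero_iff rt rt.injective).1 (key _ _ h1)
    · rw [eD_long h, eD_long h'] at h1; exact (map_eq_zero_iff rt rt.injective).1 (key _ _ h1)
  c0 r hr s hs h0 t u := by
    have key : ∀ t' u', eI F (du r) t' * eI F (du s) u' = eI F (du s) u' * eI F (du r) t' := fun t' u' =>
      rl.c0 _ (du_lt hr) _ (du_lt hs) (by rw [du_nn hr hs, h0]) t' u'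
    unfold eD
    split_ifs <;> exact key _ _
  c1 r s m h t u := by
    have h1 := du_a1 h
    unfold a1 at h
    simp only [Bool.and_eq_true] at h
    obtain ⟨⟨⟨⟨⟨hr, hs⟩, hm⟩, h2⟩, h3⟩, h4⟩ := h
    have h5 : longM.testBit m = longM.testBit r := by
      have h7 := List.all_eq_true.1 (List.all_eq_true.1 lenChk1 r (List.mem_range.2 (blt_iff hr))) s
        (List.mem_range.2 (blt_iff hs))
      rw [Bool.not_eq_true'] at h3
      rw [h3, h2] at h7
      have h8 := List.all_eq_true.1 h7 m (List.mem_range.2 (blt_iff hm))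
      rw [h4] at h8
      exact beq_iff_eq.1 h8
    have h6 := beq_iff_eq.1 h2
    cases h7 : longM.testBit r
    · rw [eD_short h7, eD_short (h6 ▸ h7), eD_short (h5.trans h7)]
      exact rl.c1 _ _ _ h1 t u
    · rw [eD_long h7, eD_long (h6 ▸ h7), eD_long (h5.trans h7), map_mul]
      exact rl.c1 _ _ _ h1 _ _
  c2 r s m k h t u := by
    have h1 := du_a2 h
    have h0 := h
    unfold a2 at h
    simp only [Bool.and_eq_true] at h
    obtain ⟨⟨⟨⟨⟨⟨⟨⟨hr, hs⟩, hm⟩, hk⟩, h2⟩, h3⟩, h4⟩, h5⟩, h6⟩ := h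
    have h1' := h1
    unfold a2 at h1'
    simp only [Bool.and_eq_true] at h1'
    obtain ⟨⟨⟨⟨⟨⟨⟨⟨hr', hs'⟩, hm'⟩, hk'⟩, h2'⟩, h3'⟩, h4'⟩, h5'⟩, h6'⟩ := h1'
    have h8 : longM.testBit m = false ∧ longM.testBit k = true := by
      have h7 := List.all_eq_true.1 lenChk2 r (List.mem_range.2 (blt_iff hr))
      rw [h2] at h7
      have h8 := List.all_eq_true.1 h7 s (List.mem_range.2 (blt_iff hs))
      rw [Bool.not_eq_true'] at h3 h4
      rw [h3, h4] at h8
      have h9 := List.all_eq_true.1 h8 m (List.mem_range.2 (blt_iff hm))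
      have h10 := List.all_eq_true.1 h8 k (List.mem_range.2 (blt_iff hk))
      rw [Bool.and_eq_true] at h9 h10
      have h11 := h9.1
      have h12 := h10.2
      rw [h5] at h11
      rw [h6] at h12
      refine ⟨?_, h12⟩
      simpa using h11
    have h9 : (longM.testBit s) = false := by simpa using h3
    have hm := blt_iff hm
    have hk := blt_iff hk
    rw [eD_long h2, eD_short h9, eD_short h8.1, eD_long h8.2, ← commutatorElement_inv,
      rl.c2 _ _ _ _ h1, mul_inv_rev, rl.inv (du_lt hm), rl.inv (du_lt hk), hrt, map_mul, mul_comm u t,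
      mul_comm u (rt t)]
    have h10 : rt (u ^ 2) = u := by
      have h11 : (rt (u ^ 2) - u) ^ 2 = 0 := by
        have h12 : (rt (u ^ 2) - u) ^ 2 = rt (u ^ 2) ^ 2 - u ^ 2 := sub_pow_char _ _
        rw [h12, hrt, sub_self]
      exact sub_eq_zero.1 (pow_eq_zero_iff two_ne_zero |>.1 h11)
    rw [h10]
  cm P hP g h := by
    have h1 := List.all_eq_true.1 dmChk P hP
    rw [Bool.and_eq_true] at h1
    rw [SP_XD, ← Nat.eq_of_beq_eq_true h1.2]
    refine cmI h1.1 fun s hs h2 y hy => ?_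
    obtain ⟨r, hr, h3, rfl⟩ := testBit_dm.1 h2
    exact h r hr h3 y hy

end

end Cfsg.Agent.KFacts.F4RlInst

end

-- merged: Cfsg.Agent.Mrg.Omega.HOneEnd.FFourGlue
section

/-!
# `FFourDat` for `F₄(q)`, `q` even: the charts for both orders of the dominant roots

`Cht r s e X` : a chart `F4Rl.Rl e X` with `47 ↔ r`, `44 ↔ s`; `exists_cht`.  The `l`-side fields of `FFourDat` for
`(s, r)`: `comm0`, `commJ`, `lt_J`, `lt_J'`, `two`, `cenU`, and the fields of `Offer` except `card`, `off`.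
-/

set_option autoImplicit false
set_option Elab.async false
set_option linter.unusedSectionVars false

namespace Cfsg.Agent.Omega.HOneEnd.FFour

open CoxeterSystem Cfsg.Agent.ChevalleyStructure.CoxeterGeom Cfsg.Agent.Tits.Roots Cfsg.Agent.Tits.Core
open Cfsg Cfsg.Lie Cfsg.Agent.ChevalleyStructure Cfsg.Agent.ChevalleyStructure.Elts
  Cfsg.Agent.ChevalleyStructure.RootVec Cfsg.Agent.ChevalleyStructure.CoxeterGeomTypes
open Cfsg.Agent.Nodes Cfsg.Agent.Nodes.Reps Cfsg.Agent.Nodes.BNOf Cfsg.Agent.Nodes.RGDChev Cfsg.Agent.Nodes.Coroot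
  Cfsg.Agent.Nodes.KindF Cfsg.Agent.KFacts.ChevTwo Cfsg.Agent.KFacts.ChevTwoTab
  Cfsg.Agent.KFacts.ChevTwoInst Cfsg.Agent.KFacts.RgdTI Cfsg.Agent.KFacts.RgdOdd
  Cfsg.Agent.KFacts.F4Star Cfsg.Agent.KFacts.F4Cent Cfsg.Agent.KFacts.F4Pair Cfsg.Agent.KFacts.F4Torus
open Cfsg.Agent.KFacts.F4Rl Cfsg.Agent.KFacts.F4RlInst
open Cfsg.Agent.KFacts.F4Side (mQQ mQl mQs mUl mUs mJs mJl mJ0 mPo)
open Subgroup Cfsg.Agent.ZN Cfsg.Agent.Omega.All.HOne
open Cfsg.Agent.Omega.FrameNOFF (CZ)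
open scoped commutatorElement

universe u v

variable {K : Type v} [Field K] [Finite K] [CharP K 2] {G : Type u} [Group G] {j : ↥(chevF4.group K) →* G}

/-! ### The charts -/

/-- a chart with `47 ↔ r`, `44 ↔ s` -/
structure Cht (r s : Fin 4 → ℤ) (e : ℕ → K → ↥(chevF4.group K)) (X : ℕ → Subgroup ↥(chevF4.group K)) : Prop where
  rl : Rl e X
  X47 : X 47 = XF K r
  X44 : X 44 = XF K s
  Ql : SP X mQl = RGD.Sup (XF K) (Rad cF isType.isCartan r)
  Qs : SP X mQs = RGD.Sup (XF K) (Rad cF isType.isCartan s)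
  Ul : SP X mUl = RGD.Sup (XF K) (V7 cF r)
  Us : SP X mUs = RGD.Sup (XF K) (V7 cF s)
  Js : SP X mJs = RGD.Sup (XF K) (V7 cF r ∩ Rad cF isType.isCartan s)
  Jl : SP X mJl = RGD.Sup (XF K) (V7 cF s ∩ Rad cF isType.isCartan r)
  Po : SP X mPo = RGD.Sup (XF K) (RGD.Pos cF isType.isCartan)
  GG : SP X (nn 44 &&& nn 47) =
    RGD.Sup (XF K) (Ge cF isType.isCartan (v 47) ∩ Ge cF isType.isCartan (v 44))

theorem setOf_pp {a : ℕ} (ha : a < 48) : SetOf (pp a) = Rad cF isType.isCartan (v a) := by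
  ext x
  constructor
  · rintro ⟨c, hc, h, rfl⟩
    exact (mem_rad_v ha hc).2 h
  · intro hx
    obtain ⟨c, hc, rfl⟩ := exists_v cF hx.1
    exact ⟨c, hc, (mem_rad_v ha hc).1 hx, rfl⟩

theorem setOf_v7 {a : ℕ} (ha : a < 48) : SetOf (v7M a) = V7 cF (v a) := by
  ext x
  constructor
  · rintro ⟨c, hc, h, rfl⟩
    exact (mem_v7_v ha hc).2 h
  · intro hx
    obtain ⟨c, hc, rfl⟩ := exists_v cF hx.1
    exact ⟨c, hc, (mem_v7_v ha hc).1 hx, rfl⟩

theorem setOf_and {P Q : ℕ} : SetOf (P &&& Q) = SetOf P ∩ SetOf Q := by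
  ext x
  constructor
  · rintro ⟨c, hc, h, rfl⟩
    rw [Nat.testBit_and, Bool.and_eq_true] at h
    exact ⟨⟨c, hc, h.1, rfl⟩, ⟨c, hc, h.2, rfl⟩⟩
  · rintro ⟨⟨c, hc, h, rfl⟩, ⟨d, hd, h', e⟩⟩
    refine ⟨c, hc, ?_, rfl⟩
    rw [v_inj hd hc e] at h'
    rw [Nat.testBit_and, h, h']; rfl

theorem setOf_gg : SetOf (nn 44 &&& nn 47) = Ge cF isType.isCartan (v 47) ∩ Ge cF isType.isCartan (v 44) := by
  ext x
  constructor
  · rintro ⟨c, hc, h, rfl⟩
    rw [Nat.testBit_and, Bool.and_eq_true] at h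
    exact ⟨(Cfsg.Agent.KFacts.F4Perf.mem_Ge_v cF (by norm_num) hc).2 h.2, (Cfsg.Agent.KFacts.F4Perf.mem_Ge_v cF (by norm_num) hc).2 h.1⟩
  · intro hx
    obtain ⟨c, hc, rfl⟩ := exists_v cF hx.1.1
    refine ⟨c, hc, ?_, rfl⟩
    rw [Nat.testBit_and, Bool.and_eq_true]
    exact ⟨(Cfsg.Agent.KFacts.F4Perf.mem_Ge_v cF (by norm_num) hc).1 hx.2, (Cfsg.Agent.KFacts.F4Perf.mem_Ge_v cF (by norm_num) hc).1 hx.1⟩

theorem cht_std : Cht (K := K) (v 47) (v 44) (eI K) (XI K) where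
  rl := rl
  X47 := rfl
  X44 := rfl
  Ql := by rw [SP_XI, show mQl = pp 47 by decide +kernel, setOf_pp (by norm_num)]
  Qs := by rw [SP_XI, show mQs = pp 44 by decide +kernel, setOf_pp (by norm_num)]
  Ul := by rw [SP_XI, show mUl = v7M 47 by decide +kernel, setOf_v7 (by norm_num)]
  Us := by rw [SP_XI, show mUs = v7M 44 by decide +kernel, setOf_v7 (by norm_num)]
  Js := by
    rw [SP_XI, show mJs = v7M 47 &&& pp 44 by decide +kernel, setOf_and, setOf_v7 (by norm_num), setOf_pp (by norm_num)]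
  Jl := by
    rw [SP_XI, show mJl = v7M 44 &&& pp 47 by decide +kernel, setOf_and, setOf_v7 (by norm_num), setOf_pp (by norm_num)]
  Po := by rw [SP_XI, show mPo = 2 ^ 48 - 2 ^ 24 by decide +kernel, Cfsg.Agent.KFacts.F4Perf.SetOf_pos cF]
  GG := by rw [SP_XI, setOf_gg]

theorem cht_dual {rt : K ≃+* K} (hrt : ∀ t, rt t ^ 2 = t) : Cht (K := K) (v 44) (v 47) (eD rt) (XD K) where
  rl := rlD hrt
  X47 := by
    show XI K (du 47) = _
    rw [show du 47 = 44 by decide +kernel]; rfl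
  X44 := by
    show XI K (du 44) = _
    rw [show du 44 = 47 by decide +kernel]; rfl
  Ql := by rw [SP_XD, show dm mQl = mQs by decide +kernel, cht_std.Qs]
  Qs := by rw [SP_XD, show dm mQs = mQl by decide +kernel, cht_std.Ql]
  Ul := by rw [SP_XD, show dm mUl = mUs by decide +kernel, cht_std.Us]
  Us := by rw [SP_XD, show dm mUs = mUl by decide +kernel, cht_std.Ul]
  Js := by rw [SP_XD, show dm mJs = mJl by decide +kernel, cht_std.Jl]
  Jl := by rw [SP_XD, show dm mJl = mJs by decide +kernel, cht_std.Js]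
  Po := by rw [SP_XD, show dm mPo = mPo by decide +kernel, cht_std.Po]
  GG := by rw [SP_XD, show dm (nn 44 &&& nn 47) = nn 44 &&& nn 47 by decide +kernel, cht_std.GG]

theorem exists_cht {r s : Fin 4 → ℤ} (hr : Dom r) (hs : Dom s) (hrs : r ≠ s) :
    ∃ e X, Cht (K := K) r s e X := by
  rcases hr with rfl | rfl <;> rcases hs with rfl | rfl
  · exact absurd rfl hrs
  · exact ⟨_, _, cht_std⟩
  · obtain ⟨rt, hrt⟩ := Cfsg.Agent.KFacts.F4RlInst.exists_rt (F := K)
    exact ⟨_, _, cht_dual hrt⟩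
  · exact absurd rfl hrs

/-! ### The fields -/

section Fields

variable (hj : Function.Injective j) {r s : Fin 4 → ℤ} {e : ℕ → K → ↥(chevF4.group K)}
  {X : ℕ → Subgroup ↥(chevF4.group K)} (C : Cht (K := K) r s e X)

include hj C

theorem QQ_eqC : QG j s ⊔ QG j r = (SP X mQQ).map j := by
  unfold QG SG
  rw [← C.Ql, ← C.Qs, ← Subgroup.map_sup, Cfsg.Agent.KFacts.F4Two.sup_QQ]

theorem J_eqC : UG j r ⊓ QG j s = (SP X mJs).map j := by
  unfold UG QG SG
  rw [← C.Ul, ← C.Qs, ← Subgroup.map_inf _ _ j hj, Cfsg.Agent.KFacts.F4Two.inf_Js C.rl]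

theorem J0_eqC : QG j s ⊓ QG j r = (SP X mJ0).map j := by
  unfold QG SG
  rw [← C.Ql, ← C.Qs, ← Subgroup.map_inf _ _ j hj, Cfsg.Agent.KFacts.F4Two.inf_J0 C.rl]

theorem Z_eqC : XG j s ⊔ XG j r = (SP X (2 ^ 44 + 2 ^ 47)).map j := by
  unfold XG
  rw [← C.X47, ← C.X44, ← Subgroup.map_sup, Cfsg.Agent.KFacts.F4Two.sup_Z]

theorem X_le_U : XG j s ≤ UG j r := by
  unfold XG UG SG
  rw [← C.X44, ← C.Ul]
  exact map_mono (le_SP (by norm_num) (by decide +kernel))

theorem comm0 : ⁅QG j s ⊔ QG j r, QG j s ⊔ QG j r⁆ = QG j s ⊓ QG j r := by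
  rw [QQ_eqC hj C, J0_eqC hj C, ← map_commutator, Cfsg.Agent.KFacts.F4Two.comm0 C.rl]

theorem commJ : ⁅UG j r ⊓ QG j s, QG j s ⊔ QG j r⁆ = XG j s := by
  rw [QQ_eqC hj C, J_eqC hj C, ← map_commutator, Cfsg.Agent.KFacts.F4Two.commJs C.rl, C.X44]
  rfl

theorem map_lt {A B : Subgroup ↥(chevF4.group K)} (h : A < B) : A.map j < B.map j := by
  refine lt_of_le_of_ne (map_mono h.le) fun h1 => h.ne (map_injective hj h1)

theorem lt_J : XG j s ⊔ XG j r < UG j r ⊓ QG j s := by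
  rw [Z_eqC hj C, J_eqC hj C]
  exact map_lt hj C (Cfsg.Agent.KFacts.F4Two.lt_Js C.rl)

theorem lt_J' : UG j r ⊓ QG j s < QG j s ⊓ QG j r := by
  rw [J_eqC hj C, J0_eqC hj C]
  exact map_lt hj C (Cfsg.Agent.KFacts.F4Two.Js_lt C.rl)

theorem cenU : (QG j s ⊔ QG j r) ⊓ centralizer (UG j r : Set G) ≤ QG j r := by
  rw [QQ_eqC hj C]
  unfold UG QG SG
  rw [← C.Ul, ← C.Ql]
  rintro _ ⟨⟨x, hx, rfl⟩, hc⟩
  refine ⟨x, Cfsg.Agent.KFacts.F4Side.mem_Ql C.rl fun y hy => hj ?_, rfl⟩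
  rw [map_mul, map_mul]
  exact ((mem_centralizer_iff.1 hc) _ ⟨y, hy, rfl⟩).symm

/-- `Q_r ≤ C(U_r)` -/
theorem Q_le_C : QG j r ≤ centralizer (UG j r : Set G) := by
  unfold UG QG SG
  rw [← C.Ul, ← C.Ql]
  rintro _ ⟨x, hx, rfl⟩
  rw [mem_centralizer_iff]
  rintro _ ⟨y, hy, rfl⟩
  rw [← map_mul, ← map_mul, Cfsg.Agent.KFacts.F4Side.comm_Ul_Ql C.rl hy hx]

theorem two' {e' : ℕ → K → ↥(chevF4.group K)} {X' : ℕ → Subgroup ↥(chevF4.group K)} (C' : Cht (K := K) s r e' X')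
    {T : Subgroup G} (h1 : XG j s ⊔ XG j r < T) (h2 : T < QG j s ⊓ QG j r)
    (hn : SG j (Ge cF isType.isCartan (v 47) ∩ Ge cF isType.isCartan (v 44)) ≤ normalizer (T : Set G)) :
    T = UG j r ⊓ QG j s ∨ T = UG j s ⊓ QG j r := by
  have hJl : UG j s ⊓ QG j r = (SP X mJl).map j := by
    rw [J_eqC hj C', C'.Js, C.Jl]
  rw [Z_eqC hj C] at h1
  rw [J0_eqC hj C] at h2
  rw [J_eqC hj C, hJl]
  have hTr : T ≤ j.range := h2.le.trans (map_le_range j _)
  have hTm : (T.comap j).map j = T := map_comap_eq_self hTr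
  have hp : IsPGroup 2 (SP X mPo) := by
    rw [C.Po]
    exact (rgd (K := K) isType cF 2).isPGroup_Upos
  have h3 := Cfsg.Agent.KFacts.F4Two.two C.rl hp (T := T.comap j) (fun h => ?_) ?_ ?_ ?_
  · rcases h3 with h3 | h3 | h3
    · left; rw [← hTm, h3]
    · right; rw [← hTm, h3]
    · exfalso
      rw [← hTm, h3] at h2
      exact lt_irrefl _ h2
  · have h4 := map_mono (f := j) h
    rw [hTm] at h4
    exact absurd h1 (not_lt_of_ge h4)
  · intro x hx
    exact h1.le ⟨x, hx, rfl⟩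
  · intro x hx
    obtain ⟨y, hy, e⟩ := h2.le hx
    rw [← hj e]
    exact hy
  · intro g hg t ht
    rw [C.GG] at hg
    rw [mem_comap, map_mul, map_mul, map_inv]
    exact (mem_normalizer_iff.1 (hn ⟨g, hg, rfl⟩) (j t)).1 ht

theorem card_map (A : Subgroup ↥(chevF4.group K)) : Nat.card (A.map j) = Nat.card A :=
  card_map_of_injective hj

/-- **The field `offer`.** -/
theorem offer [Finite G] (hr : Dom r) (hs : Dom s) :
    Offer (SG j (RGD.Pos cF isType.isCartan)) (QG j s ⊔ QG j r) (UG j r) (UG j r ⊓ QG j s) (XG j s) (UG j s) := by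
  have hQ : QG j s ⊔ QG j r ≤ SG j (RGD.Pos cF isType.isCartan) := sup_le (SG_mono hs.rad_sub) (SG_mono hr.rad_sub)
  have hJC : ∀ v : ↥(chevF4.group K), j v ∈ centralizer ((UG j r ⊓ QG j s : Subgroup G) : Set G) →
      ∀ y ∈ SP X mJs, v * y = y * v := by
    intro v hv y hy
    apply hj
    rw [map_mul, map_mul]
    refine ((mem_centralizer_iff.1 hv) _ ?_).symm
    rw [SetLike.mem_coe, J_eqC hj C]
    exact ⟨y, hy, rfl⟩
  refine
    { U_el := SG_el (fun x hx => hx.1) fun x hx y hy => hr.v7_comm hx (v7_sub_rad hr.root hy)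
      U_S₀ := SG_mono ((v7_sub_rad hr.root).trans hr.rad_sub)
      QQ_S₀ := hQ
      QQ_U := ?_
      J_U := inf_le_left
      comm := ?_
      fix := ?_
      card := ?_
      off := ?_
      triv := ?_
      fin := ?_ }
  · rw [QQ_eqC hj C]
    unfold UG SG
    rw [← C.Ul]
    rintro _ ⟨x, hx, rfl⟩
    exact map_mem_normalizer (C.rl.norm_SP (P := mQQ) (N := mUl) (by decide +kernel) hx)
  · intro y hy v hv
    rw [J_eqC hj C] at hy
    rw [QQ_eqC hj C] at hv
    obtain ⟨y, hy, rfl⟩ := hy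
    obtain ⟨v, hv, rfl⟩ := hv
    have h1 := Cfsg.Agent.KFacts.F4Form.comm_Js C.rl hy hv
    rw [C.X44] at h1
    exact ⟨_, h1, by rw [commutatorElement_def, map_mul, map_mul, map_mul, map_inv, map_inv]⟩
  · intro v hv hvc u hu huv
    rw [QQ_eqC hj C] at hv
    obtain ⟨v, hv, rfl⟩ := hv
    have hu' := hu
    unfold UG SG at hu'
    rw [← C.Ul] at hu'
    obtain ⟨u, hu', rfl⟩ := hu'
    rw [J_eqC hj C]
    by_contra hJ
    apply hvc
    have h1 : v ∈ SP X mQl := Cfsg.Agent.KFacts.F4Form.fix C.rl hv hu'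
      (hj (by rw [map_mul, map_mul]; exact huv.symm)) fun h => hJ ⟨u, h, rfl⟩
    refine Q_le_C hj C ?_
    unfold QG SG
    rw [← C.Ql]
    exact ⟨v, h1, rfl⟩
  · rw [J_eqC hj C]
    unfold UG XG SG
    rw [← C.Ul, ← C.X44, card_map hj C, card_map hj C, card_map hj C]
    exact Cfsg.Agent.KFacts.F4Off.card C.rl
  · intro V hV
    rw [QQ_eqC hj C] at hV
    have hVr : V ≤ j.range := hV.trans (map_le_range j _)
    have hVm : (V.comap j).map j = V := map_comap_eq_self hVr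
    have hV' : V.comap j ≤ SP X mQQ := by
      intro x hx
      obtain ⟨y, hy, e⟩ := hV hx
      rw [← hj e]
      exact hy
    have h1 := Cfsg.Agent.KFacts.F4Off.off C.rl hV'
    have e1 : UG j r ⊓ centralizer (V : Set G) =
        (SP X mUl ⊓ centralizer ((V.comap j : Subgroup _) : Set ↥(chevF4.group K))).map j := by
      unfold UG SG
      rw [← C.Ul]
      ext g
      constructor
      · rintro ⟨⟨x, hx, rfl⟩, hc⟩
        refine ⟨x, ⟨hx, mem_centralizer_iff.2 fun y hy => hj ?_⟩, rfl⟩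
        rw [map_mul, map_mul]
        exact mem_centralizer_iff.1 hc _ hy
      · rintro ⟨x, ⟨hx, hc⟩, rfl⟩
        refine ⟨⟨x, hx, rfl⟩, mem_centralizer_iff.2 fun y hy => ?_⟩
        obtain ⟨z, rfl⟩ := hVr hy
        rw [← map_mul, ← map_mul, mem_centralizer_iff.1 hc z hy]
    have e2 : V ⊓ centralizer (UG j r : Set G) =
        (V.comap j ⊓ centralizer (SP X mUl : Set ↥(chevF4.group K))).map j := by
      unfold UG SG
      rw [← C.Ul]
      ext g
      constructor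
      · rintro ⟨hg, hc⟩
        obtain ⟨x, rfl⟩ := hVr hg
        refine ⟨x, ⟨hg, mem_centralizer_iff.2 fun y hy => hj ?_⟩, rfl⟩
        rw [map_mul, map_mul]
        exact mem_centralizer_iff.1 hc _ ⟨y, hy, rfl⟩
      · rintro ⟨x, ⟨hx, hc⟩, rfl⟩
        refine ⟨hx, mem_centralizer_iff.2 ?_⟩
        rintro _ ⟨y, hy, rfl⟩
        rw [← map_mul, ← map_mul, mem_centralizer_iff.1 hc y hy]
    have e3 : Nat.card V = Nat.card (V.comap j) := by
      rw [← card_map hj C, hVm]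
    rw [e1, e2, card_map hj C, card_map hj C, e3]
    unfold UG SG
    rw [← C.Ul, card_map hj C]
    exact h1
  · rintro _ ⟨x, hx, rfl⟩ v ⟨hv, hvJ⟩
    rw [QQ_eqC hj C] at hv
    obtain ⟨v, hv, rfl⟩ := hv
    rw [← C.Po] at hx
    have h1 := Cfsg.Agent.KFacts.F4Form.triv C.rl hx (hJC v hvJ)
    refine Q_le_C hj C ?_
    unfold QG SG
    rw [← C.Ql]
    exact ⟨_, h1, by rw [commutatorElement_def, map_mul, map_mul, map_mul, map_inv, map_inv]⟩
  · intro V hV _ hVU h
    exfalso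
    apply hVU
    intro w hw
    obtain ⟨hv, hvJ⟩ := hV hw
    rw [QQ_eqC hj C] at hv
    obtain ⟨v, hv, rfl⟩ := hv
    refine Q_le_C hj C ?_
    unfold QG SG
    rw [← C.Ql]
    refine ⟨v, Cfsg.Agent.KFacts.F4Form.fin C.rl (hJC v hvJ) fun x hx => ?_, rfl⟩
    rw [C.Po] at hx
    obtain ⟨u, hu, h1⟩ := h (j x) ⟨x, hx, rfl⟩
    unfold UG SG at hu
    rw [← C.Ul] at hu
    obtain ⟨u, hu, rfl⟩ := hu
    refine ⟨u, hu, hj ?_⟩
    rw [map_mul, map_mul, map_mul, map_mul, map_inv]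
    exact ((mem_centralizer_iff.1 h1) _ hw).symm

end Fields

end Cfsg.Agent.Omega.HOneEnd.FFour

end

-- merged: Cfsg.Agent.Mrg.Omega.HOneEnd.FFourDat
section

/-!
# `FFourDat` for `F₄(q)`, all even `q ≥ 2` (OMEGA, THEOREM F1-h1, #14479)

`ffourDat` : for an embedding `j : F₄(K) →* G` and a Sylow 2-subgroup `S` of `G` with `Emb j S Y`, and the two dominant
roots `s ≠ r` in either order: `FFourDat`, given `N_G(X_s) ≤ Y`.
-/

set_option autoImplicit false
set_option Elab.async false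

namespace Cfsg.Agent.Omega.HOneEnd.FFour

open CoxeterSystem Cfsg.Agent.ChevalleyStructure.CoxeterGeom Cfsg.Agent.Tits.Roots Cfsg.Agent.Tits.Core
open Cfsg Cfsg.Lie Cfsg.Agent.ChevalleyStructure Cfsg.Agent.ChevalleyStructure.Elts
  Cfsg.Agent.ChevalleyStructure.RootVec Cfsg.Agent.ChevalleyStructure.CoxeterGeomTypes
open Cfsg.Agent.Nodes Cfsg.Agent.Nodes.Reps Cfsg.Agent.Nodes.BNOf Cfsg.Agent.Nodes.RGDChev Cfsg.Agent.Nodes.Coroot
  Cfsg.Agent.Nodes.KindF Cfsg.Agent.Nodes.Bruhat Cfsg.Agent.Nodes.OppDec Cfsg.Agent.KFacts.ChevTwo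
  Cfsg.Agent.KFacts.ChevTwoTab
  Cfsg.Agent.KFacts.ChevTwoInst Cfsg.Agent.KFacts.RgdTI Cfsg.Agent.KFacts.RgdOdd
  Cfsg.Agent.KFacts.F4Star Cfsg.Agent.KFacts.F4Cent Cfsg.Agent.KFacts.F4Pair Cfsg.Agent.KFacts.F4Torus
open Subgroup Cfsg.Agent.ZN Cfsg.Agent.Omega.All.HOne
open Cfsg.Agent.Omega.FrameNOFF (CZ)
open Cfsg.Agent.MinSimple.VModule (o2_isPGroup le_normalizer_o2 le_centralizer_zc)
open scoped commutatorElement

universe u v

variable {K : Type v} [Field K] [Finite K] [CharP K 2] {G : Type u} [Group G] [Finite G]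
  {j : ↥(chevF4.group K) →* G}

omit [Finite G] in
theorem X_inf (hj : Function.Injective j) {r s : Fin 4 → ℤ} (hr : Dom r) (hs : Dom s) (hrs : r ≠ s) :
    XG j s ⊓ XG j r = ⊥ := by
  unfold XG
  rw [← Subgroup.map_inf _ _ j hj, X_inf_X (rgd (K := K) isType cF 2) hs.root hr.root hrs.symm, Subgroup.map_bot]

namespace Emb

variable {S Y : Subgroup G} (E : Emb j S Y)

include E

omit [Finite G] in
theorem X_S {r : Fin 4 → ℤ} (hr : Dom r) : XG j r ≤ S :=
  (XG_le_SG (hr.rad_sub (self_mem_rad hr.root))).trans E.UG_le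

/-- one side -/
theorem side' {r : Fin 4 → ℤ} (hr : Dom r) : Side S Y (CG j r) (XG j r) (QG j r) (UG j r) :=
  E.side hr (irr_QG E.inj hr) (comm_QG E.inj hr)
    (typ_zc E.inj E.two E.G_Y (fun _ hr => E.X_S hr) (fun _ hr => E.S_X hr) hr)

theorem oZ' {r s : Fin 4 → ℤ} (hr : Dom r) (hs : Dom s) (hrs : r ≠ s) (hO : o2 (CZ S) ≤ S) (hCZ : CZ S ≤ Y) :
    o2 (CZ S) = QG j s ⊔ QG j r := by
  have h1 := E.oZ_of hO hCZ
  rcases hr with rfl | rfl <;> rcases hs with rfl | rfl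
  · exact absurd rfl hrs
  · rw [h1, _root_.sup_comm]
  · exact h1
  · exact absurd rfl hrs

omit [Finite G] in
theorem cen0' {r s : Fin 4 → ℤ} (hr : Dom r) (hs : Dom s) (hrs : r ≠ s) :
    (QG j s ⊔ QG j r) ⊓ centralizer ((QG j s ⊔ QG j r : Subgroup G) : Set G) = XG j s ⊔ XG j r := by
  have h1 := E.cen0
  rcases hr with rfl | rfl <;> rcases hs with rfl | rfl
  · exact absurd rfl hrs
  · rw [_root_.sup_comm (QG j (v 44)), _root_.sup_comm (XG j (v 44))]; exact h1
  · exact h1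
  · exact absurd rfl hrs

/-- **`FFourDat` for `F₄(q)`**, both orders of the two dominant roots, `S` a 2-subgroup containing `O₂(C_G(Z))`. -/
theorem ffourDat_sub {r s : Fin 4 → ℤ} (hr : Dom r) (hs : Dom s) (hrs : r ≠ s)
    (hN : normalizer (XG j s : Set G) ≤ Y) (hO : CZ S ≤ Y → o2 (CZ S) ≤ S) :
    FFourDat S (S ⊓ j.range) Y (CG j s) (CG j r) (XG j s) (XG j r) (QG j s) (QG j r)
      (UG j s) (UG j r) := by
  obtain ⟨e, X, C⟩ := exists_cht (K := K) hr hs hrs
  obtain ⟨e', X', C'⟩ := exists_cht (K := K) hs hr hrs.symm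
  have hj := E.inj
  have mix : ∀ {r s : Fin 4 → ℤ}, Dom s → ∀ v ∈ QG j s ⊓ QG j r, v ∉ UG j s → ∀ x ∈ XG j s, ∃ y ∈ Y,
      y * v * y⁻¹ = v * x := by
    intro r s hs v hv hv' x hx
    obtain ⟨y, hy, e⟩ := mix_G hj hs v hv.1 hv' x hx
    exact ⟨y, E.G_Y (SG_le_range hy), e⟩
  exact
    { side_s := E.side' hs
      side_l := E.side' hr
      S_Y := E.S_Y
      S₀_S := inf_le_left
      N_Y := hN
      Xs_Ul := X_le_U hj C
      Xl_Us := X_le_U hj C'
      Xs_Xl := X_inf hj hr hs hrs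
      oZ := fun h => E.oZ' hr hs hrs (hO h) h
      comm0 := comm0 hj C
      cen0 := E.cen0' hr hs hrs
      commJs := commJ hj C
      commJl := by rw [_root_.sup_comm]; exact commJ hj C'
      lt_s := lt_J hj C
      lt_s' := lt_J' hj C
      lt_l := by rw [_root_.sup_comm]; exact lt_J hj C'
      lt_l' := by rw [inf_comm (QG j s)]; exact lt_J' hj C'
      two := fun T h1 h2 hn => two' hj C C' h1 h2 (E.GeGe_le_CZ.trans hn)
      cen_l := cenU hj C
      cen_s := by rw [_root_.sup_comm]; exact cenU hj C'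
      offer_l := by rw [E.S₀]; exact offer hj C hr hs
      offer_s := by rw [E.S₀, _root_.sup_comm (QG j s)]; exact offer hj C' hs hr
      mix_s := fun v hv h1 _ x hx => mix hs v hv h1 x hx
      mix_l := fun v hv _ h2 x hx => mix hr v ⟨hv.2, hv.1⟩ h2 x hx }

end Emb

/-- **`FFourDat` for `F₄(q)`**, both orders of the two dominant roots, `S` a Sylow 2-subgroup. -/
theorem Emb.ffourDat {S : Sylow 2 G} {Y : Subgroup G} (E : Emb j (S : Subgroup G) Y) {r s : Fin 4 → ℤ} (hr : Dom r)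
    (hs : Dom s) (hrs : r ≠ s) (hN : normalizer (XG j s : Set G) ≤ Y) :
    FFourDat (S : Subgroup G) ((S : Subgroup G) ⊓ j.range) Y (CG j s) (CG j r) (XG j s) (XG j r) (QG j s) (QG j r)
      (UG j s) (UG j r) := by
  refine E.ffourDat_sub hr hs hrs hN fun _ => ?_
  have hf : Fact (Nat.Prime 2) := ⟨Nat.prime_two⟩
  have h1 : IsPGroup 2 ↥(o2 (CZ (S : Subgroup G)) ⊔ S) :=
    (o2_isPGroup _).to_sup_of_normal_left' E.two
      ((le_centralizer_zc (S : Subgroup G)).trans (le_normalizer_o2 (CZ (S : Subgroup G))))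
  exact le_sup_left.trans (S.is_maximal' h1 le_sup_right).le

end Cfsg.Agent.Omega.HOneEnd.FFour

end

-- merged: Cfsg.Agent.Mrg.Omega.HOneEnd.FFourEmb
section

/-!
# `FFourDat` for a subgroup `G₀ ≅ F₄(K)` of `G`

`φ : G₀ ≃* F₄(K)` with `φ(S ∩ G₀) = U`, `φ(R) = X_s`: `emb_of`, `ffourDat_of`.
-/

set_option autoImplicit false
set_option Elab.async false
set_option linter.unusedSectionVars false

namespace Cfsg.Agent.Omega.HOneEnd.FFour

open CoxeterSystem Cfsg.Agent.ChevalleyStructure.CoxeterGeom Cfsg.Agent.Tits.Roots Cfsg.Agent.Tits.Core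
open Cfsg Cfsg.Lie Cfsg.Agent.ChevalleyStructure Cfsg.Agent.ChevalleyStructure.Elts
  Cfsg.Agent.ChevalleyStructure.RootVec Cfsg.Agent.ChevalleyStructure.CoxeterGeomTypes
open Cfsg.Agent.Nodes Cfsg.Agent.Nodes.Reps Cfsg.Agent.Nodes.BNOf Cfsg.Agent.Nodes.RGDChev Cfsg.Agent.Nodes.Coroot
  Cfsg.Agent.Nodes.KindF Cfsg.Agent.KFacts.ChevTwo Cfsg.Agent.KFacts.ChevTwoTab
  Cfsg.Agent.KFacts.ChevTwoInst Cfsg.Agent.KFacts.RgdTI Cfsg.Agent.KFacts.RgdOdd
  Cfsg.Agent.KFacts.F4Star Cfsg.Agent.KFacts.F4Cent Cfsg.Agent.KFacts.F4Pair Cfsg.Agent.KFacts.F4Torus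
open Subgroup Cfsg.Agent.Omega.All.HOne

universe u v

variable {K : Type v} [Field K] [Finite K] [CharP K 2] {G : Type u} [Group G] {G₀ : Subgroup G}

/-- the embedding -/
def emb (φ : ↥G₀ ≃* ↥(chevF4.group K)) : ↥(chevF4.group K) →* G := G₀.subtype.comp φ.symm.toMonoidHom

theorem emb_inj (φ : ↥G₀ ≃* ↥(chevF4.group K)) : Function.Injective (emb φ) :=
  (subtype_injective G₀).comp φ.symm.injective

theorem emb_range (φ : ↥G₀ ≃* ↥(chevF4.group K)) : (emb φ).range = G₀ := by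
  ext g
  constructor
  · rintro ⟨x, rfl⟩
    exact (φ.symm x).2
  · intro hg
    refine ⟨φ ⟨g, hg⟩, ?_⟩
    show ((φ.symm (φ ⟨g, hg⟩) : ↥G₀) : G) = g
    rw [MulEquiv.symm_apply_apply]

theorem map_emb (φ : ↥G₀ ≃* ↥(chevF4.group K)) {A : Subgroup G} (hA : A ≤ G₀) {B : Subgroup ↥(chevF4.group K)}
    (h : (A.subgroupOf G₀).map φ.toMonoidHom = B) : B.map (emb φ) = A := by
  subst h
  ext g
  constructor
  · rintro ⟨_, ⟨x, hx, rfl⟩, rfl⟩
    show ((φ.symm (φ x) : ↥G₀) : G) ∈ A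
    rw [MulEquiv.symm_apply_apply]
    exact mem_subgroupOf.1 hx
  · intro hg
    refine ⟨φ ⟨g, hA hg⟩, ⟨⟨g, hA hg⟩, mem_subgroupOf.2 hg, rfl⟩, ?_⟩
    show ((φ.symm (φ ⟨g, hA hg⟩) : ↥G₀) : G) = g
    rw [MulEquiv.symm_apply_apply]

theorem XG_emb (φ : ↥G₀ ≃* ↥(chevF4.group K)) {R : Subgroup G} (hR : R ≤ G₀) {r : Fin 4 → ℤ}
    (h : (R.subgroupOf G₀).map φ.toMonoidHom = XF K r) : XG (emb φ) r = R := map_emb φ hR h

theorem emb_of (φ : ↥G₀ ≃* ↥(chevF4.group K)) {S R : Subgroup G} (hS : IsPGroup 2 S)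
    (hSG : S ≤ normalizer (G₀ : Set G)) (hSR : S ≤ normalizer (R : Set G)) (hR : R ≤ G₀)
    (hc : centralizer (G₀ : Set G) = ⊥)
    (hU : ((S ⊓ G₀).subgroupOf G₀).map φ.toMonoidHom = RGD.Sup (XF K) (RGD.Pos cF isType.isCartan))
    {s : Fin 4 → ℤ} (hs : Dom s) (hX : (R.subgroupOf G₀).map φ.toMonoidHom = XF K s) :
    Emb (emb φ) S (normalizer (G₀ : Set G)) where
  inj := emb_inj φ
  two := hS
  S_Y := hSG
  G_Y := by rw [emb_range]; exact le_normalizer
  Y_G := by rw [emb_range]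
  S₀ := by rw [emb_range]; exact (map_emb φ inf_le_right hU).symm
  cent g hg := by
    have h1 : g ∈ centralizer (G₀ : Set G) := by
      rw [mem_centralizer_iff]
      intro x hx
      have h2 : x ∈ (emb φ).range := by rw [emb_range]; exact hx
      obtain ⟨y, rfl⟩ := h2
      exact (hg y).symm
    rwa [hc, mem_bot] at h1
  len := ⟨s, hs, by rw [XG_emb φ hR hX]; exact hSR⟩

theorem exists_other {s : Fin 4 → ℤ} (hs : Dom s) : ∃ r, Dom r ∧ r ≠ s := by
  have h1 : v 47 ≠ v 44 := fun h => absurd (v_inj (by norm_num) (by norm_num) h) (by norm_num)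
  rcases hs with rfl | rfl
  · exact ⟨v 44, Or.inr rfl, h1.symm⟩
  · exact ⟨v 47, Or.inl rfl, h1⟩

/-- **`FFourDat` for `G₀ ≅ F₄(K)`, `R = X_s`.** -/
theorem ffourDat_of [Finite G] (φ : ↥G₀ ≃* ↥(chevF4.group K)) {S : Sylow 2 G} {R : Subgroup G}
    (hSG : (S : Subgroup G) ≤ normalizer (G₀ : Set G)) (hSR : (S : Subgroup G) ≤ normalizer (R : Set G)) (hR : R ≤ G₀)
    (hc : centralizer (G₀ : Set G) = ⊥)
    (hU : (((S : Subgroup G) ⊓ G₀).subgroupOf G₀).map φ.toMonoidHom = RGD.Sup (XF K) (RGD.Pos cF isType.isCartan))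
    {s : Fin 4 → ℤ} (hs : Dom s) (hX : (R.subgroupOf G₀).map φ.toMonoidHom = XF K s)
    (hN : normalizer (R : Set G) ≤ normalizer (G₀ : Set G)) :
    ∃ Cs Cl Xl Qs Ql Us Ul : Subgroup G, FFourDat (S : Subgroup G) ((S : Subgroup G) ⊓ G₀) (normalizer (G₀ : Set G))
      Cs Cl R Xl Qs Ql Us Ul := by
  have E := emb_of φ S.isPGroup' hSG hSR hR hc hU hs hX
  obtain ⟨r, hr, hrs⟩ := exists_other hs
  have h1 := E.ffourDat hr hs hrs (by rw [XG_emb φ hR hX]; exact hN)
  rw [emb_range, XG_emb φ hR hX] at h1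
  exact ⟨_, _, _, _, _, _, _, h1⟩

end Cfsg.Agent.Omega.HOneEnd.FFour

end
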