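import Cfsg.Agent.Mrg.Omega.HOneEnd.FFourEmb
import Cfsg.Agent.Mrg.Omega.HOneEnd.FFourTyp
import Cfsg.Agent.Mrg.Omega.All.Basic

-- merged: Cfsg.Agent.Mrg.Omega.HOneEnd.FFourCenY
section

/-!
# `F₄(q)`, `q` even: the centraliser of `ab`, `1 ≠ a ∈ X_{44}`, `1 ≠ b ∈ X_{47}`

* `comm_of_ab` : an element of `F₄(K)` commuting with `ab` commutes with `a` and `b`;
* `aut_ab` : an automorphism of `F₄(K)` fixing `ab` fixes or exchanges `X_{44}`, `X_{47}` on `a`, `b`;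
* `fix_X` : an automorphism fixing `1 ≠ a ∈ X_r` normalises `X_r`.
-/

set_option autoImplicit false
set_option Elab.async false
set_option linter.unusedSectionVars false

namespace Cfsg.Agent.Omega.HOneEnd.FFour

open CoxeterSystem Cfsg.Agent.ChevalleyStructure.CoxeterGeom Cfsg.Agent.Tits.Roots Cfsg.Agent.Tits.Core
  Cfsg.Agent.Tits.Exchange
open Cfsg.Lie Cfsg.Agent.ChevalleyStructure Cfsg.Agent.ChevalleyStructure.Elts
  Cfsg.Agent.ChevalleyStructure.RootVec Cfsg.Agent.ChevalleyStructure.CoxeterGeomTypes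
open Cfsg.Agent.Nodes Cfsg.Agent.Nodes.Reps Cfsg.Agent.Nodes.BNOf Cfsg.Agent.Nodes.RGDChev Cfsg.Agent.Nodes.Coroot
  Cfsg.Agent.Nodes.KindF Cfsg.Agent.Nodes.Bruhat Cfsg.Agent.Nodes.OppDec Cfsg.Agent.Nodes.LeviDec
  Cfsg.Agent.Nodes.StabComb
  Cfsg.Agent.KFacts.ChevTwo Cfsg.Agent.KFacts.ChevTwoTab
  Cfsg.Agent.KFacts.ChevTwoInst Cfsg.Agent.KFacts.RgdTI Cfsg.Agent.KFacts.RgdOdd Cfsg.Agent.KFacts.RgdEx
  Cfsg.Agent.KFacts.RgdPar Cfsg.Agent.KFacts.RgdAut Cfsg.Agent.KFacts.RgdDiag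
  Cfsg.Agent.KFacts.F4Star Cfsg.Agent.KFacts.F4Cent Cfsg.Agent.KFacts.F4Pair Cfsg.Agent.KFacts.F4Torus
  Cfsg.Agent.KFacts.F4Perf Cfsg.Agent.KFacts.F4Aut Cfsg.Agent.KFacts.F4AutPair

universe u

/-! ### Dominant roots -/

/-- a dominant root is `v 47` or `v 44` -/
theorem dom_of_nonneg {x : Fin 4 → ℤ} (hx : IsRoot cF isType.isCartan x)
    (h : ∀ i, 0 ≤ cpr cF isType.isCartan (sr i) x) : Dom x := by
  obtain ⟨r, hr, rfl⟩ := exists_v cF hx
  have h1 : (starM (2 ^ 33 + 2 ^ 27 + 2 ^ 25 + 2 ^ 24)).testBit r = true := by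
    rw [testBit_starM]
    refine ⟨hr, fun s hs hs' => ?_⟩
    rw [testBit_nn cF hs hr]
    have h2 : s = 33 ∨ s = 27 ∨ s = 25 ∨ s = 24 := by
      revert s
      decide +kernel
    obtain ⟨s0, s1, s2, s3, -⟩ := simples_ok
    have h3 : ∃ i : Fin 4, v s = sr i := by
      rcases h2 with rfl | rfl | rfl | rfl
      · exact ⟨0, by rw [← s0]; exact v_simple 0⟩
      · exact ⟨1, by rw [← s1]; exact v_simple 1⟩
      · exact ⟨2, by rw [← s2]; exact v_simple 2⟩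
      · exact ⟨3, by rw [← s3]; exact v_simple 3⟩
    obtain ⟨i, hi⟩ := h3
    rw [hi, cpr_nonneg_comm cF (isRoot_v cF hr) (isRoot_sr cF _ i)]
    exact h i
  rw [Cfsg.Agent.KFacts.F4Perf.domChk] at h1
  have h2 : r = 47 ∨ r = 44 := by
    clear h hx
    revert r
    decide +kernel
  rcases h2 with rfl | rfl
  · exact Or.inl rfl
  · exact Or.inr rfl

theorem neg_not_ge {r : Fin 4 → ℤ} (hr : IsRoot cF isType.isCartan r) {i : Fin 4}
    (hi : pairing (cartanOf chevF4 4) i r = 1) : ¬ 0 ≤ cpr cF isType.isCartan (-sr i) r := by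
  intro h
  have h1 : cpr cF isType.isCartan r (sr i) = 1 := by rw [cpr_sr, hi]
  have h2 : 0 ≤ cpr cF isType.isCartan r (-sr i) :=
    (cpr_nonneg_comm cF (isRoot_sr cF _ i).neg hr).1 h
  rw [cpr_neg_right cF _ _ (isRoot_sr cF _ i), h1] at h2
  norm_num at h2

variable {K : Type u} [Field K] [Finite K] [CharP K 2]

/-- `X_x ≤ P_r` implies `0 ≤ ⟨x,r⟩`. -/
theorem nonneg_of_le {r : Fin 4 → ℤ} (hr : IsRoot cF isType.isCartan r) {x : Fin 4 → ℤ}
    (hx : IsRoot cF isType.isCartan x) (h : XF K x ≤ RGD.Sup (XF K) (Ge cF isType.isCartan r)) :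
    0 ≤ cpr cF isType.isCartan x r := by
  have h1 : XF K x ≤ PS (TF K) (XF K) (Half cF isType.isCartan (ell cF isType.isCartan hr)) := by
    rw [half_ell]
    exact h.trans Sup_le_PS
  exact (X_le_half_iff (rgd (K := K) isType cF 2) (ell cF isType.isCartan hr) hx).1 h1

/-- `X_x` commuting with `1 ≠ a ∈ X_r` implies `0 ≤ ⟨x,r⟩`. -/
theorem nonneg_of_comm {r : Fin 4 → ℤ} (hr : IsRoot cF isType.isCartan r) {x : Fin 4 → ℤ}
    (hx : IsRoot cF isType.isCartan x) {a : ↥(chevF4.group K)} (ha : a ∈ XF K r) (ha1 : a ≠ 1)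
    (h : ∀ z ∈ XF K x, z * a = a * z) : 0 ≤ cpr cF isType.isCartan x r :=
  nonneg_of_le hr hx fun z hz => cent_X cF hr ha ha1 (h z hz)

/-! ### The centraliser of `ab` -/

variable (K) in
/-- the elements `ab`, `1 ≠ a ∈ X_{44}`, `1 ≠ b ∈ X_{47}` -/
def ZZ (z : ↥(chevF4.group K)) : Prop :=
  ∃ a ∈ XF K (v 44), ∃ b ∈ XF K (v 47), a ≠ 1 ∧ b ≠ 1 ∧ z = a * b

theorem ZZ.conj {z g : ↥(chevF4.group K)} (hz : ZZ K z) (h44 : ∀ a ∈ XF K (v 44), g * a * g⁻¹ ∈ XF K (v 44))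
    (h47 : ∀ a ∈ XF K (v 47), g * a * g⁻¹ ∈ XF K (v 47)) : ZZ K (g * z * g⁻¹) := by
  obtain ⟨a, ha, b, hb, ha1, hb1, rfl⟩ := hz
  refine ⟨g * a * g⁻¹, h44 a ha, g * b * g⁻¹, h47 b hb, ?_, ?_, by group⟩
  · intro h
    exact ha1 (by simpa using h)
  · intro h
    exact hb1 (by simpa using h)

theorem not_comm_ZZ {z : ↥(chevF4.group K)} (hz : ZZ K z) {i : Fin 4} (hi : i ∉ JJ)
    (h : ∀ x ∈ XF K (-sr i), x * z = z * x) : False := by
  obtain ⟨a, ha, b, hb, ha1, hb1, rfl⟩ := hz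
  have h44 : IsRoot cF isType.isCartan (v 44) := isRoot_v cF (by norm_num)
  have h47 : IsRoot cF isType.isCartan (v 47) := isRoot_v cF (by norm_num)
  have hsr := (isRoot_sr cF isType.isCartan i).neg
  have hi' : i = 0 ∨ i = 3 := by
    have h5 : ¬ (i = 1 ∨ i = 2) := hi
    revert h5
    fin_cases i <;> simp
  rcases hi' with rfl | rfl
  · have h1 : (-sr 0 : Fin 4 → ℤ) ∈ Ge cF isType.isCartan (v 47) :=
      (ge_of_pairing cF h47 (i := 0) (by rw [pair47, if_neg (by decide)])).2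
    refine neg_not_ge h44 (i := 0) (by rw [pair44, if_pos rfl]) (nonneg_of_comm h44 hsr ha ha1 fun x hx => ?_)
    have h2 : x * b = b * x := ((sysF (K := K) cF).lr h47).comm' (RGD.le_Sup h1 hx) hb
    have h3 := h x hx
    have h4 : x * a * b = a * x * b := by
      calc x * a * b = x * (a * b) := by group
        _ = a * (b * x) := by rw [h3]; group
        _ = a * x * b := by rw [← h2]; group
    exact mul_right_cancel h4
  · have h1 : (-sr 3 : Fin 4 → ℤ) ∈ Ge cF isType.isCartan (v 44) :=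
      (ge_of_pairing cF h44 (i := 3) (by rw [pair44, if_neg (by decide)])).2
    refine neg_not_ge h47 (i := 3) (by rw [pair47, if_pos rfl]) (nonneg_of_comm h47 hsr hb hb1 fun x hx => ?_)
    have h2 : x * a = a * x := ((sysF (K := K) cF).lr h44).comm' (RGD.le_Sup h1 hx) ha
    have h3 := h x hx
    have h4 : a * (x * b) = a * (b * x) := by
      calc a * (x * b) = a * x * b := by group
        _ = x * a * b := by rw [h2]
        _ = x * (a * b) := by group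
        _ = a * (b * x) := by rw [h3]; group
    exact mul_left_cancel h4

theorem XX_comm' {z y : ↥(chevF4.group K)} (hz : ZZ K z)
    (hy : y ∈ RGD.Sup (XF K) (Ge cF isType.isCartan (v 47) ∩ Ge cF isType.isCartan (v 44))) : y * z = z * y := by
  obtain ⟨a, ha, b, hb, -, -, rfl⟩ := hz
  have h1 : y * a = a * y := ((sysF (K := K) cF).lr (isRoot_v cF (by norm_num))).comm'
    (RGD.Sup_mono Set.inter_subset_right hy) ha
  have h2 : y * b = b * y := ((sysF (K := K) cF).lr (isRoot_v cF (by norm_num))).comm'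
    (RGD.Sup_mono Set.inter_subset_left hy) hb
  calc y * (a * b) = y * a * b := by group
    _ = a * (y * b) := by rw [h1]; group
    _ = a * b * y := by rw [h2]; group

/-- an element of `N` over `w` carrying some `ab` to some `a'b'` lies over `W_J` -/
theorem mem_WJ_of_ZZ : ∀ {w : CoxeterMatrix.F₄.Group} {k : ↥(chevF4.group K)},
    Rp cF (rgd (K := K) isType cF 2).nsys w k → ∀ {z₁ z₂ : ↥(chevF4.group K)}, ZZ K z₁ → ZZ K z₂ →
    k * z₂ * k⁻¹ = z₁ → w ∈ WJ cF JJ := by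
  obtain ⟨R, hR⟩ : ∃ R, R = rgd (K := K) isType cF 2 := ⟨_, rfl⟩
  rw [← hR]
  intro w
  induction hn : cF.length w using Nat.strong_induction_on generalizing w with
  | _ N ih =>
  intro k hk z₁ z₂ h₁ h₂ e
  by_cases hw1 : w = 1
  · rw [hw1]; exact one_mem _
  obtain ⟨i, hi⟩ := cF.exists_leftDescent_of_ne_one hw1
  have hi' : cF.length (cF.simple i * w) < cF.length w := hi
  have hneg : rep cF isType.isCartan w⁻¹ (sr i) ≤ 0 := by
    refine nonpos_of_lt cF isType.isCartan w⁻¹ i ?_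
    rw [← cF.length_inv w, ← cF.length_inv (cF.simple i * w), mul_inv_rev, inv_simple] at hi'
    exact hi'
  -- `X_{-α_i}` commutes with `z₁`
  have hc : ∀ x ∈ XF K (-sr i), x * z₁ = z₁ * x := by
    intro x hx
    have h3 : k⁻¹ * x * k ∈ XF K (-rep cF isType.isCartan w⁻¹ (sr i)) := by
      have := R.conj_mem' hk (isRoot_sr cF isType.isCartan i).neg hx
      rwa [map_neg] at this
    have hpos : (-rep cF isType.isCartan w⁻¹ (sr i) : Fin 4 → ℤ) ∈ RGD.Pos cF isType.isCartan :=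
      ⟨((isRoot_sr cF isType.isCartan i).act w⁻¹).neg, neg_nonneg.2 hneg⟩
    have h4 : k⁻¹ * x * k ∈ RGD.Sup (XF K) (Ge cF isType.isCartan (v 47) ∩ Ge cF isType.isCartan (v 44)) :=
      RGD.le_Sup (S := Ge cF isType.isCartan (v 47) ∩ Ge cF isType.isCartan (v 44))
        ⟨Dom.pos_sub (Or.inl rfl) hpos, Dom.pos_sub (Or.inr rfl) hpos⟩ h3
    have h5 := XX_comm' h₂ h4
    rw [← e]
    calc x * (k * z₂ * k⁻¹) = k * (k⁻¹ * x * k * z₂) * k⁻¹ := by group
      _ = k * z₂ * k⁻¹ * x := by rw [h5]; group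
  by_cases hiJ : i ∈ JJ
  · obtain ⟨m, hm, hmr⟩ := exists_rp_in R (simple_mem_WJ cF hiJ)
    have h6 := XX_comm' h₁ (RGD.Sup_mono rootsJ_sub hm)
    have hk2 : Rp cF R.nsys (cF.simple i * w) (m⁻¹ * k) := by
      have := hmr.inv.mul hk
      rwa [inv_simple] at this
    have e2 : m⁻¹ * k * z₂ * (m⁻¹ * k)⁻¹ = z₁ := by
      calc m⁻¹ * k * z₂ * (m⁻¹ * k)⁻¹ = m⁻¹ * (k * z₂ * k⁻¹) * m := by group
        _ = m⁻¹ * (z₁ * m) := by rw [e]; group
        _ = z₁ := by rw [← h6]; group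
    have h7 := ih (cF.length (cF.simple i * w)) (by omega) rfl hk2 h₁ h₂ e2
    have h8 : w = cF.simple i * (cF.simple i * w) := by rw [← mul_assoc, simple_mul_simple_self, one_mul]
    rw [h8]
    exact mul_mem (simple_mem_WJ cF hiJ) h7
  · exact (not_comm_ZZ h₁ hiJ hc).elim

theorem B_le_PS {r : Fin 4 → ℤ} (hr : Dom r) :
    RGD.B cF isType.isCartan (TF K) (XF K) ≤ PS (TF K) (XF K) (Ge cF isType.isCartan r) :=
  sup_le T_le_PS ((RGD.Sup_mono hr.pos_sub).trans Sup_le_PS)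

theorem LJ_le_PS {r : Fin 4 → ℤ} (hr : Dom r) :
    LJ cF isType.isCartan (TF K) (XF K) JJ ≤ PS (TF K) (XF K) (Ge cF isType.isCartan r) := by
  refine sup_le T_le_PS ((RGD.Sup_mono fun x hx => ?_).trans Sup_le_PS)
  have h1 := rootsJ_sub hx
  rcases hr with rfl | rfl
  · exact h1.1
  · exact h1.2

/-- an element of `F₄(K)` commuting with `ab` commutes with `a` and `b` -/
theorem comm_of_ab {a b g : ↥(chevF4.group K)} (ha : a ∈ XF K (v 44)) (hb : b ∈ XF K (v 47)) (ha1 : a ≠ 1)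
    (hb1 : b ≠ 1) (hg : g * (a * b) = a * b * g) : g * a = a * g ∧ g * b = b * g := by
  obtain ⟨R, hR⟩ : ∃ R, R = rgd (K := K) isType cF 2 := ⟨_, rfl⟩
  have h44 : IsRoot cF isType.isCartan (v 44) := isRoot_v cF (by norm_num)
  have h47 : IsRoot cF isType.isCartan (v 47) := isRoot_v cF (by norm_num)
  have hGG : g ∈ GG cF isType.isCartan (TF K) (XF K) := by rw [GG_top cF]; exact Subgroup.mem_top g
  obtain ⟨w, b₁, hb₁, k, hk, b₂, hb₂, e⟩ := (mem_GG R).1 hGG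
  have hn : ∀ {r : Fin 4 → ℤ}, Dom r → ∀ {y}, y ∈ PS (TF K) (XF K) (Ge cF isType.isCartan r) → ∀ x ∈ XF K r,
      y * x * y⁻¹ ∈ XF K r := by
    intro r hr y hy x hx
    have h1 : PS (TF K) (XF K) (Ge cF isType.isCartan r) ≤ Subgroup.normalizer (XF K r : Set ↥(chevF4.group K)) :=
      ((sysF (K := K) cF).lr hr.root).PS_le_normalizer
    exact (Subgroup.mem_normalizer_iff.1 (h1 hy) x).1 hx
  have hz : ZZ K (a * b) := ⟨a, ha, b, hb, ha1, hb1, rfl⟩
  have hz2 := hz.conj (hn (Or.inr rfl) (B_le_PS (Or.inr rfl) hb₂)) (hn (Or.inl rfl) (B_le_PS (Or.inl rfl) hb₂))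
  have hz1 := hz.conj (hn (Or.inr rfl) (B_le_PS (Or.inr rfl) (inv_mem hb₁)))
    (hn (Or.inl rfl) (B_le_PS (Or.inl rfl) (inv_mem hb₁)))
  have e1 : k * (b₂ * (a * b) * b₂⁻¹) * k⁻¹ = b₁⁻¹ * (a * b) * b₁⁻¹⁻¹ := by
    have e2 : g * (a * b) * g⁻¹ = a * b := by rw [hg]; group
    calc k * (b₂ * (a * b) * b₂⁻¹) * k⁻¹ = b₁⁻¹ * (b₁ * k * b₂ * (a * b) * (b₁ * k * b₂)⁻¹) * b₁⁻¹⁻¹ := by group
      _ = b₁⁻¹ * (a * b) * b₁⁻¹⁻¹ := by rw [← e, e2]
  have hwJ : w ∈ WJ cF JJ := by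
    subst hR
    exact mem_WJ_of_ZZ hk hz1 hz2 e1
  have hgP : ∀ {r : Fin 4 → ℤ}, Dom r → g ∈ PS (TF K) (XF K) (Ge cF isType.isCartan r) := by
    intro r hr
    rw [e]
    exact mul_mem (mul_mem (B_le_PS hr hb₁) (LJ_le_PS hr (rp_mem_LJ R hwJ hk))) (B_le_PS hr hb₂)
  have h1 := hn (Or.inr rfl) (hgP (Or.inr rfl)) a ha
  have h2 := hn (Or.inl rfl) (hgP (Or.inl rfl)) b hb
  have h3 : g * a * g⁻¹ * (g * b * g⁻¹) = a * b := by
    calc g * a * g⁻¹ * (g * b * g⁻¹) = g * (a * b) * g⁻¹ := by group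
      _ = a * b := by rw [hg]; group
  have h4 : a⁻¹ * (g * a * g⁻¹) = b * (g * b * g⁻¹)⁻¹ := by
    calc a⁻¹ * (g * a * g⁻¹) = a⁻¹ * (g * a * g⁻¹ * (g * b * g⁻¹)) * (g * b * g⁻¹)⁻¹ := by group
      _ = b * (g * b * g⁻¹)⁻¹ := by rw [h3]; group
  have h5 := X_inf_X R h44 h47 fun h => absurd (v_inj (by norm_num) (by norm_num) h) (by norm_num)
  rw [Subgroup.eq_bot_iff_forall] at h5
  have h6 := h5 (a⁻¹ * (g * a * g⁻¹)) (Subgroup.mem_inf.2 ⟨mul_mem (inv_mem ha) h1, by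
    rw [h4]; exact mul_mem hb (inv_mem h2)⟩)
  have h7 : g * a * g⁻¹ = a := (inv_mul_eq_one.1 h6).symm
  have h8 : g * b * g⁻¹ = b := by
    rw [h4] at h6
    exact (mul_inv_eq_one.1 h6).symm
  exact ⟨by calc g * a = g * a * g⁻¹ * g := by group
      _ = a * g := by rw [h7], by calc g * b = g * b * g⁻¹ * g := by group
      _ = b * g := by rw [h8]⟩

/-! ### Automorphisms -/

/-- an automorphism fixing `1 ≠ z ∈ X_r` normalises `X_r` -/
theorem fix_X {r : Fin 4 → ℤ} (hr : IsRoot cF isType.isCartan r) {z : ↥(chevF4.group K)} (hz : z ∈ XF K r)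
    (hz1 : z ≠ 1) {α : MulAut ↥(chevF4.group K)} (hα : α z = z) : Fix α (XF K r) := by
  have key : ∀ {α : MulAut ↥(chevF4.group K)}, α z = z → ∀ x ∈ XF K r, α x ∈ XF K r := by
    intro α hα x hx
    refine cent_P cF hr (cm_of_comm (fun c hc => hc.1) fun p hp => ?_)
    have h1 : p * z = z * p := (cent_X_iff cF hr hz hz1).2 hp
    have h2 : α⁻¹ z = z := by
      have h3 : α⁻¹ (α z) = z := MulAut.inv_apply_self _ α z
      rwa [hα] at h3
    have h3 : α⁻¹ p ∈ RGD.Sup (XF K) (Ge cF isType.isCartan r) := by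
      refine (cent_X_iff cF hr hz hz1).1 ?_
      calc α⁻¹ p * z = α⁻¹ (p * z) := by rw [map_mul, h2]
        _ = z * α⁻¹ p := by rw [h1, map_mul, h2]
    have h4 := ((sysF (K := K) cF).lr hr).comm' h3 hx
    have h5 : α (α⁻¹ p) = p := MulAut.apply_inv_self _ α p
    calc α x * p = α x * α (α⁻¹ p) := by rw [h5]
      _ = p * α x := by rw [← map_mul, ← h4, map_mul, h5]
  intro x
  refine ⟨fun hx => ?_, key hα x⟩
  have h2 : α⁻¹ z = z := by
    have h3 : α⁻¹ (α z) = z := MulAut.inv_apply_self _ α z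
    rwa [hα] at h3
  have h4 := key h2 _ hx
  rwa [MulAut.inv_apply_self] at h4

/-- Sylow's theorem in an overgroup of `U` -/
theorem exists_fix_U {α : MulAut ↥(chevF4.group K)} {E : Subgroup ↥(chevF4.group K)}
    (hUE : RGD.Sup (XF K) (RGD.Pos cF isType.isCartan) ≤ E) (hα : ∀ x ∈ E, α x ∈ E) :
    ∃ e ∈ E, Fix (MulAut.conj e * α) (RGD.Sup (XF K) (RGD.Pos cF isType.isCartan)) := by
  have hf : Fact (Nat.Prime 2) := ⟨Nat.prime_two⟩
  obtain ⟨R, hR⟩ : ∃ R, R = rgd (K := K) isType cF 2 := ⟨_, rfl⟩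
  obtain ⟨U, hU⟩ : ∃ U, U = RGD.Sup (XF K) (RGD.Pos cF isType.isCartan) := ⟨_, rfl⟩
  have hU2 : IsPGroup 2 U := by rw [hU]; exact R.isPGroup_Upos
  have hmax : ∀ P : Subgroup ↥(chevF4.group K), U ≤ P → IsPGroup 2 P → P = U := by
    intro P hP hP2
    rw [hU] at hP ⊢
    exact eq_U R hP (by rw [GG_top cF]; exact le_top) hP2
  rw [← hU] at hUE ⊢
  obtain ⟨Q₁, hQ₁⟩ := (hU2.comap_of_injective E.subtype E.subtype_injective).exists_le_sylow
  have hU' : IsPGroup 2 (U.map α.toMonoidHom) := hU2.map _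
  obtain ⟨Q₂, hQ₂⟩ := (hU'.comap_of_injective E.subtype E.subtype_injective).exists_le_sylow
  obtain ⟨e, he⟩ := MulAction.exists_smul_eq ↥E Q₂ Q₁
  have h1 : (Q₁ : Subgroup ↥E).map E.subtype = U := by
    refine hmax _ (fun x hx => ⟨⟨x, hUE hx⟩, hQ₁ hx, rfl⟩) (Q₁.isPGroup'.map _)
  have h2 : ∀ x ∈ U, (e : ↥(chevF4.group K)) * α x * (e : ↥(chevF4.group K))⁻¹ ∈ U := by
    intro x hx
    have h3 : (⟨α x, hα x (hUE hx)⟩ : ↥E) ∈ (Q₂ : Subgroup ↥E) := hQ₂ (show α x ∈ U.map α.toMonoidHom from ⟨x, hx, rfl⟩)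
    have h4 : e * ⟨α x, hα x (hUE hx)⟩ * e⁻¹ ∈ (Q₁ : Subgroup ↥E) := by
      rw [← he]
      exact Subgroup.smul_mem_pointwise_smul _ (MulAut.conj e) (Q₂ : Subgroup ↥E) h3
    rw [← h1]
    exact ⟨_, h4, rfl⟩
  refine ⟨e, e.2, fix_iff.2 ?_⟩
  apply Subgroup.eq_of_le_of_card_ge
  · rintro _ ⟨x, hx, rfl⟩
    exact h2 x hx
  · rw [Nat.card_congr (U.equivMapOfInjective _ (MulAut.conj (e : ↥(chevF4.group K)) * α).injective).toEquiv.symm]

/-- **An automorphism fixing `ab` fixes or exchanges `X_{44}` and `X_{47}` (on `a`, `b`).** -/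
theorem aut_ab {a b : ↥(chevF4.group K)} (ha : a ∈ XF K (v 44)) (hb : b ∈ XF K (v 47)) (ha1 : a ≠ 1)
    (hb1 : b ≠ 1) {α : MulAut ↥(chevF4.group K)} (hα : α (a * b) = a * b) :
    (α a ∈ XF K (v 44) ∧ α b ∈ XF K (v 47)) ∨ (α a ∈ XF K (v 47) ∧ α b ∈ XF K (v 44)) := by
  obtain ⟨R, hR⟩ : ∃ R, R = rgd (K := K) isType cF 2 := ⟨_, rfl⟩
  have hG := GG_top (K := K) cF
  have h44 : IsRoot cF isType.isCartan (v 44) := isRoot_v cF (by norm_num)
  have h47 : IsRoot cF isType.isCartan (v 47) := isRoot_v cF (by norm_num)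
  have hUE : RGD.Sup (XF K) (RGD.Pos cF isType.isCartan) ≤ Subgroup.centralizer {a * b} := by
    intro u hu
    rw [Subgroup.mem_centralizer_singleton_iff]
    have h1 := pos_comm (Or.inr rfl) hu ha
    have h2 := pos_comm (Or.inl rfl) hu hb
    calc u * (a * b) = u * a * b := by group
      _ = a * (u * b) := by rw [h1]; group
      _ = a * b * u := by rw [h2]; group
  obtain ⟨e, he, hU⟩ := exists_fix_U (E := Subgroup.centralizer {a * b}) hUE (α := α) (by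
    intro x hx
    rw [Subgroup.mem_centralizer_singleton_iff] at hx ⊢
    rw [← hα, ← map_mul, hx, map_mul])
  rw [Subgroup.mem_centralizer_singleton_iff] at he
  obtain ⟨he44, he47⟩ := comm_of_ab ha hb ha1 hb1 he
  have he' : ∀ {r : Fin 4 → ℤ}, Dom r → e ∈ RGD.Sup (XF K) (Ge cF isType.isCartan r) := by
    intro r hr
    rcases hr with rfl | rfl
    · exact cent_X cF h47 hb hb1 he47
    · exact cent_X cF h44 ha ha1 he44
  obtain ⟨u, hu, hU', hB, hUN, hBN, hT⟩ := Cfsg.Agent.KFacts.RgdAut.exists_frame R hG hU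
  obtain ⟨β, hβ⟩ : ∃ β, β = MulAut.conj u * (MulAut.conj e * α) := ⟨_, rfl⟩
  rw [← hβ] at hU' hB hUN hBN hT
  obtain ⟨σ, D⟩ := exists_diag R hG hU' hUN
  obtain ⟨ρ, hρ, -, -⟩ := D.exists_rootMap R (D.matrix R)
  -- `ρ` preserves the dominant roots
  have hdom : ∀ {r : Fin 4 → ℤ}, Dom r → Dom (ρ r) := by
    intro r hr
    obtain ⟨h1, h2⟩ := hρ r hr.root
    obtain ⟨z, hz, hz1⟩ := X_ne (K := K) hr.root
    have h3 : β z ∈ XF K (ρ r) := (h2 z).2 hz
    have h4 : β z ≠ 1 := fun h => hz1 (by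
      have := congrArg β.symm h
      rwa [MulEquiv.symm_apply_apply, map_one] at this)
    refine dom_of_nonneg h1 fun i => nonneg_of_comm h1 (isRoot_sr cF _ i) h3 h4 fun x hx => ?_
    have h5 : x ∈ RGD.Sup (XF K) (RGD.Pos cF isType.isCartan) :=
      RGD.le_Sup (S := RGD.Pos cF isType.isCartan) ⟨isRoot_sr cF _ i, sr_nonneg i⟩ hx
    obtain ⟨y, rfl⟩ : ∃ y, β y = x := ⟨β.symm x, β.apply_symm_apply x⟩
    have h6 : y ∈ RGD.Sup (XF K) (RGD.Pos cF isType.isCartan) := (hU' y).1 h5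
    rw [← map_mul, pos_comm hr h6 hz, map_mul]
  have hne : ρ (v 44) ≠ ρ (v 47) := by
    intro h
    have h1 := (hρ _ h44).2
    rw [h] at h1
    have h2 : XF K (v 44) = XF K (v 47) := by
      ext y
      rw [← h1 y, (hρ _ h47).2 y]
    exact absurd (v_inj (by norm_num) (by norm_num) (X_injective R h44 h47 h2)) (by norm_num)
  -- back to `α`
  have hback : ∀ {r : Fin 4 → ℤ}, Dom r → ∀ x ∈ XF K r, α x ∈ XF K (ρ r) := by
    intro r hr x hx
    have h1 : β x ∈ XF K (ρ r) := ((hρ r hr.root).2 x).2 hx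
    have h2 : α x = (u * e)⁻¹ * β x * (u * e) := by
      rw [hβ]
      show α x = (u * e)⁻¹ * (u * (e * α x * e⁻¹) * u⁻¹) * (u * e)
      group
    have h3 : u * e * β x = β x * (u * e) := by
      have h4 := pos_comm (hdom hr) hu h1
      have h5 := ((sysF (K := K) cF).lr (hdom hr).root).comm' (he' (hdom hr)) h1
      calc u * e * β x = u * (e * β x) := by group
        _ = u * β x * e := by rw [h5]; group
        _ = β x * (u * e) := by rw [h4]; group
    have h4 : α x = β x := by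
      rw [h2]
      calc (u * e)⁻¹ * β x * (u * e) = (u * e)⁻¹ * (β x * (u * e)) := by group
        _ = β x := by rw [← h3]; group
    rw [h4]; exact h1
  have h1 := hback (Or.inr rfl) a ha
  have h2 := hback (Or.inl rfl) b hb
  rcases hdom (Or.inr rfl : Dom (v 44)) with h3 | h3 <;> rcases hdom (Or.inl rfl : Dom (v 47)) with h4 | h4
  · exact absurd (h3.trans h4.symm) hne
  · rw [h3] at h1; rw [h4] at h2; exact Or.inr ⟨h1, h2⟩
  · rw [h3] at h1; rw [h4] at h2; exact Or.inl ⟨h1, h2⟩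
  · exact absurd (h3.trans h4.symm) hne

end Cfsg.Agent.Omega.HOneEnd.FFour

end

-- merged: Cfsg.Agent.Mrg.Omega.HOneEnd.FFourPerm
section

/-!
# `FFourG` for `F₄(q)`, `q` even, with graph elements: `perm`, `trans2`, `mixQ` (helper866)

`EmbG j S Y` : the hypotheses of `Emb` without `len`.

* `EmbG.emb` : `Emb j (S ⊓ N(X_s)) Y`;
* `EmbG.perm_X` : an element of `S` normalises `X_l`, `X_s` or exchanges them;
* `EmbG.perm`   : the field `perm`;
* `trans2_G`, `mixQ_G` : the fields `trans2`, `mixQ_s`, `mixQ_l`.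
-/

set_option autoImplicit false
set_option Elab.async false
set_option linter.unusedSectionVars false

namespace Cfsg.Agent.Omega.HOneEnd.FFour

open CoxeterSystem Cfsg.Agent.ChevalleyStructure.CoxeterGeom Cfsg.Agent.Tits.Roots Cfsg.Agent.Tits.Core
open Cfsg.Lie Cfsg.Agent.ChevalleyStructure Cfsg.Agent.ChevalleyStructure.Elts
  Cfsg.Agent.ChevalleyStructure.RootVec Cfsg.Agent.ChevalleyStructure.CoxeterGeomTypes
open Cfsg.Agent.Nodes Cfsg.Agent.Nodes.Reps Cfsg.Agent.Nodes.BNOf Cfsg.Agent.Nodes.RGDChev Cfsg.Agent.Nodes.Coroot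
  Cfsg.Agent.Nodes.KindF Cfsg.Agent.Nodes.Bruhat Cfsg.Agent.Nodes.OppDec Cfsg.Agent.Nodes.LeviDec
  Cfsg.Agent.Nodes.NormalForm Cfsg.Agent.KFacts.ChevTwo Cfsg.Agent.KFacts.ChevTwoTab
  Cfsg.Agent.KFacts.ChevTwoInst Cfsg.Agent.KFacts.RgdTI Cfsg.Agent.KFacts.RgdAut Cfsg.Agent.KFacts.RgdDiag
  Cfsg.Agent.KFacts.RgdRigid Cfsg.Agent.KFacts.RgdField Cfsg.Agent.KFacts.RgdTau Cfsg.Agent.KFacts.RgdSys
  Cfsg.Agent.KFacts.RgdAutFacts Cfsg.Agent.KFacts.RgdGraphF4 Cfsg.Agent.KFacts.RgdOver Cfsg.Agent.KFacts.RgdFixU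
  Cfsg.Agent.KFacts.F4Star Cfsg.Agent.KFacts.F4Cent Cfsg.Agent.KFacts.F4Pair Cfsg.Agent.KFacts.F4Torus
  Cfsg.Agent.KFacts.F4Perf Cfsg.Agent.KFacts.F4Aut
open Cfsg.Agent.OddHalf.D7F4 (Model.rts)
open Cfsg.Agent.KFacts.F4Model (phi_iff)

universe u v

/-! ### The roots `v 47`, `v 44` -/

theorem vA : v 47 = ![2, 4, 3, 2] := by decide +kernel
theorem vB : v 44 = ![2, 3, 2, 1] := by decide +kernel

theorem tabZ : ∀ z ∈ Model.rts, z 0 = 2 * (z 1 - z 2) → z 0 = 2 * (z 2 - z 3) → z 0 < 2 * z 3 → ¬ z 3 < z 0 := by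
  decide +kernel

theorem closedZ : Unique.Closed cF isType.isCartan {v 47, v 44} := by
  have hW := finW
  have key : ∀ z, IsRoot cF isType.isCartan z → ∀ m a b : ℤ, 0 < m → 0 < a → 0 < b →
      m • z = a • v 47 + b • v 44 → False := by
    intro z hz m a b hm ha hb he
    rw [vA, vB] at he
    have e0 : m * z 0 = a * 2 + b * 2 := congrFun he 0
    have e1 : m * z 1 = a * 4 + b * 3 := congrFun he 1
    have e2 : m * z 2 = a * 3 + b * 2 := congrFun he 2
    have e3 : m * z 3 = a * 2 + b * 1 := congrFun he 3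
    refine tabZ z ((phi_iff cF z).2 hz) ?_ ?_ ?_ ?_
    · exact mul_left_cancel₀ hm.ne' (by linear_combination e0 - 2 * e1 + 2 * e2)
    · exact mul_left_cancel₀ hm.ne' (by linear_combination e0 - 2 * e2 + 2 * e3)
    · exact lt_of_mul_lt_mul_left (a := m) (by nlinarith) hm.le
    · exact lt_of_mul_lt_mul_left (a := m) (by nlinarith) hm.le
  rintro x hx y hy z hz
  have hxx : ∀ w, IsRoot cF isType.isCartan w → Btwn cF isType.isCartan w w z → z = w := fun w hw h =>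
    KFacts.RgdInd.closed_singleton hw w rfl w rfl z h
  obtain ⟨hz', m, a, b, hm, ha, hb, he⟩ := hz
  rcases hx with rfl | hx <;> rcases hy with rfl | hy
  · exact Or.inl (hxx _ (Dom.root (Or.inl rfl)) ⟨hz', m, a, b, hm, ha, hb, he⟩)
  · rw [Set.mem_singleton_iff] at hy
    subst hy
    exact (key z hz' m a b hm ha hb he).elim
  · rw [Set.mem_singleton_iff] at hx
    subst hx
    exact (key z hz' m b a hm hb ha (by rw [he, add_comm])).elim
  · rw [Set.mem_singleton_iff] at hx hy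
    subst hx
    subst hy
    exact Or.inr (hxx _ (Dom.root (Or.inr rfl)) ⟨hz', m, a, b, hm, ha, hb, he⟩)

section K

variable {K : Type v} [Field K] [Finite K] [CharP K 2]

/-- the height -/
def hgt : (Fin 4 → ℤ) →+ ℤ where
  toFun x := x 0 + x 1 + x 2 + x 3
  map_zero' := rfl
  map_add' x y := by simp only [Pi.add_apply]; ring

theorem hgt_pos {x : Fin 4 → ℤ} (hx : x ∈ RGD.Pos cF isType.isCartan) : 0 < hgt x := by
  have h0 : ∀ i, 0 ≤ x i := fun i => hx.2 i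
  by_contra hc
  have h1 : x 0 + x 1 + x 2 + x 3 ≤ 0 := not_lt.1 hc
  have h2 : x = 0 := by
    funext i
    have := h0 0
    have := h0 1
    have := h0 2
    have := h0 3
    fin_cases i <;> simp <;> omega
  have hW := finW
  have h3 := Cfsg.Agent.OddHalf.D7F4.Model.norm x ((phi_iff cF x).2 hx.1)
  rw [h2] at h3
  revert h3
  decide

/-- a positive root group which meets `X₄₇ X₄₄` -/
theorem dom_of_mem {x : Fin 4 → ℤ} (hx : x ∈ RGD.Pos cF isType.isCartan) {z : ↥(chevF4.group K)} (hz : z ∈ XF K x)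
    (hz1 : z ≠ 1) (h : z ∈ RGD.Sup (XF K) {v 47, v 44}) : Dom x := by
  have hW := finW
  have : Fact (Nat.Prime 2) := ⟨Nat.prime_two⟩
  by_contra hD
  have h1 := Cfsg.Agent.KFacts.RgdInd.inf_eq_of_pos (rgd (K := K) isType cF 2) hgt (S := {x}) (S' := {v 47, v 44})
    (by intro w hw; rw [Set.mem_singleton_iff] at hw; rw [hw]; exact ⟨hx.1, hgt_pos hx⟩)
    (by
      intro w hw
      have hw' : Dom w := hw
      have h2 : w ∈ RGD.Pos cF isType.isCartan := hw'.rad_sub (self_mem_rad hw'.root)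
      exact ⟨h2.1, hgt_pos h2⟩)
    (Cfsg.Agent.KFacts.RgdInd.closed_singleton hx.1) closedZ
  have h2 : z ∈ RGD.Sup (XF K) {x} ⊓ RGD.Sup (XF K) {v 47, v 44} :=
    Subgroup.mem_inf.2 ⟨RGD.le_Sup (S := {x}) rfl hz, h⟩
  rw [h1] at h2
  have h3 : ({x} ∩ {v 47, v 44} : Set (Fin 4 → ℤ)) = ∅ := by
    ext w
    constructor
    · rintro ⟨hw, h4⟩
      rw [Set.mem_singleton_iff] at hw
      exact (hD (hw ▸ h4)).elim
    · intro h4; exact h4.elim
  rw [h3] at h2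
  exact hz1 (Subgroup.mem_bot.1
    ((RGD.Sup_le fun z hz => absurd hz (Set.notMem_empty z) : RGD.Sup (XF K) ∅ ≤ ⊥) h2))

/-- `X_x ≤ U` only for positive `x` -/
theorem pos_of_mem {x : Fin 4 → ℤ} (hx : IsRoot cF isType.isCartan x) {z : ↥(chevF4.group K)} (hz : z ∈ XF K x)
    (hz1 : z ≠ 1) (h : z ∈ RGD.Sup (XF K) (RGD.Pos cF isType.isCartan)) : x ∈ RGD.Pos cF isType.isCartan := by
  have hW := finW
  have : Fact (Nat.Prime 2) := ⟨Nat.prime_two⟩
  rcases hx.pos_or_neg with h1 | h1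
  · exact ⟨hx, h1⟩
  · exfalso
    have h2 := U_inf_UN (rgd (K := K) isType cF 2)
    have h3 : z ∈ UN cF isType.isCartan (XF K) := RGD.le_Sup (S := Neg cF isType.isCartan) ⟨hx, h1⟩ hz
    have h4 : z ∈ RGD.Sup (XF K) (RGD.Pos cF isType.isCartan) ⊓ UN cF isType.isCartan (XF K) := ⟨h, h3⟩
    rw [h2, Subgroup.mem_bot] at h4
    exact hz1 h4

/-- the images of the dominant root groups under an automorphism fixing `U` -/
theorem exists_image {α : MulAut ↥(chevF4.group K)} (hU : Fix α (RGD.Sup (XF K) (RGD.Pos cF isType.isCartan))) :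
    (∀ r, Dom r → ∀ z ∈ XF K r, α z ∈ XF K r) ∨
      ((∀ z ∈ XF K (v 47), α z ∈ XF K (v 44)) ∧ ∀ z ∈ XF K (v 44), α z ∈ XF K (v 47)) := by
  have hG1 := G1_eq_top (K := K) isType cF
  have hG := GG_top (K := K) cF
  obtain ⟨R, hR⟩ : ∃ R, R = rgd (K := K) isType cF 2 := ⟨_, rfl⟩
  obtain ⟨u, hu, hU', hB, hUN, hBN, hT⟩ := Cfsg.Agent.KFacts.RgdAut.exists_frame R hG hU
  obtain ⟨β, hβ⟩ : ∃ β, β = MulAut.conj u * α := ⟨_, rfl⟩
  rw [← hβ] at hU' hB hUN hBN hT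
  obtain ⟨σ, D⟩ := exists_diag R hG hU' hUN
  -- `β X_r = X_{r'}`
  have key : ∀ r, Dom r → ∃ r', Dom r' ∧ (∀ z ∈ XF K r, α z ∈ XF K r') ∧
      (σ = 1 → (Lg cF r' ↔ Lg cF r)) ∧ ((σ 0 = 3 ∧ σ 1 = 2 ∧ σ 2 = 1 ∧ σ 3 = 0) → (Lg cF r' ↔ ¬ Lg cF r)) := by
    intro r hr
    obtain ⟨w, i, hwi⟩ := hr.root
    have hW := finW
    obtain ⟨x', hx'⟩ : ∃ x', x' = rep cF isType.isCartan (hat cF σ (D.matrix R) w) (sr (σ i)) := ⟨_, rfl⟩
    have hroot : IsRoot cF isType.isCartan x' := ⟨_, _, hx'⟩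
    have hm : ∀ z ∈ XF K r, β z ∈ XF K x' := by
      intro z hz
      rw [hwi] at hz
      rw [hx']
      exact (D.root R (D.matrix R) w i z).2 hz
    -- `x'` is dominant
    obtain ⟨z, hz, hz1⟩ := X_ne (K := K) hr.root
    have hbz1 : β z ≠ 1 := fun h => hz1 (by
      have := congrArg β.symm h
      rwa [MulEquiv.symm_apply_apply, map_one] at this)
    have hzU : z ∈ RGD.Sup (XF K) (RGD.Pos cF isType.isCartan) :=
      RGD.le_Sup (hr.rad_sub (self_mem_rad hr.root)) hz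
    have hpos := pos_of_mem hroot (hm z hz) hbz1 ((hU' z).2 hzU)
    have hcen : β z ∈ RGD.Sup (XF K) {v 47, v 44} := by
      refine cent_rad2 fun y hy => ?_
      have hyU : y ∈ RGD.Sup (XF K) (RGD.Pos cF isType.isCartan) := RGD.Sup_mono (by
        rintro a (ha | ha)
        · exact Dom.rad_sub (Or.inl rfl) ha
        · exact Dom.rad_sub (Or.inr rfl) ha) hy
      have h1 : β.symm y ∈ RGD.Sup (XF K) (RGD.Pos cF isType.isCartan) := by
        have := hU' (β.symm y)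
        rw [MulEquiv.apply_symm_apply] at this
        exact this.1 hyU
      have h2 := congrArg β (pos_comm hr h1 hz)
      rw [map_mul, map_mul, MulEquiv.apply_symm_apply] at h2
      exact h2.symm
    have hD : Dom x' := dom_of_mem hpos (hm z hz) hbz1 hcen
    refine ⟨x', hD, fun y hy => ?_, ?_, ?_⟩
    · have h1 := hm y hy
      have h2 : α y = u⁻¹ * β y * u := by
        rw [hβ, MulAut.mul_apply, MulAut.conj_apply]; group
      rw [h2, pos_comm hD (inv_mem hu) h1, inv_mul_cancel_right]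
      exact h1
    · intro h1
      rw [hx', lg_rep_iff cF, h1, hwi, lg_rep_iff cF]
      rfl
    · intro h1
      rw [hx', lg_rep_iff cF, hwi, lg_rep_iff cF]
      exact lg_swap cF h1 i
  have hL : Lg cF (v 47) := (testBit_long cF (by norm_num)).1 (by decide +kernel)
  have hS : ¬ Lg cF (v 44) := fun h => by
    have := (testBit_long cF (by norm_num)).2 h
    revert this
    decide +kernel
  rcases perm_F4 σ (D.matrix R) with h1 | h1
  · left
    intro r hr z hz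
    obtain ⟨r', hr', h2, h3, -⟩ := key r hr
    have h4 := h3 h1
    have h5 : r' = r := by
      rcases hr with rfl | rfl <;> rcases hr' with rfl | rfl
      · rfl
      · exact absurd (h4.2 hL) hS
      · exact absurd (h4.1 hL) hS
      · rfl
    exact h5 ▸ h2 z hz
  · right
    constructor
    · intro z hz
      obtain ⟨r', hr', h2, -, h3⟩ := key _ (Or.inl rfl)
      have h4 := h3 h1
      rcases hr' with rfl | rfl
      · exact absurd hL (h4.1 hL)
      · exact h2 z hz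
    · intro z hz
      obtain ⟨r', hr', h2, -, h3⟩ := key _ (Or.inr rfl)
      have h4 := h3 h1
      rcases hr' with rfl | rfl
      · exact h2 z hz
      · exact absurd (h4.2 hS) hS

end K

section Over

open Subgroup Cfsg.Agent.Omega.All.HOne

variable {K : Type v} [Field K] [Finite K] [CharP K 2] {G : Type u} [Group G] {j : ↥(chevF4.group K) →* G}

variable (j) in
/-- The hypotheses of `Emb` without `len`: graph automorphisms are allowed. -/
structure EmbG (S Y : Subgroup G) : Prop where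
  inj : Function.Injective j
  two : IsPGroup 2 S
  S_Y : S ≤ Y
  G_Y : j.range ≤ Y
  Y_G : Y ≤ Subgroup.normalizer (j.range : Set G)
  S₀ : S ⊓ j.range = SG j (RGD.Pos cF isType.isCartan)
  cent : ∀ g : G, (∀ x, g * j x = j x * g) → g = 1

/-- `U` normalises the dominant root groups. -/
theorem U_le_norm {r : Fin 4 → ℤ} (hr : Dom r) :
    SG j (RGD.Pos cF isType.isCartan) ≤ normalizer (XG j r : Set G) := by
  refine le_normalizer_of ?_
  rintro _ ⟨u, hu, rfl⟩ _ ⟨z, hz, rfl⟩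
  rw [← map_mul, pos_comm hr hu hz, ← map_inv, ← map_mul, mul_inv_cancel_right]
  exact ⟨z, hz, rfl⟩

namespace EmbG

variable {S Y : Subgroup G} (E : EmbG j S Y)

include E

/-- `S₁ = N_S(X_r)` -/
theorem emb {r : Fin 4 → ℤ} (hr : Dom r) : Emb j (S ⊓ normalizer (XG j r : Set G)) Y where
  inj := E.inj
  two := E.two.to_le inf_le_left
  S_Y := inf_le_left.trans E.S_Y
  G_Y := E.G_Y
  Y_G := E.Y_G
  S₀ := by
    apply le_antisymm
    · rw [← E.S₀]
      exact inf_le_inf_right _ inf_le_left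
    · have h1 : SG j (RGD.Pos cF isType.isCartan) ≤ S ⊓ j.range := E.S₀.ge
      exact le_inf (le_inf (h1.trans inf_le_left) (U_le_norm hr)) (h1.trans inf_le_right)
  cent := E.cent
  len := ⟨r, hr, inf_le_right⟩

theorem S_G : S ≤ normalizer (j.range : Set G) := E.S_Y.trans E.Y_G

theorem S_U : S ≤ normalizer (SG j (RGD.Pos cF isType.isCartan) : Set G) := by
  refine le_normalizer_of fun t ht z hz => ?_
  rw [← E.S₀, Subgroup.mem_inf] at hz ⊢
  exact ⟨mul_mem (mul_mem ht hz.1) (inv_mem ht), (Subgroup.mem_normalizer_iff.1 (E.S_G ht) z).1 hz.2⟩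

theorem conj_aux {t : G} (ht : t ∈ S) :
    (∀ r, Dom r → ∀ z ∈ XG j r, t * z * t⁻¹ ∈ XG j r) ∨
      ((∀ z ∈ XG j (v 47), t * z * t⁻¹ ∈ XG j (v 44)) ∧ ∀ z ∈ XG j (v 44), t * z * t⁻¹ ∈ XG j (v 47)) := by
  rcases exists_image (fix_act j E.inj (g := ⟨t, E.S_G ht⟩) (E.S_U ht)) with h | ⟨h1, h2⟩
  · left
    rintro r hr _ ⟨z, hz, rfl⟩
    exact ⟨_, h r hr z hz, f_act j E.inj ⟨t, E.S_G ht⟩ z⟩
  · right
    constructor
    · rintro _ ⟨z, hz, rfl⟩
      exact ⟨_, h1 z hz, f_act j E.inj ⟨t, E.S_G ht⟩ z⟩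
    · rintro _ ⟨z, hz, rfl⟩
      exact ⟨_, h2 z hz, f_act j E.inj ⟨t, E.S_G ht⟩ z⟩

end EmbG

theorem XG_ne_XG (hj : Function.Injective j) {z : G} (h1 : z ∈ XG j (v 47)) (h2 : z ∈ XG j (v 44)) : z = 1 := by
  obtain ⟨x, hx, rfl⟩ := h1
  obtain ⟨y, hy, e⟩ := h2
  have h3 : y = x := hj e
  subst h3
  have h4 := Cfsg.Agent.KFacts.F4Model.ind (Dom.mem (Or.inl rfl)) (Dom.mem (Or.inr rfl))
    (by rw [v47_rho, v44_s0]; decide +kernel) y hx hy
  rw [h4, map_one]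

namespace EmbG

variable {S Y : Subgroup G} (E : EmbG j S Y)

include E

/-- **`S` permutes the two dominant root groups.** -/
theorem perm_X {t : G} (ht : t ∈ S) :
    (∀ r, Dom r → (XG j r).map (MulAut.conj t).toMonoidHom = XG j r) ∨
      ((XG j (v 47)).map (MulAut.conj t).toMonoidHom = XG j (v 44) ∧
        (XG j (v 44)).map (MulAut.conj t).toMonoidHom = XG j (v 47)) := by
  have hne : XG j (v 47) ≠ ⊥ := XG_ne E.inj (Or.inl rfl)
  rw [ne_eq, eq_bot_iff_forall] at hne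
  push Not at hne
  obtain ⟨z₀, hz₀, hz₁⟩ := hne
  have aux : ∀ (t z : G), t * (t⁻¹ * z * t⁻¹⁻¹) * t⁻¹ = z := fun t z => by group
  have hz1' : ∀ t : G, t⁻¹ * z₀ * t⁻¹⁻¹ ≠ 1 := fun t h => hz₁ (by
    have := aux t z₀
    rw [h, mul_one, mul_inv_cancel] at this
    exact this.symm)
  rcases E.conj_aux ht with h | ⟨h1, h2⟩
  · left
    rcases E.conj_aux (inv_mem ht) with h' | ⟨h1', -⟩
    · intro r hr
      apply le_antisymm
      · rintro _ ⟨z, hz, rfl⟩
        exact h r hr z hz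
      · intro z hz
        exact ⟨_, h' r hr z hz, aux t z⟩
    · exfalso
      have h3 := h _ (Or.inr rfl) _ (h1' z₀ hz₀)
      rw [aux] at h3
      exact hz₁ (XG_ne_XG E.inj hz₀ h3)
  · right
    rcases E.conj_aux (inv_mem ht) with h' | ⟨h1', h2'⟩
    · exfalso
      have h3 := h1 _ (h' _ (Or.inl rfl) _ hz₀)
      rw [aux] at h3
      exact hz₁ (XG_ne_XG E.inj hz₀ h3)
    · constructor
      · apply le_antisymm
        · rintro _ ⟨z, hz, rfl⟩
          exact h1 z hz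
        · intro z hz
          exact ⟨_, h2' z hz, aux t z⟩
      · apply le_antisymm
        · rintro _ ⟨z, hz, rfl⟩
          exact h2 z hz
        · intro z hz
          exact ⟨_, h1' z hz, aux t z⟩

omit E in
theorem map_centralizer (t : G) (X : Subgroup G) :
    (centralizer (X : Set G)).map (MulAut.conj t).toMonoidHom =
      centralizer ((X.map (MulAut.conj t).toMonoidHom : Subgroup G) : Set G) := by
  apply le_antisymm
  · rintro _ ⟨c, hc, rfl⟩
    rw [mem_centralizer_iff]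
    rintro _ ⟨x, hx, rfl⟩
    have h := mem_centralizer_iff.1 hc x hx
    show t * x * t⁻¹ * (t * c * t⁻¹) = t * c * t⁻¹ * (t * x * t⁻¹)
    calc t * x * t⁻¹ * (t * c * t⁻¹) = t * (x * c) * t⁻¹ := by group
      _ = t * (c * x) * t⁻¹ := by rw [h]
      _ = _ := by group
  · intro c hc
    refine ⟨t⁻¹ * c * t, mem_centralizer_iff.2 fun x hx => ?_, by
      show t * (t⁻¹ * c * t) * t⁻¹ = c
      group⟩
    have h := mem_centralizer_iff.1 hc (t * x * t⁻¹) ⟨x, hx, rfl⟩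
    calc x * (t⁻¹ * c * t) = t⁻¹ * (t * x * t⁻¹ * c) * t := by group
      _ = t⁻¹ * (c * (t * x * t⁻¹)) * t := by rw [h]
      _ = _ := by group

/-- `X_r^t = X_s ⟹ C_r^t = C_s`, `Q_r^t = Q_s`, `U_r^t = U_s` -/
theorem map_of_map [Finite G] {t : G} (ht : t ∈ S) {r s : Fin 4 → ℤ} (hr : Dom r) (hs : Dom s)
    (h : (XG j r).map (MulAut.conj t).toMonoidHom = XG j s) :
    (CG j r).map (MulAut.conj t).toMonoidHom = CG j s ∧ (QG j r).map (MulAut.conj t).toMonoidHom = QG j s ∧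
      (UG j r).map (MulAut.conj t).toMonoidHom = UG j s := by
  have E₁ := E.emb (Or.inr rfl : Dom (v 44))
  -- one inclusion is enough
  have hC : ∀ {t : G}, t ∈ S → ∀ {r s : Fin 4 → ℤ}, Dom r → Dom s →
      (XG j r).map (MulAut.conj t).toMonoidHom = XG j s → (CG j r).map (MulAut.conj t).toMonoidHom = CG j s := by
    intro t ht r s hr hs h
    rw [E₁.CG_eq hr, E₁.CG_eq hs, map_inf _ _ _ (MulAut.conj t).injective, map_centralizer, h]
    congr 1
    exact map_eq_of_mem_normalizer (E.S_G ht)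
  have hinv : ∀ {A B : Subgroup G}, A.map (MulAut.conj t).toMonoidHom = B →
      B.map (MulAut.conj t⁻¹).toMonoidHom = A := by
    rintro A _ rfl
    rw [map_map]
    convert A.map_id
    ext x
    show t⁻¹ * (t * x * t⁻¹) * t⁻¹⁻¹ = x
    group
  have hQ : ∀ {t : G}, t ∈ S → ∀ {r s : Fin 4 → ℤ}, Dom r → Dom s →
      (XG j r).map (MulAut.conj t).toMonoidHom = XG j s → (QG j r).map (MulAut.conj t).toMonoidHom ≤ QG j s := by
    intro t ht r s hr hs h
    have h1 := hC ht hr hs h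
    refine E₁.Q_max hs.root ?_ ?_ ?_
    · exact (E.two.to_le ((SG_mono hr.rad_sub).trans (E.S₀.ge.trans inf_le_left))).map _
    · exact (map_mono SG_le_range).trans (map_eq_of_mem_normalizer (E.S_G ht)).le
    · rw [← h1]
      rintro _ ⟨c, hc, rfl⟩
      have h2 : c ∈ normalizer (QG j r : Set G) := by
        obtain ⟨c', hc', rfl⟩ := hc
        have h3 := ge_le_normalizer (K := K) hr.root hc'
        exact map_mem_normalizer h3
      rw [mem_normalizer_iff]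
      intro y
      have h4 : ∀ y, y ∈ (QG j r).map (MulAut.conj t).toMonoidHom ↔ t⁻¹ * y * t ∈ QG j r := by
        intro y
        constructor
        · rintro ⟨w, hw, rfl⟩
          have e : t⁻¹ * ((MulAut.conj t).toMonoidHom w) * t = w := by
            show t⁻¹ * (t * w * t⁻¹) * t = w
            group
          rw [e]; exact hw
        · intro hy
          exact ⟨_, hy, by show t * (t⁻¹ * y * t) * t⁻¹ = y; group⟩
      rw [h4, h4, mem_normalizer_iff.1 h2]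
      have e : c * (t⁻¹ * y * t) * c⁻¹ =
          t⁻¹ * ((MulAut.conj t).toMonoidHom c * y * ((MulAut.conj t).toMonoidHom c)⁻¹) * t := by
        show c * (t⁻¹ * y * t) * c⁻¹ = t⁻¹ * (t * c * t⁻¹ * y * (t * c * t⁻¹)⁻¹) * t
        group
      rw [e]
  have hQ' : (QG j r).map (MulAut.conj t).toMonoidHom = QG j s := by
    refine le_antisymm (hQ ht hr hs h) ?_
    have h2 := hQ (inv_mem ht) hs hr (hinv h)
    intro y hy
    refine ⟨_, h2 ⟨y, hy, rfl⟩, ?_⟩
    show t * (t⁻¹ * y * t⁻¹⁻¹) * t⁻¹ = y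
    group
  refine ⟨hC ht hr hs h, hQ', ?_⟩
  rw [UG_eq E.inj hr, UG_eq E.inj hs, map_inf _ _ _ (MulAut.conj t).injective, map_centralizer, hQ']

/-- **The field `perm`.** -/
theorem perm [Finite G] {r s : Fin 4 → ℤ} (hr : Dom r) (hs : Dom s) (hrs : r ≠ s) : ∀ t ∈ S,
    (t ∈ normalizer (QG j s : Set G) ∧ t ∈ normalizer (QG j r : Set G)) ∨
    ((QG j s).map (MulAut.conj t).toMonoidHom = QG j r ∧ (QG j r).map (MulAut.conj t).toMonoidHom = QG j s) := by
  intro t ht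
  rcases E.perm_X ht with h | ⟨h1, h2⟩
  · exact Or.inl ⟨mem_normalizer_of_map_eq (E.map_of_map ht hs hs (h s hs)).2.1,
      mem_normalizer_of_map_eq (E.map_of_map ht hr hr (h r hr)).2.1⟩
  · right
    have h3 := (E.map_of_map ht (Or.inl rfl) (Or.inr rfl) h1).2.1
    have h4 := (E.map_of_map ht (Or.inr rfl) (Or.inl rfl) h2).2.1
    rcases hr with rfl | rfl <;> rcases hs with rfl | rfl
    · exact absurd rfl hrs
    · exact ⟨h4, h3⟩
    · exact ⟨h3, h4⟩
    · exact absurd rfl hrs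

end EmbG

/-- **The field `trans2`.** -/
theorem trans2_G (hj : Function.Injective j) {Y : Subgroup G} (hY : j.range ≤ Y) {r s : Fin 4 → ℤ} (hr : Dom r)
    (hs : Dom s) (hrs : r ≠ s) : ∀ a ∈ XG j s, ∀ b ∈ XG j r, ∀ a' ∈ XG j s, ∀ b' ∈ XG j r, a ≠ 1 → b ≠ 1 → a' ≠ 1 →
    b' ≠ 1 → ∃ y ∈ Y, y * a * y⁻¹ = a' ∧ y * b * y⁻¹ = b' := by
  intro a ha b hb a' ha' b' hb' h1 h2 h1' h2'
  rcases hr with rfl | rfl <;> rcases hs with rfl | rfl
  · exact absurd rfl hrs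
  · obtain ⟨t, -, h3, h4⟩ := torus_G hj ha ha' hb hb' h1 h1' h2 h2'
    exact ⟨j t, hY ⟨t, rfl⟩, h3, h4⟩
  · obtain ⟨t, -, h3, h4⟩ := torus_G hj hb hb' ha ha' h2 h2' h1 h1'
    exact ⟨j t, hY ⟨t, rfl⟩, h4, h3⟩
  · exact absurd rfl hrs

/-- **The field `mixQ_s`** (and `mixQ_l`). -/
theorem mixQ_G (hj : Function.Injective j) {s : Fin 4 → ℤ} (hs : Dom s) {QQ Q' : Subgroup G} (hQ : QG j s ≤ QQ) :
    ∀ w ∈ QG j s ⊓ Q', w ∉ UG j s → ∀ x ∈ XG j s, ∃ y ∈ QQ, y * w * y⁻¹ = w * x := by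
  intro w hw hU x hx
  obtain ⟨y, hy, h⟩ := mix_G hj hs w hw.1 hU x hx
  exact ⟨y, hQ hy, h⟩

end Over

end Cfsg.Agent.Omega.HOneEnd.FFour

end

-- merged: Cfsg.Agent.KFacts.F4Faith
section

/-!
`F₄(q)`, `q ≥ 2` even: two commutator facts of `Q_s Q_l`, in a chart `F4Rl.Rl` (K-group facts for OMEGA #16413; F4).

* `faith` : `w ∈ Q_s Q_l` with `[w, Q_l] ≤ U_l` lies in `Q_l`;
* `elJ` : a group of exponent two in `Q_s Q_l` centralising `J₀` lies in `U_l J₀` or `U_s J₀`; `inf_UJ`;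
* `elJ_of` : the consequence for groups normalised by an element which exchanges `Q_s` and `Q_l`.
-/

set_option autoImplicit false
set_option Elab.async false
set_option linter.unusedSectionVars false

namespace Cfsg.Agent.KFacts.F4Faith

open Cfsg.Agent.KFacts.F4Star Cfsg.Agent.KFacts.F4Rl Cfsg.Agent.KFacts.F4Side Cfsg.Agent.KFacts.F4Form
  Cfsg.Agent.KFacts.F4Two
open scoped commutatorElement

/-- partners of `42, 43, 45, 46` -/
def gg (i : Fin 4) : ℕ := ![32, 31, 26, 24] i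
/-- the long roots of `Q_s ∩ Q_l` -/
def hh (i : Fin 4) : ℕ := ![42, 43, 45, 46] i

theorem gg_lt : ∀ i, gg i < 48 := by decide
theorem hh_lt : ∀ i, hh i < 48 := by decide
theorem a_gh : ∀ i, a1 (gg i) (hh i) 47 = true := by decide +kernel
theorem n_gh : ∀ i k, k ≠ i → (nn (gg k)).testBit (hh i) = true := by decide +kernel
theorem gg_Ql : ∀ i, mQl.testBit (gg i) = true := by decide +kernel
theorem hh_L : ∀ i, (mJ0 + 2 ^ 29).testBit (hh i) = true := by decide +kernel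

variable {F Y : Type*} [Field F] [CharP F 2] [Group Y] {e : ℕ → F → Y} {X : ℕ → Subgroup Y}

/-- `t` = the coordinates of `j` at `42, 43, 45, 46` -/
def Gm (e : ℕ → F → Y) (j : Y) (t : Fin 4 → F) : Prop := ∀ i s, ⁅e (gg i) s, j⁆ = e 47 (s * t i)

/-- `[w, e_c(1)]` has coordinates `t` -/
def Tm (e : ℕ → F → Y) (X : ℕ → Subgroup Y) (c : ℕ) (w : Y) (t : Fin 4 → F) : Prop :=
  ⁅w, e c 1⁆ ∈ SP X (mJ0 + 2 ^ 29) ∧ Gm e ⁅w, e c 1⁆ t

variable (R : Rl e X)

include R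

theorem Gm.unique {j : Y} {t t' : Fin 4 → F} (h : Gm e j t) (h' : Gm e j t') : t = t' := by
  funext i
  have h1 := (h i 1).symm.trans (h' i 1)
  rw [one_mul, one_mul] at h1
  exact R.e_inj (by norm_num) h1

theorem Gm.mul {j j' : Y} (hj : j ∈ SP X mQl) {t t' : Fin 4 → F} (h : Gm e j t) (h' : Gm e j' t') :
    Gm e (j * j') (t + t') := by
  intro i s
  have h1 : ⁅e (gg i) s, j * j'⁆ = ⁅e (gg i) s, j⁆ * (j * ⁅e (gg i) s, j'⁆ * j⁻¹) := by
    simp only [commutatorElement_def]; group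
  have h2 : e 47 (s * t' i) ∈ SP X (2 ^ 47) := le_SP (by norm_num) (by decide +kernel) (R.e_mem (by norm_num) _)
  have h3 : j * e 47 (s * t' i) = e 47 (s * t' i) * j := R.comm_zero (P := mQl) (by decide +kernel) hj h2
  rw [h1, h i s, h' i s, h3, mul_inv_cancel_right, Pi.add_apply, mul_add, R.add 47 (by norm_num)]

theorem Gm.single (i : Fin 4) (u : F) : Gm e (e (hh i) u) (Pi.single i u) := by
  intro k s
  by_cases h : k = i
  · subst h
    rw [R.c1 _ _ _ (a_gh k), Pi.single_eq_same]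
  · rw [commutatorElement_eq_one_iff_mul_comm.2 (R.c0 _ (gg_lt k) _ (hh_lt i) (n_gh i k h) s u),
      Pi.single_eq_of_ne h, mul_zero, R.zero (by norm_num)]

/-- elements of `U_l` have zero coordinates -/
theorem Gm.zero {u : Y} (hu : u ∈ SP X mUl) : Gm e u 0 := by
  intro k s
  have h1 := comm_Ul_Ql R hu (le_SP (gg_lt k) (gg_Ql k) (R.e_mem (gg_lt k) s))
  rw [commutatorElement_eq_one_iff_mul_comm.2 h1.symm, Pi.zero_apply, mul_zero, R.zero (by norm_num)]

theorem Gm.one : Gm e (1 : Y) 0 := Gm.zero R (one_mem _)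

theorem L_Ql : SP X (mJ0 + 2 ^ 29) ≤ SP X mQl := SP_mono (by decide +kernel)

theorem Tm.mul {c : ℕ} {w w' : Y} (hw : w ∈ SP X mQQ) {t t' : Fin 4 → F} (h : Tm e X c w t) (h' : Tm e X c w' t') :
    Tm e X c (w * w') (t + t') := by
  have h0 : ⁅w * w', e c 1⁆ = ⁅w, ⁅w', e c 1⁆⁆ * ⁅w', e c 1⁆ * ⁅w, e c 1⁆ := by
    simp only [commutatorElement_def]; group
  have h1 : ⁅w, ⁅w', e c 1⁆⁆ ∈ SP X mUl :=
    R.comm_SP (P := mQQ) (Q := mJ0 + 2 ^ 29) (N := mUl) (by decide +kernel) (by decide +kernel) (by decide +kernel)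
      hw h'.1
  have h2 : ⁅w, ⁅w', e c 1⁆⁆ * ⁅w', e c 1⁆ ∈ SP X (mJ0 + 2 ^ 29) :=
    mul_mem (SP_mono (P := mUl) (by decide +kernel) h1) h'.1
  unfold Tm
  rw [h0]
  refine ⟨mul_mem h2 h.1, ?_⟩
  have h3 := Gm.mul R (L_Ql R h2) (Gm.mul R (SP_mono (P := mUl) (by decide +kernel) h1) (Gm.zero R h1) h'.2) h.2
  rw [zero_add, add_comm] at h3
  exact h3

/-- commuting root groups -/
theorem Tm.comm {c r : ℕ} (hc : c < 48) (hr : r < 48) (h : (nn r).testBit c = true) (u : F) :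
    Tm e X c (e r u) 0 := by
  unfold Tm
  rw [commutatorElement_eq_one_iff_mul_comm.2 (R.c0 r hr c hc h u 1)]
  exact ⟨one_mem _, Gm.one R⟩

/-- elements of `Q_l` -/
theorem Tm.ql {c : ℕ} (hc : c < 48) (h : mQl.testBit c = true) {q : Y} (hq : q ∈ SP X mQl) : Tm e X c q 0 := by
  have h1 := comm_Ql R hq (le_SP hc h (R.e_mem hc 1))
  have h2 : ⁅q, e c 1⁆ ∈ SP X mUl := le_SP (r := 47) (by norm_num) (by decide +kernel) h1
  exact ⟨SP_mono (P := mUl) (by decide +kernel) h2, Gm.zero R h2⟩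

/-- a short root of `Q_s` -/
theorem Tm.short {c r m : ℕ} (i : Fin 4) (h : a2 c r m (hh i) = true) (hm : mUl.testBit m = true) (u : F) :
    Tm e X c (e r u) (Pi.single i (u ^ 2)) := by
  have hm48 : m < 48 := by
    unfold a2 at h
    simp only [Bool.and_eq_true, Nat.blt_eq] at h
    exact h.1.1.1.1.1.1.2
  have h1 : ⁅e r u, e c 1⁆ = e (hh i) (u ^ 2) * e m u := by
    rw [← commutatorElement_inv, R.c2 c r m (hh i) h, one_mul, one_mul, mul_inv_rev, R.inv (hh_lt i), R.inv hm48]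
  have hmU : e m u ∈ SP X mUl := le_SP hm48 hm (R.e_mem hm48 u)
  have hL : e (hh i) (u ^ 2) ∈ SP X (mJ0 + 2 ^ 29) := le_SP (hh_lt i) (hh_L i) (R.e_mem (hh_lt i) _)
  unfold Tm
  rw [h1]
  refine ⟨mul_mem hL (SP_mono (P := mUl) (by decide +kernel) hmU), ?_⟩
  have h2 := Gm.mul R (L_Ql R hL) (Gm.single R i (u ^ 2)) (Gm.zero R hmU)
  rwa [add_zero] at h2

theorem Tm.long {c : ℕ} (i : Fin 4) (h : a1 41 c (hh i) = true) (u : F) : Tm e X c (e 41 u) (Pi.single i u) := by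
  unfold Tm
  rw [R.c1 41 c (hh i) h, mul_one]
  exact ⟨le_SP (hh_lt i) (hh_L i) (R.e_mem (hh_lt i) _), Gm.single R i u⟩

/-- **`faith`** -/
theorem faith {w : Y} (hw : w ∈ SP X mQQ) (h : ∀ q ∈ SP X mQl, ⁅w, q⁆ ∈ SP X mUl) : w ∈ SP X mQl := by
  obtain ⟨a, w1, hw1, rfl⟩ := peel R (r := 33) (P := mQQ - 2 ^ 33) (P' := mQQ) (by norm_num)
    (by decide +kernel) (by decide +kernel) hw
  obtain ⟨b, w2, hw2, rfl⟩ := peel R (r := 34) (P := mQQ - 2 ^ 33 - 2 ^ 34) (by norm_num)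
    (by decide +kernel) (by decide +kernel) hw1
  obtain ⟨c, w3, hw3, rfl⟩ := peel R (r := 35) (P := mQQ - 2 ^ 33 - 2 ^ 34 - 2 ^ 35) (by norm_num)
    (by decide +kernel) (by decide +kernel) hw2
  obtain ⟨d, w4, hw4, rfl⟩ := peel R (r := 37) (P := mQQ - 2 ^ 33 - 2 ^ 34 - 2 ^ 35 - 2 ^ 37) (by norm_num)
    (by decide +kernel) (by decide +kernel) hw3
  obtain ⟨x, q, hq, rfl⟩ := peel R (r := 41) (P := mQl) (by norm_num)
    (by decide +kernel) (by decide +kernel) hw4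
  have m33 : e 33 a ∈ SP X mQQ := le_SP (by norm_num) (by decide +kernel) (R.e_mem (by norm_num) _)
  have m34 : e 34 b ∈ SP X mQQ := le_SP (by norm_num) (by decide +kernel) (R.e_mem (by norm_num) _)
  have m35 : e 35 c ∈ SP X mQQ := le_SP (by norm_num) (by decide +kernel) (R.e_mem (by norm_num) _)
  have m37 : e 37 d ∈ SP X mQQ := le_SP (by norm_num) (by decide +kernel) (R.e_mem (by norm_num) _)
  have m41 : e 41 x ∈ SP X mQQ := le_SP (by norm_num) (by decide +kernel) (R.e_mem (by norm_num) _)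
  have key : ∀ r (_ : r < 48) (_ : mQl.testBit r = true) (t : Fin 4 → F),
      Tm e X r (e 33 a * (e 34 b * (e 35 c * (e 37 d * (e 41 x * q))))) t → t = 0 := fun r hr h1 t ht =>
    Gm.unique R ht.2 (Gm.zero R (h _ (le_SP hr h1 (R.e_mem hr 1))))
  -- `c = 24`
  have k24 := key 24 (by norm_num) (by decide +kernel) _
    (Tm.mul R m33 (Tm.comm R (r := 33) (by norm_num) (by norm_num) (by decide +kernel) a)
    (Tm.mul R m34 (Tm.comm R (r := 34) (by norm_num) (by norm_num) (by decide +kernel) b)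
    (Tm.mul R m35 (Tm.short R (r := 35) (m := 36) 1 (by decide +kernel) (by decide +kernel) c)
    (Tm.mul R m37 (Tm.short R (r := 37) (m := 38) 2 (by decide +kernel) (by decide +kernel) d)
    (Tm.mul R m41 (Tm.long R 0 (by decide +kernel) x)
      (Tm.ql R (by norm_num) (by decide +kernel) hq))))))
  have k26 := key 26 (by norm_num) (by decide +kernel) _
    (Tm.mul R m33 (Tm.comm R (r := 33) (by norm_num) (by norm_num) (by decide +kernel) a)
    (Tm.mul R m34 (Tm.short R (r := 34) (m := 36) 0 (by decide +kernel) (by decide +kernel) b)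
    (Tm.mul R m35 (Tm.comm R (r := 35) (by norm_num) (by norm_num) (by decide +kernel) c)
    (Tm.mul R m37 (Tm.short R (r := 37) (m := 39) 3 (by decide +kernel) (by decide +kernel) d)
    (Tm.mul R m41 (Tm.long R 1 (by decide +kernel) x)
      (Tm.ql R (by norm_num) (by decide +kernel) hq))))))
  have k31 := key 31 (by norm_num) (by decide +kernel) _
    (Tm.mul R m33 (Tm.short R (r := 33) (m := 38) 0 (by decide +kernel) (by decide +kernel) a)
    (Tm.mul R m34 (Tm.comm R (r := 34) (by norm_num) (by norm_num) (by decide +kernel) b)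
    (Tm.mul R m35 (Tm.short R (r := 35) (m := 40) 3 (by decide +kernel) (by decide +kernel) c)
    (Tm.mul R m37 (Tm.comm R (r := 37) (by norm_num) (by norm_num) (by decide +kernel) d)
    (Tm.mul R m41 (Tm.long R 2 (by decide +kernel) x)
      (Tm.ql R (by norm_num) (by decide +kernel) hq))))))
  have hx : x = 0 := by
    have h1 := congrFun k24 0
    simpa using h1
  have hc : c = 0 := by
    have h1 := congrFun k24 1
    simpa using h1
  have hd : d = 0 := by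
    have h1 := congrFun k24 2
    simpa using h1
  have hb : b = 0 := by
    have h1 := congrFun k26 0
    simpa using h1
  have ha : a = 0 := by
    have h1 := congrFun k31 0
    simpa using h1
  rw [ha, hb, hc, hd, hx, R.zero (by norm_num), R.zero (by norm_num), R.zero (by norm_num), R.zero (by norm_num),
    R.zero (by norm_num), one_mul, one_mul, one_mul, one_mul, one_mul]
  exact hq

/-- `J₀` has exponent two -/
theorem sq_J0 {j : Y} (hj : j ∈ SP X mJ0) : j * j = 1 := by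
  refine R.SP_ind (C := fun j => j * j = 1) (fun r hr _ t => R.sq hr t) (mul_one 1) ?_ hj
  intro x y hx hy h1 h2
  have h3 : x * y = y * x := R.comm_zero (P := mJ0) (Q := mJ0) (by decide +kernel) hx hy
  calc x * y * (x * y) = x * (y * x) * y := by group
    _ = x * (x * y) * y := by rw [h3]
    _ = (x * x) * (y * y) := by group
    _ = 1 := by rw [h1, h2, one_mul]

/-- the involutions of `C(J₀)` -/
theorem inv_J0 {x : Y} (hc : ∀ y ∈ SP X mJ0, x * y = y * x) (h2 : x * x = 1) :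
    x ∈ SP X (mJ0 + 2 ^ 29) ∨ x ∈ SP X (mJ0 + 2 ^ 41) := by
  have h1 : x ∈ SP X (starM mJ0) := R.cm mJ0 (by decide) x fun r hr h y hy => hc y (le_SP hr h hy)
  rw [star_J0] at h1
  obtain ⟨a, w, hw, rfl⟩ := peel R (r := 29) (P := mJ0 + 2 ^ 41) (by norm_num) (by decide +kernel)
    (by decide +kernel) h1
  obtain ⟨b, j, hj, rfl⟩ := peel R (r := 41) (P := mJ0) (P' := mJ0 + 2 ^ 41) (by norm_num) (by decide +kernel)
    (by decide +kernel) hw
  have c1 : j * e 29 a = e 29 a * j := R.comm_zero (P := mJ0) (Q := 2 ^ 29) (by decide +kernel) hj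
    (le_SP (by norm_num) (by decide +kernel) (R.e_mem (by norm_num) _))
  have c2 : j * e 41 b = e 41 b * j := R.comm_zero (P := mJ0) (Q := 2 ^ 41) (by decide +kernel) hj
    (le_SP (by norm_num) (by decide +kernel) (R.e_mem (by norm_num) _))
  have h3 : e 29 a * e 41 b * (e 29 a * e 41 b) = 1 := by
    rw [← h2]
    calc e 29 a * e 41 b * (e 29 a * e 41 b) = e 29 a * e 41 b * (e 29 a * e 41 b) * (j * j) := by
          rw [sq_J0 R hj, mul_one]
      _ = e 29 a * e 41 b * (e 29 a * (e 41 b * j)) * j := by group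
      _ = e 29 a * e 41 b * ((e 29 a * j) * e 41 b) * j := by rw [← c2]; group
      _ = e 29 a * (e 41 b * j) * (e 29 a * (e 41 b * j)) := by rw [← c1]; group
  have h4 : ⁅e 41 b, e 29 a⁆ = 1 := by
    rw [commutatorElement_def, R.inv (by norm_num), R.inv (by norm_num)]
    have h5 : e 41 b * e 29 a * e 41 b * e 29 a = (e 29 a)⁻¹ * (e 29 a * e 41 b * (e 29 a * e 41 b)) * e 29 a := by
      group
    rw [h5, h3]; group
  rw [R.c2 41 29 44 47 (by decide +kernel)] at h4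
  have h5 := (mul_sep R (by norm_num) (by norm_num) (by norm_num) h4).1
  rcases mul_eq_zero.1 h5 with rfl | rfl
  · left
    rw [R.zero (by norm_num), one_mul]
    exact mul_mem (le_SP (by norm_num) (by decide +kernel) (R.e_mem (by norm_num) _)) (SP_mono (by decide +kernel) hj)
  · right
    rw [R.zero (by norm_num), one_mul]
    exact mul_mem (le_SP (by norm_num) (by decide +kernel) (R.e_mem (by norm_num) _)) (SP_mono (by decide +kernel) hj)

omit R in
omit [CharP F 2] in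
theorem sup_UlJ : SP X mUl ⊔ SP X mJ0 = SP X (mJ0 + 2 ^ 29) := by
  rw [← SP_sup]; exact SP_eq (by decide +kernel)

omit R in
omit [CharP F 2] in
theorem sup_UsJ : SP X mUs ⊔ SP X mJ0 = SP X (mJ0 + 2 ^ 41) := by
  rw [← SP_sup]; exact SP_eq (by decide +kernel)

/-- **`elJ`** in index language -/
theorem elJ {E : Subgroup Y} (h2 : ∀ x ∈ E, x * x = 1) (hc : ∀ x ∈ E, ∀ y ∈ SP X mJ0, x * y = y * x) :
    E ≤ SP X mUl ⊔ SP X mJ0 ∨ E ≤ SP X mUs ⊔ SP X mJ0 := by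
  rw [sup_UlJ, sup_UsJ]
  by_contra h
  rw [not_or] at h
  obtain ⟨x, hx, hx'⟩ := Set.not_subset.1 h.1
  obtain ⟨y, hy, hy'⟩ := Set.not_subset.1 h.2
  have h1 := (inv_J0 R (hc x hx) (h2 x hx)).resolve_left hx'
  have h3 := (inv_J0 R (hc y hy) (h2 y hy)).resolve_right hy'
  rcases inv_J0 R (hc _ (mul_mem hx hy)) (h2 _ (mul_mem hx hy)) with h4 | h4
  · refine hx' ?_
    have h5 : x = x * y * y⁻¹ := by group
    rw [h5]
    exact mul_mem h4 (inv_mem h3)
  · refine hy' ?_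
    have h5 : y = x⁻¹ * (x * y) := by group
    rw [h5]
    exact mul_mem (inv_mem h1) h4

/-- `U_l J₀ ∩ U_s J₀ = J₀` -/
theorem inf_UJ : (SP X mUl ⊔ SP X mJ0) ⊓ (SP X mUs ⊔ SP X mJ0) = SP X mJ0 := by
  refine le_antisymm ?_ (le_inf le_sup_right le_sup_right)
  rw [sup_UlJ, sup_UsJ]
  rintro u ⟨h1, h2⟩
  obtain ⟨a, j, hj, rfl⟩ := peel R (r := 29) (P := mJ0) (by norm_num) (by decide +kernel) (by decide +kernel) h1
  have h3 : e 29 a ∈ SP X mQs := by
    have h4 : e 29 a = e 29 a * j * j⁻¹ := by group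
    rw [h4]
    exact mul_mem (SP_mono (P := mJ0 + 2 ^ 41) (by decide +kernel) h2) (inv_mem (SP_mono (by decide +kernel) hj))
  rw [e29_Qs R fun y hy => (comm_Us_Qs R hy h3).symm, R.zero (by norm_num), one_mul]
  exact hj

end Cfsg.Agent.KFacts.F4Faith

namespace Cfsg.Agent.KFacts.F4Faith

open Subgroup

variable {G : Type*} [Group G]

theorem map_inf_cent (s : G) (Q : Subgroup G) :
    (Q ⊓ centralizer (Q : Set G)).map (MulAut.conj s).toMonoidHom =
      Q.map (MulAut.conj s).toMonoidHom ⊓ centralizer (Q.map (MulAut.conj s).toMonoidHom : Set G) := by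
  ext x
  simp only [mem_inf, mem_map, mem_centralizer_iff]
  constructor
  · rintro ⟨u, ⟨hu, hc⟩, rfl⟩
    refine ⟨⟨u, hu, rfl⟩, ?_⟩
    rintro _ ⟨v, hv, rfl⟩
    rw [← map_mul, ← map_mul, hc v hv]
  · rintro ⟨⟨u, hu, rfl⟩, hc⟩
    refine ⟨u, ⟨hu, fun v hv => ?_⟩, rfl⟩
    have h1 := hc _ ⟨v, hv, rfl⟩
    rw [← map_mul, ← map_mul] at h1
    exact (MulAut.conj s).injective h1

/-- **`elJ`**, group level: `E` is normalised by an element which exchanges `Q_s` and `Q_l`. -/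
theorem elJ_of {Qs Ql Us Ul E : Subgroup G} (hUs : Us = Qs ⊓ centralizer (Qs : Set G))
    (hUl : Ul = Ql ⊓ centralizer (Ql : Set G))
    (h : E ≤ Ul ⊔ (Qs ⊓ Ql) ∨ E ≤ Us ⊔ (Qs ⊓ Ql)) (hinf : (Ul ⊔ (Qs ⊓ Ql)) ⊓ (Us ⊔ (Qs ⊓ Ql)) = Qs ⊓ Ql)
    {s : G} (h1 : Qs.map (MulAut.conj s).toMonoidHom = Ql) (h2 : Ql.map (MulAut.conj s).toMonoidHom = Qs)
    (hE : s ∈ normalizer (E : Set G)) : E ≤ Qs ⊓ Ql := by
  have e1 : Us.map (MulAut.conj s).toMonoidHom = Ul := by rw [hUs, map_inf_cent, h1, ← hUl]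
  have e2 : Ul.map (MulAut.conj s).toMonoidHom = Us := by rw [hUl, map_inf_cent, h2, ← hUs]
  have e3 : (Qs ⊓ Ql).map (MulAut.conj s).toMonoidHom = Qs ⊓ Ql := by
    rw [map_inf _ _ _ (MulAut.conj s).injective, h1, h2, inf_comm]
  have e4 : E ≤ E.map (MulAut.conj s).toMonoidHom := by
    intro x hx
    refine ⟨s⁻¹ * x * s, ?_, by simp [MulAut.conj_apply]; group⟩
    have h3 := (mem_normalizer_iff.1 (inv_mem hE) x).1 hx
    rwa [inv_inv] at h3
  rw [← hinf]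
  rcases h with h | h
  · refine le_inf h (e4.trans ((map_mono h).trans ?_))
    rw [Subgroup.map_sup, e2, e3]
  · refine le_inf (e4.trans ((map_mono h).trans ?_)) h
    rw [Subgroup.map_sup, e1, e3]

end Cfsg.Agent.KFacts.F4Faith

end

-- merged: Cfsg.Agent.Mrg.Omega.HOneEnd.FFourGEmb
section

/-!
# `FFourG` for `F₄(q)`, all even `q ≥ 2`, with a graph element (OMEGA #16413)

`EmbG.ffourG` : for an embedding `j : F₄(K) →* G` with `EmbG j S Y`, the two dominant roots `s ≠ r` in either order,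
`N_G(X_s) ≤ Y`, `S ∩ N_G(X_s)` a Sylow 2-subgroup of `N_G(X_s)` and an element of `S` not normalising `X_s`: `FFourG`.

`ffourG_of` : the same for `φ : G₀ ≃* F₄(K)`, `φ(R) = X_s`.
-/

set_option autoImplicit false
set_option Elab.async false
set_option linter.unusedSectionVars false

namespace Cfsg.Agent.Omega.HOneEnd.FFour

open CoxeterSystem Cfsg.Agent.ChevalleyStructure.CoxeterGeom Cfsg.Agent.Tits.Roots Cfsg.Agent.Tits.Core
open Cfsg Cfsg.Lie Cfsg.Agent.ChevalleyStructure Cfsg.Agent.ChevalleyStructure.Elts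
  Cfsg.Agent.ChevalleyStructure.RootVec Cfsg.Agent.ChevalleyStructure.CoxeterGeomTypes
open Cfsg.Agent.Nodes Cfsg.Agent.Nodes.Reps Cfsg.Agent.Nodes.BNOf Cfsg.Agent.Nodes.RGDChev Cfsg.Agent.Nodes.Coroot
  Cfsg.Agent.Nodes.KindF Cfsg.Agent.Nodes.Bruhat Cfsg.Agent.Nodes.OppDec Cfsg.Agent.KFacts.ChevTwo
  Cfsg.Agent.KFacts.ChevTwoTab Cfsg.Agent.KFacts.RgdAut Cfsg.Agent.KFacts.RgdOver
  Cfsg.Agent.KFacts.ChevTwoInst Cfsg.Agent.KFacts.RgdTI Cfsg.Agent.KFacts.RgdOdd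
  Cfsg.Agent.KFacts.F4Star Cfsg.Agent.KFacts.F4Cent Cfsg.Agent.KFacts.F4Pair Cfsg.Agent.KFacts.F4Torus
open Cfsg.Agent.KFacts.F4Rl
open Cfsg.Agent.KFacts.F4Side (mQQ mQl mQs mUl mUs mJs mJl mJ0 mPo)
open Subgroup Cfsg.Agent.ZN Cfsg.Agent.Omega.All.HOne
open Cfsg.Agent.Omega.FrameNOFF (CZ)
open Cfsg.Agent.MinSimple.VModule (o2_isPGroup le_normalizer_o2 le_centralizer_zc o2_le)
open scoped commutatorElement

universe u v

variable {K : Type v} [Field K] [Finite K] [CharP K 2] {G : Type u} [Group G] {j : ↥(chevF4.group K) →* G}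

/-- the converse of `fix_act` -/
theorem norm_of_fix (hj : Function.Injective j) {H : Subgroup ↥(chevF4.group K)} {y : G}
    (hy : y ∈ normalizer (j.range : Set G)) (h : Fix (act j hj ⟨y, hy⟩) H) : y ∈ normalizer (H.map j : Set G) := by
  have key : ∀ {x}, j x ∈ H.map j ↔ x ∈ H := fun {x} =>
    ⟨fun ⟨w, hw, e⟩ => hj e ▸ hw, fun hx => ⟨x, hx, rfl⟩⟩
  rw [mem_normalizer_iff]
  intro z
  constructor
  · rintro ⟨x, hx, rfl⟩
    rw [← f_act j hj ⟨y, hy⟩]
    exact key.2 ((h x).2 hx)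
  · rintro ⟨x, hx, e⟩
    have h1 : z ∈ j.range := (mem_normalizer_iff.1 hy z).2 ⟨x, e⟩
    obtain ⟨w, rfl⟩ := h1
    rw [← f_act j hj ⟨y, hy⟩] at e
    rw [key, ← h w, ← hj e]
    exact hx

/-- an element of `N_G(G₀)` centralising `1 ≠ z ∈ X_r` normalises `X_r` -/
theorem norm_XG (hj : Function.Injective j) {r : Fin 4 → ℤ} (hr : Dom r) {z y : G} (hz : z ∈ XG j r) (hz1 : z ≠ 1)
    (hy : y ∈ normalizer (j.range : Set G)) (h : y * z = z * y) : y ∈ normalizer (XG j r : Set G) := by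
  obtain ⟨x, hx, rfl⟩ := hz
  refine norm_of_fix hj hy (fix_X hr.root hx (fun h1 => hz1 (by rw [h1, map_one])) (hj ?_))
  rw [f_act j hj ⟨y, hy⟩]
  show y * j x * y⁻¹ = j x
  rw [h, mul_inv_cancel_right]

/-- **The field `cenY`**, `(44, 47)`. -/
theorem cenY_G (hj : Function.Injective j) {a b y : G} (ha : a ∈ XG j (v 44)) (hb : b ∈ XG j (v 47)) (ha1 : a ≠ 1)
    (hb1 : b ≠ 1) (hy : y ∈ normalizer (j.range : Set G)) (h : y * (a * b) * y⁻¹ = a * b) :
    (y * a * y⁻¹ ∈ XG j (v 44) ∧ y * b * y⁻¹ ∈ XG j (v 47)) ∨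
      (y * a * y⁻¹ ∈ XG j (v 47) ∧ y * b * y⁻¹ ∈ XG j (v 44)) := by
  obtain ⟨a, ha, rfl⟩ := ha
  obtain ⟨b, hb, rfl⟩ := hb
  have h1 : act j hj ⟨y, hy⟩ (a * b) = a * b := by
    apply hj
    rw [f_act j hj ⟨y, hy⟩, map_mul]
    exact h
  have ea := f_act j hj ⟨y, hy⟩ a
  have eb := f_act j hj ⟨y, hy⟩ b
  have h2 := aut_ab ha hb (fun h => ha1 (by rw [h, map_one])) (fun h => hb1 (by rw [h, map_one])) h1
  change j _ = y * j a * y⁻¹ at ea
  change j _ = y * j b * y⁻¹ at eb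
  rw [← ea, ← eb]
  rcases h2 with ⟨h3, h4⟩ | ⟨h3, h4⟩
  · exact Or.inl ⟨⟨_, h3, rfl⟩, ⟨_, h4, rfl⟩⟩
  · exact Or.inr ⟨⟨_, h3, rfl⟩, ⟨_, h4, rfl⟩⟩

/-- **The field `cenY`.** -/
theorem cenY_G' (hj : Function.Injective j) {r s : Fin 4 → ℤ} (hr : Dom r) (hs : Dom s) (hrs : r ≠ s) {a b y : G}
    (ha : a ∈ XG j s) (hb : b ∈ XG j r) (ha1 : a ≠ 1) (hb1 : b ≠ 1) (hy : y ∈ normalizer (j.range : Set G))
    (h : y * (a * b) * y⁻¹ = a * b) :
    (y * a * y⁻¹ ∈ XG j s ∧ y * b * y⁻¹ ∈ XG j r) ∨ (y * a * y⁻¹ ∈ XG j r ∧ y * b * y⁻¹ ∈ XG j s) := by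
  rcases hr with rfl | rfl <;> rcases hs with rfl | rfl
  · exact absurd rfl hrs
  · exact cenY_G hj ha hb ha1 hb1 hy h
  · have e : a * b = b * a := by
      obtain ⟨x, hx, rfl⟩ := ha
      obtain ⟨y, hy, rfl⟩ := hb
      rw [← map_mul, ← map_mul, pos_comm (Or.inr rfl)
        (RGD.le_Sup (Dom.rad_sub (Or.inl rfl) (self_mem_rad (Dom.root (Or.inl rfl)))) hx) hy]
    rw [e] at h
    rcases cenY_G hj hb ha hb1 ha1 hy h with ⟨h1, h2⟩ | ⟨h1, h2⟩
    · exact Or.inl ⟨h2, h1⟩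
    · exact Or.inr ⟨h2, h1⟩
  · exact absurd rfl hrs

section Fields

variable (hj : Function.Injective j) {r s : Fin 4 → ℤ} {e : ℕ → K → ↥(chevF4.group K)}
  {X : ℕ → Subgroup ↥(chevF4.group K)} (C : Cht (K := K) r s e X)

include hj C

/-- **The field `faith`.** -/
theorem faith_G : ∀ w ∈ QG j s ⊔ QG j r, (∀ q ∈ QG j r, w * q * w⁻¹ * q⁻¹ ∈ UG j r) → w ∈ QG j r := by
  intro w hw h
  rw [QQ_eqC hj C] at hw
  obtain ⟨w, hw, rfl⟩ := hw
  have hQ : QG j r = (SP X mQl).map j := by unfold QG SG; rw [C.Ql]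
  have hU : UG j r = (SP X mUl).map j := by unfold UG SG; rw [C.Ul]
  rw [hQ] at h ⊢
  rw [hU] at h
  refine ⟨w, Cfsg.Agent.KFacts.F4Faith.faith C.rl hw fun q hq => ?_, rfl⟩
  obtain ⟨x, hx, e⟩ := h (j q) ⟨q, hq, rfl⟩
  have h1 : x = ⁅w, q⁆ := by
    apply hj
    rw [commutatorElement_def, map_mul, map_mul, map_mul, map_inv, map_inv]
    exact e
  rw [← h1]; exact hx

theorem UlJ_eqC : UG j r ⊔ (QG j s ⊓ QG j r) = (SP X mUl ⊔ SP X mJ0).map j := by
  rw [J0_eqC hj C, Subgroup.map_sup, C.Ul]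
  rfl

theorem UsJ_eqC : UG j s ⊔ (QG j s ⊓ QG j r) = (SP X mUs ⊔ SP X mJ0).map j := by
  rw [J0_eqC hj C, Subgroup.map_sup, C.Us]
  rfl

theorem inf_UJ_G : (UG j r ⊔ (QG j s ⊓ QG j r)) ⊓ (UG j s ⊔ (QG j s ⊓ QG j r)) = QG j s ⊓ QG j r := by
  rw [UlJ_eqC hj C, UsJ_eqC hj C, ← Subgroup.map_inf _ _ j hj, Cfsg.Agent.KFacts.F4Faith.inf_UJ C.rl, J0_eqC hj C]

theorem elJ_G {E : Subgroup G} (hE : E ≤ QG j s ⊔ QG j r) (h2 : ∀ x ∈ E, x * x = 1)
    (hc : ∀ x ∈ E, ∀ y ∈ QG j s ⊓ QG j r, x * y = y * x) :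
    E ≤ UG j r ⊔ (QG j s ⊓ QG j r) ∨ E ≤ UG j s ⊔ (QG j s ⊓ QG j r) := by
  rw [J0_eqC hj C] at hc
  rw [UlJ_eqC hj C, UsJ_eqC hj C]
  have hr : E ≤ j.range := hE.trans (sup_le SG_le_range SG_le_range)
  have hm : (E.comap j).map j = E := map_comap_eq_self hr
  rcases Cfsg.Agent.KFacts.F4Faith.elJ C.rl (E := E.comap j)
    (fun x hx => hj (by rw [map_mul, map_one]; exact h2 _ hx))
    (fun x hx y hy => hj (by rw [map_mul, map_mul]; exact hc _ hx _ ⟨y, hy, rfl⟩)) with h | h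
  · left; rw [← hm]; exact map_mono h
  · right; rw [← hm]; exact map_mono h

end Fields

namespace EmbG

variable {S Y : Subgroup G} (E : EmbG j S Y)

include E

/-- `O₂(C_G(Ω₁Z(S₁))) ≤ S₁ = N_S(X_s)` -/
theorem oz_le [Finite G] {s : Fin 4 → ℤ} (hs : Dom s)
    (syl : ∀ T : Subgroup G, IsPGroup 2 T → T ≤ normalizer (XG j s : Set G) →
      Nat.card T ≤ Nat.card ↥(S ⊓ normalizer (XG j s : Set G)))
    (hCZ : CZ (S ⊓ normalizer (XG j s : Set G)) ≤ Y) :
    o2 (CZ (S ⊓ normalizer (XG j s : Set G))) ≤ S ⊓ normalizer (XG j s : Set G) := by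
  have hf : Fact (Nat.Prime 2) := ⟨Nat.prime_two⟩
  have E₁ := E.emb hs
  obtain ⟨S₁, hS₁⟩ : ∃ S₁, S₁ = S ⊓ normalizer (XG j s : Set G) := ⟨_, rfl⟩
  rw [← hS₁] at syl hCZ E₁ ⊢
  have h2 : ∀ x ∈ XG j s, x * x = 1 := by
    rintro _ ⟨x, hx, rfl⟩
    rw [← map_mul, e_sq hs.root hx, map_one]
  have hXS : XG j s ≤ S₁ := (XG_le_SG (hs.rad_sub (self_mem_rad hs.root))).trans E₁.UG_le
  have hne : XG j s ≠ ⊥ := XG_ne E.inj hs
  obtain ⟨z, hz, hzX, hz1⟩ := Cfsg.Agent.Omega.All.exists_zc_mem E₁.two hXS (E₁.S_X hs) h2 hne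
  have hN : CZ S₁ ≤ normalizer (XG j s : Set G) := by
    intro g hg
    exact norm_XG E.inj hs hzX hz1 (E.Y_G (hCZ hg)) ((mem_centralizer_iff.1 hg) z hz).symm
  have h1 : IsPGroup 2 ↥(o2 (CZ S₁) ⊔ S₁) :=
    (o2_isPGroup _).to_sup_of_normal_left' E₁.two ((le_centralizer_zc S₁).trans (le_normalizer_o2 (CZ S₁)))
  have h3 := syl _ h1 (sup_le ((o2_le _).trans hN) ((le_centralizer_zc S₁).trans hN))
  have h4 : S₁ = o2 (CZ S₁) ⊔ S₁ := eq_of_le_of_card_ge le_sup_right h3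
  exact le_sup_left.trans h4.ge

/-- an element of `S` not normalising `X_s` exchanges `Q_s` and `Q_r` -/
theorem swap_Q [Finite G] {r s : Fin 4 → ℤ} (hr : Dom r) (hs : Dom s) (hrs : r ≠ s) {t : G} (ht : t ∈ S)
    (hn : t ∉ normalizer (XG j s : Set G)) :
    (QG j s).map (MulAut.conj t).toMonoidHom = QG j r ∧ (QG j r).map (MulAut.conj t).toMonoidHom = QG j s := by
  rcases E.perm_X ht with h | ⟨h1, h2⟩
  · exact absurd (mem_normalizer_of_map_eq (h s hs)) hn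
  · have h3 := (E.map_of_map ht (Or.inl rfl) (Or.inr rfl) h1).2.1
    have h4 := (E.map_of_map ht (Or.inr rfl) (Or.inl rfl) h2).2.1
    rcases hr with rfl | rfl <;> rcases hs with rfl | rfl
    · exact absurd rfl hrs
    · exact ⟨h4, h3⟩
    · exact ⟨h3, h4⟩
    · exact absurd rfl hrs

/-- **`FFourG` for `F₄(q)`, `q ≥ 2` even.** -/
theorem ffourG [Finite G] {r s : Fin 4 → ℤ} (hr : Dom r) (hs : Dom s) (hrs : r ≠ s)
    (hN : normalizer (XG j s : Set G) ≤ Y)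
    (syl : ∀ T : Subgroup G, IsPGroup 2 T → T ≤ normalizer (XG j s : Set G) →
      Nat.card T ≤ Nat.card ↥(S ⊓ normalizer (XG j s : Set G)))
    (hsw : ∃ t ∈ S, t ∉ normalizer (XG j s : Set G)) :
    FFourG S (S ⊓ normalizer (XG j s : Set G)) (S ⊓ j.range) Y (CG j s) (CG j r) (XG j s) (XG j r) (QG j s) (QG j r)
      (UG j s) (UG j r) := by
  obtain ⟨e, X, C⟩ := exists_cht (K := K) hr hs hrs
  have hj := E.inj
  have E₁ := E.emb hs
  have hS₀ : S ⊓ normalizer (XG j s : Set G) ⊓ j.range = S ⊓ j.range := by rw [E₁.S₀, E.S₀]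
  exact
    { dat := by
        have h1 := E₁.ffourDat_sub hr hs hrs hN (E.oz_le hs syl)
        rwa [hS₀] at h1
      S_Y := E.S_Y
      S₁_eq := rfl
      syl := syl
      perm := E.perm hr hs hrs
      swap := by
        obtain ⟨t, ht, hn⟩ := hsw
        exact ⟨t, ht, fun h => hn h.2⟩
      trans2 := trans2_G hj E.G_Y hr hs hrs
      mixQ_s := fun v hv h1 _ x hx => mixQ_G hj hs (Q' := QG j r) le_sup_left v hv h1 x hx
      mixQ_l := fun v hv _ h2 x hx => mixQ_G hj hr (Q' := QG j s) le_sup_right v ⟨hv.2, hv.1⟩ h2 x hx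
      faith := faith_G hj C
      elJ := by
        intro E' hE' hel hSE hc
        obtain ⟨t, ht, hn⟩ := hsw
        obtain ⟨h1, h2⟩ := E.swap_Q hr hs hrs ht hn
        exact Cfsg.Agent.KFacts.F4Faith.elJ_of (UG_eq hj hs) (UG_eq hj hr)
          (elJ_G hj C hE' (fun x hx => by rw [← pow_two]; exact hel.2 x hx) hc) (inf_UJ_G hj C) h1 h2 (hSE ht)
      cenY := fun a ha b hb ha1 hb1 y hy h => cenY_G' hj hr hs hrs ha hb ha1 hb1 (E.Y_G hy) h }

end EmbG

/-! ### `G₀ ≅ F₄(K)` -/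

variable {G₀ : Subgroup G}

theorem embG_of (φ : ↥G₀ ≃* ↥(chevF4.group K)) {S : Subgroup G} (hS : IsPGroup 2 S)
    (hSG : S ≤ normalizer (G₀ : Set G)) (hc : centralizer (G₀ : Set G) = ⊥)
    (hU : ((S ⊓ G₀).subgroupOf G₀).map φ.toMonoidHom = RGD.Sup (XF K) (RGD.Pos cF isType.isCartan)) :
    EmbG (emb φ) S (normalizer (G₀ : Set G)) where
  inj := emb_inj φ
  two := hS
  S_Y := hSG
  G_Y := by rw [emb_range]; exact le_normalizer
  Y_G := by rw [emb_range]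
  S₀ := by rw [emb_range]; exact (map_emb φ inf_le_right hU).symm
  cent g hg := by
    have h1 : g ∈ centralizer (G₀ : Set G) := by
      rw [mem_centralizer_iff]
      intro x hx
      have h2 : x ∈ (emb φ).range := by rw [emb_range]; exact hx
      obtain ⟨y, rfl⟩ := h2
      exact (hg y).symm
    rwa [hc, mem_bot] at h1

/-- **`FFourG` for `G₀ ≅ F₄(K)`, `R = X_s`.** -/
theorem ffourG_of [Finite G] (φ : ↥G₀ ≃* ↥(chevF4.group K)) {S R : Subgroup G} (hS : IsPGroup 2 S)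
    (hSG : S ≤ normalizer (G₀ : Set G)) (hR : R ≤ G₀) (hc : centralizer (G₀ : Set G) = ⊥)
    (hU : ((S ⊓ G₀).subgroupOf G₀).map φ.toMonoidHom = RGD.Sup (XF K) (RGD.Pos cF isType.isCartan))
    {s : Fin 4 → ℤ} (hs : Dom s) (hX : (R.subgroupOf G₀).map φ.toMonoidHom = XF K s)
    (hN : normalizer (R : Set G) ≤ normalizer (G₀ : Set G))
    (syl : ∀ T : Subgroup G, IsPGroup 2 T → T ≤ normalizer (R : Set G) →
      Nat.card T ≤ Nat.card ↥(S ⊓ normalizer (R : Set G)))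
    (hsw : ∃ t ∈ S, t ∉ normalizer (R : Set G)) :
    ∃ Cs Cl Xl Qs Ql Us Ul : Subgroup G, FFourG S (S ⊓ normalizer (R : Set G)) (S ⊓ G₀) (normalizer (G₀ : Set G))
      Cs Cl R Xl Qs Ql Us Ul := by
  have E := embG_of φ hS hSG hc hU
  have hXR := XG_emb φ hR hX
  obtain ⟨r, hr, hrs⟩ := exists_other hs
  have h1 := E.ffourG hr hs hrs (by rw [hXR]; exact hN) (by rw [hXR]; exact syl) (by rw [hXR]; exact hsw)
  rw [emb_range, hXR] at h1
  exact ⟨_, _, _, _, _, _, _, h1⟩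

end Cfsg.Agent.Omega.HOneEnd.FFour

end
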