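import Cfsg.Agent.Mrg.Omega.HOneEnd.TwoInst
import Cfsg.Agent.Mrg.Omega.HOneEnd.SysID
import Cfsg.Agent.Mrg.Omega.HOneEnd.FFourDefs
import Cfsg.Agent.Mrg.Omega.HOneEnd.SpIota
import Cfsg.Agent.Mrg.Omega.HOneEnd.FFourEmb
import Cfsg.Agent.Mrg.Omega.All.HOneNat

-- merged: Cfsg.Agent.Mrg.Omega.HOneEnd.RadC
section

section


/-!
# LeafH1, END: the radical of the long root of `C_m` is abelian

`rad_nonneg` : `⟨a, b^∨⟩ ≥ 0` for `a`, `b` with `⟨a, σ^∨⟩, ⟨b, σ^∨⟩ ≥ 1`, `σ = 2 ε₀`.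
-/

set_option autoImplicit false
set_option linter.unusedSectionVars false

namespace Cfsg.Agent.Omega.HOneEnd.RadC

open CoxeterSystem Cfsg.Agent.ChevalleyStructure.CoxeterGeom Cfsg.Agent.Tits.Roots Cfsg.Agent.Tits.Core
  Cfsg.Agent.Nodes.BNOf Cfsg.Agent.Nodes.Coroot Cfsg.Agent.KFacts.RgdCent Cfsg.Agent.KFacts.RgdOdd
  Cfsg.Agent.Nodes.KindBC Cfsg.Agent.Nodes.TypeC Cfsg.Agent.Nodes.TypeCForm Cfsg.Agent.Omega.HOneEnd.TwoInst

variable {m : ℕ} {W : Type*} [Group W] [Finite W] {cs : CoxeterSystem (CoxeterMatrix.B m) W}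

theorem form (z : Fin m) {x : Fin m → ℤ} (hx : IsRoot cs (isCartan m) x) (h : 1 ≤ ee x z) :
    ∃ b : Fin m × Bool, x = rt (z, true) b ∧ (b.1 ≠ z ∨ b = (z, true)) := by
  obtain ⟨⟨i, s⟩, ⟨j, t⟩, hab, rfl⟩ := exists_rt hx
  rw [ee_rt, Pi.add_apply, wt_apply, wt_apply] at h
  simp only at h
  by_cases hi : z = i
  · subst hi
    by_cases hj : z = j
    · subst hj
      rcases hab with hab | hab
      · exact absurd rfl hab
      · obtain ⟨-, rfl⟩ := Prod.mk.inj hab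
        cases s
        · simp at h
        · exact ⟨(z, true), rfl, Or.inr rfl⟩
    · rw [if_pos rfl, if_neg hj, add_zero] at h
      cases s
      · simp at h
      · exact ⟨(j, t), rfl, Or.inl fun h' => hj h'.symm⟩
  · by_cases hj : z = j
    · subst hj
      rw [if_neg hi, if_pos rfl, zero_add] at h
      cases t
      · simp at h
      · exact ⟨(i, s), rt_comm _ _, Or.inl fun h' => hi h'.symm⟩
    · rw [if_neg hi, if_neg hj] at h
      norm_num at h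

theorem rad_nonneg (hm : 3 ≤ m) : ∀ a ∈ Rad cs (isCartan m) (sigC hm), ∀ b ∈ Rad cs (isCartan m) (sigC hm),
    0 ≤ cpr cs (isCartan m) a b := by
  intro a ha b hb
  set z : Fin m := ⟨0, by omega⟩ with hz
  have h1 : ∀ x, cpr cs (isCartan m) x (sigC hm) = ee x z := by
    intro x
    have := cpr_rt_self (cs := cs) x (z, true)
    rw [sn, if_pos rfl, mul_one] at this
    exact this
  have ha1 : 1 ≤ ee a z := by rw [← h1]; exact ha.2
  have hb1 : 1 ≤ ee b z := by rw [← h1]; exact hb.2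
  obtain ⟨c, hc, hc'⟩ := form z ha.1 ha1
  obtain ⟨d, hd, hd'⟩ := form z hb.1 hb1
  rcases hd' with hd' | rfl
  · rw [hd, cpr_rt (cs := cs) a (a := (z, true)) (b := d) (fun h => hd' h.symm)]
    have e1 : sn ((z, true) : Fin m × Bool) = 1 := by rw [sn, if_pos rfl]
    have e2 : ee a d.1 = wt c d.1 := by
      rw [hc, ee_rt, Pi.add_apply, wt_apply (z, true), if_neg hd', zero_add]
    rw [e1, e2, mul_one]
    have e3 : -1 ≤ wt c d.1 * sn d := by
      rw [wt_apply, sn]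
      split_ifs <;> norm_num
    simp only
    linarith
  · rw [hd, cpr_rt_self]
    have e1 : sn ((z, true) : Fin m × Bool) = 1 := by rw [sn, if_pos rfl]
    rw [e1, mul_one]
    simp only
    linarith

end Cfsg.Agent.Omega.HOneEnd.RadC

end

section


/-!
# The END of LeafH1: identification of the simple group

* `LIn.id` : **THEOREM ID** : a group `L` with `Fam 2` and `LIn U R v` is `PSp_{2m}(q)`, `m ≥ 3`, with `R` a short root
  group, or `F₄(q)` with `U = ⟨X_a | a > 0⟩`, `R` the root group of a dominant root.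
-/

set_option autoImplicit false

namespace Cfsg.Agent.Omega.HOneEnd

open Subgroup Cfsg Cfsg.Lie
open Cfsg.Agent.Nodes.BNOf Cfsg.Agent.Nodes.TypeC
open Cfsg.Agent.KFacts.SysSp (sys_PSp eSp)
open Cfsg.Agent.KFacts.F4Pair (XF eF sysF)
open Cfsg.Agent.Nodes.KindF (isType)

universe u

section id

variable {L : Type u} [Group L] [Finite L] {U R : Subgroup L} {v : L}

theorem LIn.not_dvd (H : LIn U R v) : ¬ 2 ∣ U.index := fun h =>
  (Nat.not_even_iff_odd.2 H.odd) (even_iff_two_dvd.2 h)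

/-- the types `T2` do not occur -/
theorem LIn.not_t2 (H : LIn U R v) (h : TTwo.T2 L) : False := by
  have : Fact (Nat.Prime 2) := ⟨Nat.prime_two⟩
  refine H.v_R (h (H.two.toSylow H.not_dvd) R H.R_U ?_ H.R_ne H.NU H.max v H.v_U ?_ H.v_ne)
  · intro r hr
    rw [mem_centralizer_iff]
    intro u hu
    exact (mem_centralizer_iff.1 (H.U_R hu) r hr).symm
  · rw [mem_centralizer_iff]
    intro u hu
    exact mem_centralizer_singleton_iff.1 (H.U_v hu)

theorem exists_iso_F {F : Type} [Field F] [Fintype F] [CharP F 2] (ψ : L ≃* ↥(chevF4.group F)) (H : LIn U R v) :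
    ∃ φ : L ≃* ↥(chevF4.group F), U.map φ.toMonoidHom = RGD.Sup (XF F) (RGD.Pos FFour.cF isType.isCartan) ∧
      (R.map φ.toMonoidHom = XF F (Cfsg.Agent.KFacts.F4Cent.v 47) ∨
        R.map φ.toMonoidHom = XF F (Cfsg.Agent.KFacts.F4Cent.v 44)) := by
  have h2 : Fact (Nat.Prime 2) := ⟨Nat.prime_two⟩
  have hW : Finite CoxeterMatrix.F₄.Group := FFour.finW
  have hI := TwoInst.inp_F F FFour.cF
  exact SysID.exists_iso (ρ := Cfsg.Agent.KFacts.F4Cent.v 47) (σ := Cfsg.Agent.KFacts.F4Cent.v 44) (i := 3) (j := 0)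
    (sysF (K := F) FFour.cF) hI.sup hI.cent hI.two hI.conn ψ H

/-- **THEOREM ID** -/
theorem LIn.id (H : LIn U R v) (hL : Fam 2 L) :
    (∃ (F : Type) (_ : Field F) (_ : Fintype F) (_ : CharP F 2) (m : ℕ) (φ : L ≃* PSp m F) (ρ : Fin m → ℤ)
      (a b : Fin m × Bool), 3 ≤ m ∧ a.1 ≠ b.1 ∧ Cfsg.Agent.Nodes.TypeC.ee ρ =
        Cfsg.Agent.Nodes.TypeC.wt a + Cfsg.Agent.Nodes.TypeC.wt b ∧
        ∀ x : L, x ∈ R ↔ ∃ t, φ x = eSp m F ρ t) ∨
    (∃ (F : Type) (_ : Field F) (_ : Fintype F) (_ : CharP F 2) (φ : L ≃* ↥(chevF4.group F)) (s : Fin 4 → ℤ),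
      FFour.Dom s ∧ U.map φ.toMonoidHom = RGD.Sup (XF F) (RGD.Pos FFour.cF isType.isCartan) ∧
        R.map φ.toMonoidHom = XF F s) := by
  have h2 : Fact (Nat.Prime 2) := ⟨Nat.prime_two⟩
  rcases TTwo.t2_of_fam hL with h | ⟨F, _, _, _, m, hm, ⟨ψ⟩⟩ | ⟨F, _, _, _, ⟨ψ⟩⟩
  · exact (H.not_t2 h).elim
  · left
    have hW : Finite (CoxeterMatrix.B m).Group := Cfsg.Agent.Nodes.TypeC.finite_W (CoxeterMatrix.B m).toCoxeterSystem
    have hI := TwoInst.inp_C hm F (CoxeterMatrix.B m).toCoxeterSystem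
    obtain ⟨φ, -, hφ⟩ := SysID.exists_iso_left (sys_PSp m F (CoxeterMatrix.B m).toCoxeterSystem) hI.sup hI.cent
      hI.two hI.conn (RadC.rad_nonneg hm) ψ H
    refine ⟨F, inferInstance, inferInstance, inferInstance, m, φ, TwoInst.rhoC hm, (⟨0, by omega⟩, true),
      (⟨1, by omega⟩, true), hm, ?_, Cfsg.Agent.Nodes.KindBC.ee_rt _ _, ?_⟩
    · intro h
      have := congrArg Fin.val h
      simp at this
    · intro x
      have h3 : x ∈ R ↔ φ x ∈ R.map φ.toMonoidHom :=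
        (Subgroup.mem_map_iff_mem (f := φ.toMonoidHom) φ.injective).symm
      rw [h3, hφ, (sys_PSp m F (CoxeterMatrix.B m).toCoxeterSystem).mem_X _ hI.two.rρ.1]
      exact exists_congr fun t => eq_comm
  · right
    obtain ⟨φ, h3, h4⟩ := exists_iso_F ψ H
    rcases h4 with h4 | h4
    · exact ⟨F, inferInstance, inferInstance, inferInstance, φ, _, Or.inl rfl, h3, h4⟩
    · exact ⟨F, inferInstance, inferInstance, inferInstance, φ, _, Or.inr rfl, h3, h4⟩

end id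

end Cfsg.Agent.Omega.HOneEnd

end

end

-- merged: Cfsg.Agent.Mrg.Omega.HOneEnd.Known
section

/-!
# The END of LeafH1

* `EndIn.top` : `N_G(G₀) = G`;
* `EndIn.known` : `G` is known.
-/

set_option autoImplicit false

namespace Cfsg.Agent.Omega.HOneEnd

open Subgroup Cfsg Cfsg.Lie Cfsg.Agent.Omega.Frame
open Cfsg.Agent.Omega.FrameLE (AllIn)

universe u

section main

variable {G : Type u} [Group G] [Finite G] {S : Sylow 2 G} {G₀ U R : Subgroup G} {v : G}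

theorem EndIn.U_le {S : Subgroup G} (h : EndIn S G₀ U R v) : U ≤ G₀ := by rw [← h.S_inf]; exact inf_le_right

/-- **`N_G(G₀) = G`** -/
theorem EndIn.top (hFF : FFThm.Stmt.{u}) (hc : IsCharacteristicTwoType G) (hF : Full (S : Subgroup G))
    (hA : AllIn (S : Subgroup G)) (h : EndIn (S : Subgroup G) G₀ U R v) :
    normalizer (G₀ : Set G) = ⊤ ∧ (IsPSp ↥G₀ ∨ Lie.IsoF4 ↥G₀) := by
  have hs := h.simple
  obtain ⟨hv, H⟩ := h.lIn
  obtain ⟨Q, hQU, hQ3, hQi⟩ := h.bn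
  have hfam : Fam 2 ↥G₀ := Parity.fam_two Q hQ3 hQi hQU H.odd
  have hR : R ≤ G₀ := h.R_U.trans h.U_le
  rcases H.id hfam with ⟨F, _, _, _, m, φ, ρ, a, b, hm, hab, he, hR'⟩ | ⟨F, _, _, _, φ, s, hs', hU, hX⟩
  · refine ⟨?_, Or.inl ⟨F, inferInstance, inferInstance, m, by omega, by omega, ⟨φ⟩⟩⟩
    obtain ⟨C, Q', U', Ul, D⟩ := SpIota.exists_spDat S hm φ h.S_G₀ h.cent h.N_R (by rw [h.S_inf]; exact h.R_U)
      (by rw [h.S_inf]; exact h.U_R) hab he fun x => by rw [← hR' x, mem_subgroupOf]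
    exact Cfsg.Agent.Omega.All.HOne.top_sp hFF hc D hA hF
  · refine ⟨?_, Or.inr ⟨F, inferInstance, inferInstance, ⟨φ⟩⟩⟩
    obtain ⟨_, _, _, _, _, _, _, D⟩ := FFour.ffourDat_of φ h.S_G₀ h.S_R hR h.cent (by rw [h.S_inf]; exact hU) hs' hX
      h.N_R
    exact Cfsg.Agent.Omega.All.HOne.top_ffour hFF hc D hA hF

/-- **The END of LeafH1.** -/
theorem EndIn.known [IsSimpleGroup G] (hFF : FFThm.Stmt.{u}) (hc : IsCharacteristicTwoType G)
    (hF : Full (S : Subgroup G)) (hA : AllIn (S : Subgroup G)) (h : EndIn (S : Subgroup G) G₀ U R v) :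
    IsKnownSimple' G := by
  obtain ⟨h1, h2⟩ := h.top hFF hc hF hA
  have hn : G₀.Normal := normalizer_eq_top_iff.1 h1
  have htop : G₀ = ⊤ := by
    refine (hn.eq_bot_or_eq_top).resolve_left fun h0 => h.R_ne ?_
    rw [eq_bot_iff, ← h0]
    exact h.R_U.trans h.U_le
  subst htop
  have e : (⊤ : Subgroup G) ≃* G := Subgroup.topEquiv
  rcases h2 with ⟨F, _, _, m, h3, h4, ⟨φ⟩⟩ | ⟨F, _, _, ⟨φ⟩⟩
  · exact Or.inr (Or.inr (Or.inr (Or.inl ⟨F, inferInstance, inferInstance, m, h3, h4, ⟨e.symm.trans φ⟩⟩)))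
  · exact Or.inr (Or.inr (Or.inr (Or.inr (Or.inr (Or.inr (Or.inr (Or.inr (Or.inl
      (Or.inr (Or.inl ⟨F, inferInstance, inferInstance, ⟨e.symm.trans φ⟩⟩))))))))))

end main

end Cfsg.Agent.Omega.HOneEnd

end
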