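import Cfsg.Agent.Mrg.ParSys.FrontSys
import Cfsg.Agent.Mrg.Omega.HOne.Cut
import Cfsg.Agent.Mrg.ParSys.RootEpsBD
import Cfsg.Agent.Mrg.ParSys.FreeTrans
import Cfsg.Agent.Mrg.ParSys.Main

-- merged: Cfsg.Agent.Mrg.ParSys.Restrict
section

/-!
# THEOREM PAR for a subgroup

`SysW p B U H P m`: the parabolic systems with tori `Sys` without the hypothesis that the `P i` generate `G`.  The
subgroup `X = ⨆ i, P i` has a (B,N)-pair with Borel subgroup `B` (`SysW.exists_bnPair`).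

* `SysW.sys_of_le` : `SysW` is a system `Sys` for every `X` with `⨆ i, P i = X`;
* `Front.sysW` : the analogue of `Front.sys`;
* `Front.exists_bnPair` : the (B,N)-pair of `⨆ i, E i`.
-/

set_option autoImplicit false

namespace Cfsg.Agent.ParSys

open Subgroup

variable {G : Type*} [Group G] {I : Type*}

/-! ### Transfer to a subgroup -/

section transfer

variable {X : Subgroup G}

theorem map_subtype_le (T : Subgroup ↥X) : T.map X.subtype ≤ X := by
  rintro _ ⟨x, -, rfl⟩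
  exact x.2

theorem coe_mem_map {T : Subgroup ↥X} {x : ↥X} : (x : G) ∈ T.map X.subtype ↔ x ∈ T :=
  Subgroup.mem_map_iff_mem (f := X.subtype) X.subtype_injective

theorem mem_map_subtype {T : Subgroup ↥X} {x : G} : x ∈ T.map X.subtype ↔ ∃ h : x ∈ X, (⟨x, h⟩ : ↥X) ∈ T := by
  constructor
  · rintro ⟨y, hy, rfl⟩
    exact ⟨y.2, hy⟩
  · rintro ⟨h, hx⟩
    exact ⟨⟨x, h⟩, hx, rfl⟩

theorem subgroupOf_le_normalizer {A T : Subgroup G} (h : A ≤ normalizer (T : Set G)) :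
    A.subgroupOf X ≤ normalizer ((T.subgroupOf X : Subgroup ↥X) : Set ↥X) := by
  intro x hx
  have h1 := h (Subgroup.mem_subgroupOf.1 hx)
  rw [Subgroup.mem_normalizer_iff] at h1 ⊢
  intro y
  exact h1 (y : G)

theorem le_normalizer_map {A : Subgroup G} (hA : A ≤ X) {T : Subgroup ↥X}
    (h : A.subgroupOf X ≤ normalizer (T : Set ↥X)) : A ≤ normalizer ((T.map X.subtype : Subgroup G) : Set G) := by
  intro a ha
  have h1 := h (Subgroup.mem_subgroupOf.2 ha : (⟨a, hA ha⟩ : ↥X) ∈ A.subgroupOf X)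
  rw [Subgroup.mem_normalizer_iff] at h1 ⊢
  intro y
  constructor
  · intro hy
    obtain ⟨hX, hy⟩ := mem_map_subtype.1 hy
    have h2 := (h1 ⟨y, hX⟩).1 hy
    exact coe_mem_map.2 h2
  · intro hy
    obtain ⟨hX, hy⟩ := mem_map_subtype.1 hy
    have hyX : y ∈ X := by
      have := mul_mem (mul_mem (inv_mem (hA ha)) hX) (hA ha)
      have e : a⁻¹ * (a * y * a⁻¹) * a = y := by group
      rwa [e] at this
    have h2 : (⟨y, hyX⟩ : ↥X) ∈ T := (h1 ⟨y, hyX⟩).2 hy
    exact coe_mem_map.2 h2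

theorem map_le_of_le_subgroupOf {A : Subgroup G} {T : Subgroup ↥X} (h : T ≤ A.subgroupOf X) :
    T.map X.subtype ≤ A := by
  rintro _ ⟨x, hx, rfl⟩
  exact h hx

theorem hallData_subgroupOf {p : ℕ} {B U H : Subgroup G} (D : Hall.HallData p B U H) (hB : B ≤ X) :
    Hall.HallData p (B.subgroupOf X) (U.subgroupOf X) (H.subgroupOf X) where
  U_le := fun _ hx => D.U_le hx
  H_le := fun _ hx => D.H_le hx
  U_norm := subgroupOf_le_normalizer D.U_norm
  U_pgroup := D.U_pgroup.comap_of_injective X.subtype X.subtype_injective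
  H_cop := by
    have h1 : Nat.card (H.subgroupOf X) = Nat.card H :=
      Nat.card_congr (Subgroup.subgroupOfEquivOfLe (D.H_le.trans hB)).toEquiv
    rw [h1]; exact D.H_cop
  UH_norm := by
    rw [← Subgroup.subgroupOf_sup (D.U_le.trans hB) (D.H_le.trans hB)]
    exact subgroupOf_le_normalizer D.UH_norm
  index := by
    obtain ⟨k, hk⟩ := D.index
    exact ⟨k, by rw [← Subgroup.subgroupOf_sup (D.U_le.trans hB) (D.H_le.trans hB),
      Subgroup.relIndex_subgroupOf hB, hk]⟩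
  core := by
    intro T hT hp hn
    have h1 := D.core (T.map X.subtype) (map_le_of_le_subgroupOf hT) (hp.map X.subtype)
      (le_normalizer_map hB hn)
    intro x hx
    exact h1 (coe_mem_map.2 hx)

theorem mem_Qk_subgroupOf {B M : Subgroup G} (hM : M ≤ X) {x : ↥X} :
    x ∈ Qk (B.subgroupOf X) (M.subgroupOf X) ↔ (x : G) ∈ Qk B M := by
  constructor
  · intro h g hg
    exact h ⟨g, hM hg⟩ hg
  · intro h g hg
    exact h (g : G) hg

theorem pTr_subgroupOf {B U M : Subgroup G} (hB : B ≤ X) (hU : U ≤ X) (h : Hall.HallData.PTr B U M) :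
    Hall.HallData.PTr (B.subgroupOf X) (U.subgroupOf X) (M.subgroupOf X) := by
  intro g hg hgB g' hg' hgB'
  obtain ⟨u, hu, b, hb, e⟩ := h g hg hgB g' hg' hgB'
  exact ⟨⟨u, hU hu⟩, hu, ⟨b, hB hb⟩, hb, Subtype.ext e⟩

theorem sepT_subgroupOf {B U H Pi Pj : Subgroup G} (hU : U ≤ X) (hH : H ≤ X) (hi : Pi ≤ X) (hj : Pj ≤ X)
    (h : SepT B U H Pi Pj) :
    SepT (B.subgroupOf X) (U.subgroupOf X) (H.subgroupOf X) (Pi.subgroupOf X) (Pj.subgroupOf X) := by
  intro T hT hHT hc u hu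
  obtain ⟨t, ht, h1, h2⟩ := h (T.map X.subtype) (map_le_of_le_subgroupOf hT) (le_normalizer_map hH hHT) (by
    intro v hv
    obtain ⟨t, ht, h1⟩ := hc ⟨v, hU hv⟩ hv
    exact ⟨(t : G), coe_mem_map.2 ht, (mem_Qk_subgroupOf hj).1 h1⟩) (u : G) hu
  obtain ⟨htX, ht⟩ := mem_map_subtype.1 ht
  exact ⟨⟨t, htX⟩, ht, (mem_Qk_subgroupOf hi).2 h1, (mem_Qk_subgroupOf hj).2 h2⟩

theorem galE_subgroupOf {B : Subgroup G} {P : I → Subgroup G} {f : List I} {l : List ↥X} :
    GalE (B.subgroupOf X) (fun i => (P i).subgroupOf X) f l ↔ GalE B P f (l.map (Subtype.val : ↥X → G)) := by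
  induction f generalizing l with
  | nil =>
    cases l with
    | nil => exact Iff.rfl
    | cons x l => exact Iff.rfl
  | cons i f ih =>
    cases l with
    | nil => exact Iff.rfl
    | cons x l =>
      show (x ∈ (P i).subgroupOf X ∧ x ∉ B.subgroupOf X) ∧ _ ↔ ((x : G) ∈ P i ∧ (x : G) ∉ B) ∧ _
      rw [ih, Subgroup.mem_subgroupOf, Subgroup.mem_subgroupOf]

theorem exists_lift {B : Subgroup G} {P : I → Subgroup G} (hP : ∀ i, P i ≤ X) {f : List I} {l : List G}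
    (h : GalE B P f l) : ∃ l' : List ↥X, l'.map (Subtype.val : ↥X → G) = l := by
  induction f generalizing l with
  | nil =>
    cases l with
    | nil => exact ⟨[], rfl⟩
    | cons x l => exact h.elim
  | cons i f ih =>
    cases l with
    | nil => exact h.elim
    | cons x l =>
      obtain ⟨l', hl'⟩ := ih h.2
      exact ⟨⟨x, hP i h.1.1⟩ :: l', by rw [List.map_cons, hl']⟩

theorem same_subgroupOf {B : Subgroup G} {t s : ↥X} {l l' : List ↥X} :
    Same (B.subgroupOf X) t s l l' ↔ Same B (t : G) (s : G) (l.map (Subtype.val : ↥X → G)) (l'.map (Subtype.val : ↥X → G)) := by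
  induction l generalizing t s l' with
  | nil =>
    cases l' with
    | nil =>
      show t⁻¹ * s ∈ B.subgroupOf X ↔ _
      rw [Subgroup.mem_subgroupOf]
      exact Iff.rfl
    | cons y l' => exact Iff.rfl
  | cons x l ih =>
    cases l' with
    | nil => exact Iff.rfl
    | cons y l' =>
      show (t⁻¹ * s ∈ B.subgroupOf X ∧ _) ↔ ((t : G)⁻¹ * (s : G) ∈ B ∧ Same B ((t : G) * x) ((s : G) * y) _ _)
      rw [ih, Subgroup.mem_subgroupOf]
      exact Iff.rfl

theorem coe_prod (l : List ↥X) : ((l.prod : ↥X) : G) = (l.map (Subtype.val : ↥X → G)).prod := by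
  induction l with
  | nil => rfl
  | cons x l ih => rw [List.prod_cons, List.map_cons, List.prod_cons, ← ih]; rfl

theorem prod_mem_iff {B : Subgroup G} {l l' : List ↥X} :
    l.prod⁻¹ * l'.prod ∈ B.subgroupOf X ↔
      (l.map (Subtype.val : ↥X → G)).prod⁻¹ * (l'.map (Subtype.val : ↥X → G)).prod ∈ B := by
  rw [Subgroup.mem_subgroupOf, ← coe_prod, ← coe_prod]
  exact Iff.rfl

theorem polygon_subgroupOf {B : Subgroup G} {P : I → Subgroup G} {a b : I} {m : ℕ} (hB : B ≤ X)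
    (hP : ∀ i, P i ≤ X) (h : Polygon B P a b m) :
    Polygon (B.subgroupOf X) (fun i => (P i).subgroupOf X) a b m where
  uniq := fun l l' h1 h2 h3 =>
    same_subgroupOf.2 (h.uniq _ _ (galE_subgroupOf.1 h1) (galE_subgroupOf.1 h2) (prod_mem_iff.1 h3))
  uniq' := fun l l' h1 h2 h3 =>
    same_subgroupOf.2 (h.uniq' _ _ (galE_subgroupOf.1 h1) (galE_subgroupOf.1 h2) (prod_mem_iff.1 h3))
  swap := by
    obtain ⟨l, l', h1, h2, h3⟩ := h.swap
    obtain ⟨k, rfl⟩ := exists_lift hP h1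
    obtain ⟨k', rfl⟩ := exists_lift hP h2
    exact ⟨k, k', galE_subgroupOf.2 h1, galE_subgroupOf.2 h2, prod_mem_iff.2 h3⟩
  trans := fun l l' h1 h2 => by
    obtain ⟨y, hy, h3⟩ := h.trans _ _ (galE_subgroupOf.1 h1) (galE_subgroupOf.1 h2)
    exact ⟨⟨y, hB hy⟩, hy, same_subgroupOf.2 h3⟩
  trans' := fun l l' h1 h2 => by
    obtain ⟨y, hy, h3⟩ := h.trans' _ _ (galE_subgroupOf.1 h1) (galE_subgroupOf.1 h2)
    exact ⟨⟨y, hB hy⟩, hy, same_subgroupOf.2 h3⟩

theorem iSup_subgroupOf {P : I → Subgroup G} (hP : ⨆ i, P i = X) : ⨆ i, (P i).subgroupOf X = ⊤ := by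
  apply Subgroup.map_injective X.subtype_injective
  rw [Subgroup.map_iSup]
  have h1 : ∀ i, ((P i).subgroupOf X).map X.subtype = P i := fun i => by
    rw [Subgroup.subgroupOf_map_subtype, inf_eq_left]
    exact (le_iSup P i).trans hP.le
  simp_rw [h1]
  rw [hP, ← MonoidHom.range_eq_map, Subgroup.range_subtype]

end transfer

/-! ### Systems without generation -/

/-- **A parabolic system with tori** (the `P i` need not generate `G`). -/
structure SysW (p : ℕ) (B U H : Subgroup G) (P : I → Subgroup G) (m : I → I → ℕ) : Prop where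
  /-- `U` normal `p`-subgroup of `B`, `H` a Hall `p'`-subgroup of `U H`, `U H` normal in `B`, `B / U H` a `p`-group -/
  hall : Hall.HallData p B U H
  le : ∀ i, B ≤ P i
  /-- every panel has at least three chambers -/
  three : ∀ i, ∃ x ∈ P i, ∃ y ∈ P i, x ∉ B ∧ y ∉ B ∧ x⁻¹ * y ∉ B
  /-- `U` is transitive on the panels -/
  ptr : ∀ i, Hall.HallData.PTr B U (P i)
  /-- `U` modulo the kernel is semiregular on the panels -/
  reg : ∀ i, ∀ u ∈ U, ∀ g ∈ P i, g ∉ B → g⁻¹ * u * g ∈ B → u ∈ Qk B (P i)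
  /-- `C_U(H)` acts trivially on the panels -/
  fix : ∀ i, ∀ c ∈ U, c ∈ centralizer (H : Set G) → c ∈ Qk B (P i)
  m_two : ∀ i j, i ≠ j → 2 ≤ m i j
  m_symm : ∀ i j, m i j = m j i
  /-- the residues of rank two are generalised polygons -/
  poly : ∀ i j, i ≠ j → Polygon B P i j (m i j)
  /-- `H` distinguishes the two types -/
  torus : ∀ i j, i ≠ j → SepT B U H (P i) (P j) ∨ SepT B U H (P j) (P i)
  /-- `Q i ∩ Q j` consists of non-generators of `U` modulo the kernel of the residue -/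
  frat : ∀ i j, i ≠ j → ∀ T ≤ U, H ≤ normalizer (T : Set G) →
    (∀ u ∈ U, ∃ t ∈ T, t⁻¹ * u ∈ Qk B (P i) ∧ t⁻¹ * u ∈ Qk B (P j)) →
    ∀ u ∈ U, ∃ t ∈ T, t⁻¹ * u ∈ Qk B (P i ⊔ P j)

namespace SysW

variable {p : ℕ} {B U H : Subgroup G} {P : I → Subgroup G} {m : I → I → ℕ} (S : SysW p B U H P m)

include S

theorem sys (gen : ⨆ i, P i = ⊤) : Sys p B U H P m where
  hall := S.hall
  gen := gen
  le := S.le
  three := S.three
  ptr := S.ptr
  reg := S.reg
  fix := S.fix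
  m_two := S.m_two
  m_symm := S.m_symm
  poly := S.poly
  torus := S.torus
  frat := S.frat

/-- **Restriction to the subgroup generated by the `P i`.** -/
theorem sys_of_eq [hI : Nonempty I] {X : Subgroup G} (hX : ⨆ i, P i = X) :
    Sys p (B.subgroupOf X) (U.subgroupOf X) (H.subgroupOf X) (fun i => (P i).subgroupOf X) m := by
  have hP : ∀ i, P i ≤ X := fun i => (le_iSup P i).trans hX.le
  have hB : B ≤ X := (S.le (Classical.arbitrary I)).trans (hP _)
  have hU : U ≤ X := S.hall.U_le.trans hB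
  have hH : H ≤ X := S.hall.H_le.trans hB
  exact {
    hall := hallData_subgroupOf S.hall hB
    gen := iSup_subgroupOf hX
    le := fun i _ hx => S.le i hx
    three := by
      intro i
      obtain ⟨x, hx, y, hy, h1, h2, h3⟩ := S.three i
      exact ⟨⟨x, hP i hx⟩, hx, ⟨y, hP i hy⟩, hy, h1, h2, h3⟩
    ptr := fun i => pTr_subgroupOf hB hU (S.ptr i)
    reg := fun i u hu g hg hgB h => (mem_Qk_subgroupOf (hP i)).2 (S.reg i (u : G) hu (g : G) hg hgB h)
    fix := by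
      intro i c hc hcH
      refine (mem_Qk_subgroupOf (hP i)).2 (S.fix i (c : G) hc ?_)
      rw [Subgroup.mem_centralizer_iff] at hcH ⊢
      intro h hh
      exact congrArg Subtype.val (hcH ⟨h, hH hh⟩ hh)
    m_two := S.m_two
    m_symm := S.m_symm
    poly := fun i j hij => polygon_subgroupOf hB hP (S.poly i j hij)
    torus := fun i j hij => (S.torus i j hij).imp (sepT_subgroupOf hU hH (hP i) (hP j))
      (sepT_subgroupOf hU hH (hP j) (hP i))
    frat := by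
      intro i j hij T hT hHT hc u hu
      obtain ⟨t, ht, h1⟩ := S.frat i j hij (T.map X.subtype) (map_le_of_le_subgroupOf hT)
        (le_normalizer_map hH hHT) (by
          intro v hv
          obtain ⟨t, ht, h1, h2⟩ := hc ⟨v, hU hv⟩ hv
          exact ⟨(t : G), coe_mem_map.2 ht, (mem_Qk_subgroupOf (hP i)).1 h1, (mem_Qk_subgroupOf (hP j)).1 h2⟩)
        (u : G) hu
      obtain ⟨htX, ht⟩ := mem_map_subtype.1 ht
      refine ⟨⟨t, htX⟩, ht, ?_⟩
      rw [← Subgroup.subgroupOf_sup (hP i) (hP j)]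
      exact (mem_Qk_subgroupOf (sup_le (hP i) (hP j))).2 h1 }

theorem sys_iSup [Nonempty I] :
    Sys p (B.subgroupOf (⨆ i, P i)) (U.subgroupOf (⨆ i, P i)) (H.subgroupOf (⨆ i, P i))
      (fun i => (P i).subgroupOf (⨆ i, P i)) m := S.sys_of_eq rfl

/-- **THEOREM PAR for a subgroup**: `X = ⨆ i, P i` has a (B,N)-pair with Borel subgroup `B`, of rank `|I|`. -/
theorem exists_bnPair [Nonempty I] [Finite G] [Fact p.Prime] {X : Subgroup G} (hX : ⨆ i, P i = X) :
    ∃ Q : Cfsg.BNPair ↥X, Q.B = B.subgroupOf X ∧ Q.rank = Nat.card I ∧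
    ((∀ J : Set I, J.Nonempty → Jᶜ.Nonempty → ∃ i ∈ J, ∃ j ∈ Jᶜ, 3 ≤ m i j) → Q.Irreducible) :=
  (S.sys_of_eq hX).exists_bnPair

end SysW

/-! ### From local data -/

theorem Front.iSup_Pa [Nonempty I] {p : ℕ} {U : Subgroup G} {E : I → Subgroup G} (_ : Front p U E) :
    ⨆ i, Pa U E i = ⨆ i, E i := by
  apply le_antisymm
  · refine iSup_le fun i => sup_le (iSup_le fun j => ?_) (le_iSup E i)
    exact inf_le_left.trans (le_iSup E j)
  · exact iSup_mono fun i => Front.E_le_Pa i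

/-- **From local data to a parabolic system with tori**, without generation. -/
theorem Front.sysW [Nonempty I] [Finite G] {p : ℕ} [hp : Fact p.Prime] {U : Subgroup G} {E : I → Subgroup G}
    {m : I → I → ℕ} (D : Front p U E)
    (three : ∀ i, ∃ x ∈ Pa U E i, ∃ y ∈ Pa U E i, x ∉ Bo U E ∧ y ∉ Bo U E ∧ x⁻¹ * y ∉ Bo U E)
    (ptr : ∀ i, Hall.HallData.PTr (Bo U E) U (Pa U E i))
    (reg : ∀ i, ∀ u ∈ U, ∀ g ∈ Pa U E i, g ∉ Bo U E → g⁻¹ * u * g ∈ Bo U E → u ∈ Qk (Bo U E) (Pa U E i))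
    (fpf : ∀ i, FpfG p (Bo U E) U (Pa U E i))
    (m_two : ∀ i j, i ≠ j → 2 ≤ m i j) (m_symm : ∀ i j, m i j = m j i)
    (poly : ∀ i j, i ≠ j → Polygon (Bo U E) (Pa U E) i j (m i j))
    (torus : ∀ i j, i ≠ j → SepG p (Bo U E) U (Pa U E i) (Pa U E j) ∨ SepG p (Bo U E) U (Pa U E j) (Pa U E i))
    (frat : ∀ i j, i ≠ j → ∀ T ≤ U,
      (∀ u ∈ U, ∃ t ∈ T, t⁻¹ * u ∈ Qk (Bo U E) (Pa U E i) ∧ t⁻¹ * u ∈ Qk (Bo U E) (Pa U E j)) →
      ∀ u ∈ U, ∃ t ∈ T, t⁻¹ * u ∈ Qk (Bo U E) (Pa U E i ⊔ Pa U E j)) :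
    ∃ H : Subgroup G, U ⊔ H = Bo U E ∧ SysW p (Bo U E) U H (Pa U E) m := by
  obtain ⟨H, hall, hUH⟩ := D.exists_hall
  exact ⟨H, hUH, {
    hall := hall
    le := Front.Bo_le_Pa
    three := three
    ptr := ptr
    reg := reg
    fix := fun i => fix_of_fpfG hall (Front.Bo_le_Pa i) (fpf i)
    m_two := m_two
    m_symm := m_symm
    poly := poly
    torus := fun i j hij => (torus i j hij).imp
      (fun h => (sep_of_sepG hall (Front.Bo_le_Pa i) (Front.Bo_le_Pa j) h).sepT hall (Front.Bo_le_Pa j))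
      (fun h => (sep_of_sepG hall (Front.Bo_le_Pa j) (Front.Bo_le_Pa i) h).sepT hall (Front.Bo_le_Pa i))
    frat := fun i j hij T hT _ h => frat i j hij T hT h }⟩

/-- The (B,N)-pair of `X = ⨆ i, E i`. -/
theorem Front.exists_bnPair [Nonempty I] [Finite G] {p : ℕ} [hp : Fact p.Prime] {U : Subgroup G}
    {E : I → Subgroup G} {m : I → I → ℕ} (D : Front p U E) {X : Subgroup G} (hX : ⨆ i, E i = X)
    (three : ∀ i, ∃ x ∈ Pa U E i, ∃ y ∈ Pa U E i, x ∉ Bo U E ∧ y ∉ Bo U E ∧ x⁻¹ * y ∉ Bo U E)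
    (ptr : ∀ i, Hall.HallData.PTr (Bo U E) U (Pa U E i))
    (reg : ∀ i, ∀ u ∈ U, ∀ g ∈ Pa U E i, g ∉ Bo U E → g⁻¹ * u * g ∈ Bo U E → u ∈ Qk (Bo U E) (Pa U E i))
    (fpf : ∀ i, FpfG p (Bo U E) U (Pa U E i))
    (m_two : ∀ i j, i ≠ j → 2 ≤ m i j) (m_symm : ∀ i j, m i j = m j i)
    (poly : ∀ i j, i ≠ j → Polygon (Bo U E) (Pa U E) i j (m i j))
    (torus : ∀ i j, i ≠ j → SepG p (Bo U E) U (Pa U E i) (Pa U E j) ∨ SepG p (Bo U E) U (Pa U E j) (Pa U E i))
    (frat : ∀ i j, i ≠ j → ∀ T ≤ U,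
      (∀ u ∈ U, ∃ t ∈ T, t⁻¹ * u ∈ Qk (Bo U E) (Pa U E i) ∧ t⁻¹ * u ∈ Qk (Bo U E) (Pa U E j)) →
      ∀ u ∈ U, ∃ t ∈ T, t⁻¹ * u ∈ Qk (Bo U E) (Pa U E i ⊔ Pa U E j)) :
    ∃ Q : Cfsg.BNPair ↥X, Q.B = (Bo U E).subgroupOf X ∧ Q.rank = Nat.card I ∧
    ((∀ J : Set I, J.Nonempty → Jᶜ.Nonempty → ∃ i ∈ J, ∃ j ∈ Jᶜ, 3 ≤ m i j) → Q.Irreducible) := by
  obtain ⟨H, -, S⟩ := D.sysW three ptr reg fpf m_two m_symm poly torus frat
  exact S.exists_bnPair (D.iSup_Pa.trans hX)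

end Cfsg.Agent.ParSys

end

-- merged: Cfsg.Agent.Mrg.Omega.HOneEnd.OfSys
section

/-!
# II.0h1, `q = 2`: from a parabolic system to the interface `EndIn` (THEOREM FREE)

* `gpp_subgroupOf` : the rank two condition `GPp` for a subgroup `X ≥ P i`;
* `exists_bnPair` : a system `S ≤ PP i` with three chambers in each panel, of spherical type, `|S| = 2^N`, without normal
  2-subgroup: the subgroup `X = ⨆ PP i` has a BN-pair with Borel subgroup `S`;
* `ends_of_sys` : over `Pos`: `Ends S V (R o)`.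
-/

set_option autoImplicit false

namespace Cfsg.Agent.Omega.HOneEnd.OfSys

open Subgroup Cfsg Cfsg.Agent.ParSys Cfsg.Agent.ParSys.Free Cfsg.Agent.ParSys.FreeCount Cfsg.Agent.ParSys.RankTwo

section transfer

variable {G : Type*} [Group G] {I : Type*} {X B : Subgroup G} {P : I → Subgroup G}

/-- `X / B → G / B` -/
def qm (X B : Subgroup G) : (↥X ⧸ B.subgroupOf X) → G ⧸ B :=
  fun c => Quotient.liftOn' c (fun y => ((y : G) : G ⧸ B)) fun a b h => by
    rw [QuotientGroup.leftRel_apply] at h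
    exact QuotientGroup.eq.2 (Subgroup.mem_subgroupOf.1 h)

theorem qm_mk (y : ↥X) : qm X B (y : ↥X ⧸ B.subgroupOf X) = ((y : G) : G ⧸ B) := rfl

theorem qm_inj : Function.Injective (qm X B) := by
  intro a b h
  induction a using QuotientGroup.induction_on with
  | _ a =>
  induction b using QuotientGroup.induction_on with
  | _ b =>
  rw [qm_mk, qm_mk, QuotientGroup.eq] at h
  exact QuotientGroup.eq.2 (Subgroup.mem_subgroupOf.2 h)

theorem map_chm (x : ↥X) (k : List ↥X) :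
    (chm (B.subgroupOf X) x k).map (qm X B) = chm B (x : G) (k.map (Subtype.val : ↥X → G)) := by
  induction k generalizing x with
  | nil => rfl
  | cons y k ih =>
    rw [chm, List.map_cons, ih, List.map_cons, chm]
    rfl

/-- the rank two condition for a subgroup -/
theorem gpp_subgroupOf (hP : ∀ i, P i ≤ X) (hBP : ∀ i, B ≤ P i) {i j : I} {m : ℕ} (h : GPp B P i j m) :
    GPp (B.subgroupOf X) (fun i => (P i).subgroupOf X) i j m := by
  have hBP' : ∀ i, B.subgroupOf X ≤ (P i).subgroupOf X := fun i x hx => hBP i hx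
  intro c l hl
  induction c using QuotientGroup.induction_on with
  | _ x =>
  obtain ⟨k, hk, rfl⟩ := exists_chm hBP' hl
  have h1 := isGal_chm (x := (x : G)) hBP (galE_subgroupOf.1 hk)
  obtain ⟨l', ⟨h2, h3⟩, h4⟩ := h _ _ h1
  obtain ⟨k', hk', rfl⟩ := exists_chm hBP h2
  obtain ⟨k₀, rfl⟩ := exists_lift hP hk'
  have hk₀ : GalE (B.subgroupOf X) (fun i => (P i).subgroupOf X) (alt j i m) k₀ := galE_subgroupOf.2 hk'
  refine ⟨chm (B.subgroupOf X) x k₀, ⟨isGal_chm hBP' hk₀, ?_⟩, ?_⟩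
  · rw [chm_last, chm_last] at h3 ⊢
    rw [QuotientGroup.eq] at h3 ⊢
    rw [Subgroup.mem_subgroupOf]
    have e : (((x * k₀.prod)⁻¹ * (x * k.prod) : ↥X) : G) =
        ((x : G) * (k₀.map (Subtype.val : ↥X → G)).prod)⁻¹ * ((x : G) * (k.map (Subtype.val : ↥X → G)).prod) := by
      rw [← ParSys.coe_prod, ← ParSys.coe_prod]
      rfl
    rw [e]
    exact h3
  · rintro l₂ ⟨h5, h6⟩
    obtain ⟨k₂, hk₂, rfl⟩ := exists_chm hBP' h5
    have h7 := h4 (chm B (x : G) (k₂.map (Subtype.val : ↥X → G)))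
      ⟨isGal_chm hBP (galE_subgroupOf.1 hk₂), ?_⟩
    · rw [← map_chm, ← map_chm] at h7
      exact (List.map_injective_iff.2 qm_inj) h7
    · rw [chm_last, chm_last] at h6 ⊢
      rw [QuotientGroup.eq] at h6 ⊢
      rw [Subgroup.mem_subgroupOf] at h6
      have e : (((x * k₂.prod)⁻¹ * (x * k.prod) : ↥X) : G) =
          ((x : G) * (k₂.map (Subtype.val : ↥X → G)).prod)⁻¹ * ((x : G) * (k.map (Subtype.val : ↥X → G)).prod) := by
        rw [← ParSys.coe_prod, ← ParSys.coe_prod]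
        rfl
      rw [e] at h6
      exact h6

end transfer

section bn

variable {G : Type*} [Group G] {I : Type*}

/-- no normal 2-subgroup: the core of `S` is trivial -/
theorem core_bot {S X : Subgroup G} (hloc : ∀ K ≤ S, X ≤ normalizer (K : Set G) → K = ⊥) :
    (S.subgroupOf X).normalCore = ⊥ := by
  have h3 : ((S.subgroupOf X).normalCore).map X.subtype = ⊥ := by
    apply hloc
    · rintro _ ⟨y, hy, rfl⟩
      exact mem_subgroupOf.1 ((S.subgroupOf X).normalCore_le hy)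
    · intro g hg
      have h4 : (S.subgroupOf X).normalCore.Normal := inferInstance
      rw [Subgroup.mem_normalizer_iff]
      intro y
      constructor
      · rintro ⟨y', hy', rfl⟩
        exact ⟨⟨g, hg⟩ * y' * ⟨g, hg⟩⁻¹, h4.conj_mem _ hy' _, rfl⟩
      · rintro ⟨y', hy', he⟩
        refine ⟨⟨g, hg⟩⁻¹ * y' * ⟨g, hg⟩, ?_, ?_⟩
        · have := h4.conj_mem _ hy' (⟨g, hg⟩⁻¹)
          rwa [inv_inv] at this
        · change g⁻¹ * (y' : G) * g = y
          rw [show (y' : G) = g * y * g⁻¹ from he]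
          group
  rw [eq_bot_iff]
  intro y hy
  have h5 : (y : G) ∈ ((S.subgroupOf X).normalCore).map X.subtype := ⟨y, hy, rfl⟩
  rw [h3, mem_bot] at h5
  exact mem_bot.2 (Subtype.ext h5)

/-- **THEOREM FREE in a subgroup**, `q = 2` -/
theorem exists_bnPair [Finite G] [Finite I] [Nonempty I] {M : CoxeterMatrix I} {N : ℕ} (hM : HasQ M (fun _ => 2) N)
    {S : Subgroup G} {PP : I → Subgroup G} (hle : ∀ i, S ≤ PP i) (h3 : ∀ i, S.relIndex (PP i) = 3)
    (hgp : ∀ i j, i ≠ j → GPp S PP i j (M i j)) (hcard : N ≤ Nat.card S) {X : Subgroup G} (hX : ⨆ i, PP i = X)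
    (hloc : ∀ K ≤ S, X ≤ normalizer (K : Set G) → K = ⊥) :
    Nat.card S = N ∧ ∃ Q : Cfsg.BNPair ↥X, Q.B = S.subgroupOf X ∧ Q.rank = Nat.card I ∧
      (∃ e : I ≃ Q.S, ∀ i, ((e i : ↥X) : G) ∈ PP i) ∧
      ((∀ J : Set I, J.Nonempty → Jᶜ.Nonempty → ∃ i ∈ J, ∃ j ∈ Jᶜ, M i j ≠ 2) → Q.Irreducible) := by
  have hP : ∀ i, PP i ≤ X := fun i => hX ▸ le_iSup PP i
  obtain ⟨i₀⟩ := (inferInstance : Nonempty I)
  have hSX : S ≤ X := (hle i₀).trans (hP i₀)
  have hcore := core_bot hloc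
  have hsys : Free.Sys M.toCoxeterSystem (S.subgroupOf X) (fun i => (PP i).subgroupOf X) (S.subgroupOf X)
      (fun _ => 2) := {
    le := fun i x hx => hle i hx
    gen := by
      have : Nonempty I := ⟨i₀⟩
      exact iSup_subgroupOf hX
    gp := fun i j hij => gpp_subgroupOf hP hle (hgp i j hij)
    card := fun i => by
      rw [Subgroup.relIndex_subgroupOf (hP i)]
      exact h3 i
    two := fun _ => le_rfl
    U_le := le_rfl
    pan := fun i g hg x hx hxB hgx y hy =>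
      pan_of_three (B := S.subgroupOf X) (P := (PP i).subgroupOf X) (fun x hx => hle i hx)
        (by rw [Subgroup.relIndex_subgroupOf (hP i)]; exact h3 i) g hg x hx hxB hgx y hy
    clo := fun _ _ _ h => h
    core := fun g _ h => by
      have h1 : g ∈ (S.subgroupOf X).normalCore := by
        intro b
        have := h b⁻¹
        rwa [inv_inv] at this
      rw [hcore, mem_bot] at h1
      exact h1 }
  have hc0 : Nat.card (S.subgroupOf X) = Nat.card S := Nat.card_congr (subgroupOfEquivOfLe hSX).toEquiv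
  have hc1 : Nat.card S = N := le_antisymm (hc0 ▸ hM.card_le hsys) hcard
  obtain ⟨Q, h1, h2, ⟨e, he⟩, h4⟩ := hM.exists_bnPair hsys (hc0.trans hc1)
  exact ⟨hc1, Q, h1, h2, ⟨e, fun i => mem_subgroupOf.1 (he i)⟩, h4⟩

end bn

section pos

open Cfsg.Agent.ZN Cfsg.Agent.Omega.MinPar Cfsg.Agent.Omega.BTwo Cfsg.Agent.Omega.HOneTwo
open Cfsg.Agent.Omega.HTwo.Entry (Pos)
open Cfsg.Agent.Omega.HTwo.AlphaP (MP)
open Cfsg.Agent.Omega.HOneTwo.Trans (gn gen)
open Cfsg.Agent.Omega.HOne.Cut (Ends TSz)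

universe u

variable {G : Type u} [Group G] [Finite G] {S : Sylow 2 G} {P V : Subgroup G} {ι : Type*} {R : ι → Subgroup G}
  {o : ι} {r z : G}

/-- **the end of the chains for `q = 2`, from a parabolic system** `PP i`, `i ∈ I`, over `S`: all panels have three
chambers, the residues of rank two are generalised polygons (`GPp`), `|S| ≥ 2^{l(w₀)}` (`HasQ`), `PP i ≤ C(r)` for
`i ≠ o'`, `C(r)` and `X` lie in `⟨PP i⟩`, and some `T ≤ [⟨PP i⟩, ⟨PP i⟩]`, `T ≤ S` has order at least `2^{l(w₀)}`. -/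
theorem ends_of_sys (p : Pos S P V R o r z) {I : Type*} [Finite I] {M : CoxeterMatrix I} {N : ℕ}
    (hM : HasQ M (fun _ => 2) N) {PP : I → Subgroup G} (hle : ∀ i, (S : Subgroup G) ≤ PP i)
    (h3 : ∀ i, (S : Subgroup G).relIndex (PP i) = 3)
    (hgp : ∀ i j, i ≠ j → GPp (S : Subgroup G) PP i j (M i j)) (hcard : N ≤ Nat.card (S : Subgroup G))
    (hI : 3 ≤ Nat.card I)
    (hconn : ∀ J : Set I, J.Nonempty → Jᶜ.Nonempty → ∃ i ∈ J, ∃ j ∈ Jᶜ, M i j ≠ 2)
    {o' : I} (hpar : ∀ i, i ≠ o' → PP i ≤ centralizer {r}) (hr : centralizer {r} ≤ ⨆ i, PP i)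
    (hX : XX V R ≤ ⨆ i, PP i) {T : Subgroup G} (hT : T ≤ ⁅⨆ i, PP i, ⨆ i, PP i⁆) (hTS : T ≤ (S : Subgroup G))
    (hTc : N ≤ Nat.card T) : Ends (S : Subgroup G) V (R o) := by
  have hne : Nonempty I := ⟨o'⟩
  have hloc : ∀ K ≤ (S : Subgroup G), (⨆ i, PP i) ≤ normalizer (K : Set G) → K = ⊥ := by
    intro K hK hG
    refine p.toHT.nonloc_o (A := XX V R) (fun i => p.toBT.trans_X_one o i) (S.2.to_le hK) (hX.trans hG) ?_
    rw [p.normalizer_eq]
    exact hr.trans hG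
  obtain ⟨hSN, Q, hB, hrk, ⟨e, he⟩, hirr⟩ := exists_bnPair hM hle h3 hgp hcard rfl hloc
  have hTS' : T = (S : Subgroup G) := by
    apply Subgroup.eq_of_le_of_card_ge hTS
    rw [hSN]
    exact hTc
  rw [hTS'] at hT
  refine OfTwo.ends_of p Q hB (hrk ▸ hI) (hirr hconn) (Subgroup.card_dvd_of_le hT) hr hX ?_
  refine ⟨(e o' : ↥(⨆ i, PP i)), fun s hs hne' => ?_⟩
  have h1 : s = (e (e.symm ⟨s, hs⟩) : ↥(⨆ i, PP i)) := by rw [Equiv.apply_symm_apply]
  have h2 : e.symm ⟨s, hs⟩ ≠ o' := by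
    intro h
    apply hne'
    rw [h1, h]
  rw [h1]
  exact hpar _ h2 (he _)

/-- the same with `MP ≤ ⟨PP i⟩` and `T ≤ ⟨r^M, z^{C(p)}⟩` -/
theorem ends_of_sys' (p : Pos S P V R o r z) (t : TSz V R o r z) {I : Type*} [Finite I] {M : CoxeterMatrix I} {N : ℕ}
    (hM : HasQ M (fun _ => 2) N) {PP : I → Subgroup G} (hle : ∀ i, (S : Subgroup G) ≤ PP i)
    (h3 : ∀ i, (S : Subgroup G).relIndex (PP i) = 3)
    (hgp : ∀ i j, i ≠ j → GPp (S : Subgroup G) PP i j (M i j)) (hcard : N ≤ Nat.card (S : Subgroup G))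
    (hI : 3 ≤ Nat.card I)
    (hconn : ∀ J : Set I, J.Nonempty → Jᶜ.Nonempty → ∃ i ∈ J, ∃ j ∈ Jᶜ, M i j ≠ 2)
    {o' : I} (hpar : ∀ i, i ≠ o' → PP i ≤ centralizer {r}) (hr : centralizer {r} ≤ ⨆ i, PP i)
    (hMP : MP V R o z ≤ ⨆ i, PP i) {T : Subgroup G}
    (hT : T ≤ gn (MP V R o z) r ⊔ closure {x | ∃ m ∈ MP V R o z, ∃ y ∈ gen r z, x = m * y * m⁻¹})
    (hTS : T ≤ (S : Subgroup G)) (hTc : N ≤ Nat.card T) : Ends (S : Subgroup G) V (R o) := by
  have hX : XX V R ≤ ⨆ i, PP i := (le_sup_right : XX V R ≤ MP V R o z).trans hMP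
  refine ends_of_sys p hM hle h3 hgp hcard hI hconn hpar hr hX (hT.trans ?_) hTS hTc
  refine sup_le (OfTwo.gn_le_comm p hr hX) ((closure_le _).2 ?_)
  rintro _ ⟨m, hm, y, hy, rfl⟩
  exact OfTwo.comm_conj (hMP hm) (OfTwo.gen_le_comm p t hr hX hy)

end pos

end Cfsg.Agent.Omega.HOneEnd.OfSys

end
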