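import Cfsg.Agent.Mrg.Omega.HOneEnd.SysID
import Cfsg.Agent.TitsThree.SolvedFF
import Cfsg.Agent.TitsThree.KExcTwTop
import Cfsg.Agent.TitsThree.KExcF4
import Cfsg.Agent.Mrg.Omega.HOneEnd.FamCN
import Mathlib
import Cfsg.Agent.OddHalf.Orth.KFr
import Cfsg.Agent.OddHalf.Orth.KPl
import Cfsg.Agent.KFacts.SysFree
import Cfsg.Agent.KFacts.SLRow.Row
import Cfsg.Agent.KFacts.Unit.KF
import Cfsg.Agent.KFacts.TwESix.Cent
import Cfsg.Agent.KFacts.TwESix.Dat
import Cfsg.Agent.S1070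
import Cfsg.Agent.KFacts.SysBFSp
import Cfsg.Agent.Mrg.Omega.HOneEnd.FFourDefs
import Cfsg.Agent.KFacts.F4Aut
import Cfsg.Agent.KFacts.RgdGraphF4

-- merged: Cfsg.Agent.Mrg.Omega.HOneEnd.FamFF
section

/-!
# S1143 with the family list: type `F₄` (copy of `TitsThree.CharFF` with `Fam`)
-/

set_option autoImplicit false

namespace Cfsg.Agent.Omega.HOneEnd.FamFF

open Cfsg.Lie
open Cfsg.Agent.Tits.Core Cfsg.Agent.Tits.Core.Bldg Cfsg.Agent.Tits Cfsg.Agent.Tits.MouOut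
open Cfsg.Agent.Tits.MouDefs (rt Aut Chart)
open Cfsg.Agent.LieRecognition.BNCox Cfsg.Agent.LieRecognition.CoxClass
open Cfsg.Agent.TitsThree Cfsg.Agent.TitsThree.Pack Cfsg.Agent.TitsThree.FFData
open Cfsg.Agent.TitsThree.F4Bond Cfsg.Agent.TitsThree.EndFF Cfsg.Agent.TitsThree.Reindex
open Cfsg.Agent.TitsThree.SolvedFF Cfsg.Agent.Omega.HOneEnd.FamBase
open Cfsg.Agent.Tits.RGOut (RX)

/-- A model, with the characteristic. -/
def HasModelF {F E : Type} [Field F] [Field E] [Algebra F E] (P : ConjPair F E) : Prop :=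
  ∃ (K : Type) (_ : Group K), IsSimpleGroup K ∧ (∀ p : ℕ, CharP E p → Cfsg.Agent.Omega.HOneEnd.Fam p K) ∧
    Nonempty (KFF K P.datum P.τ P.τ')

theorem hasModelF_triv (F : Type) [Field F] [Finite F] : HasModelF (ConjPair.triv F) := by
  have := Fintype.ofFinite F
  refine ⟨↥(chevF4.group F), inferInstance, KExcF4.simple F, fun p hp => ?_, ⟨KExcF4.kff F⟩⟩
  exact Or.inr (Or.inr (Or.inr (Or.inr (Or.inr (Or.inr (Or.inl
    ⟨F, inferInstance, inferInstance, hp, ⟨MulEquiv.refl _⟩⟩))))))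

theorem hasModelF_tw {F E : Type} [Field F] [Finite F] [Field E] [Finite E] [Algebra F E]
    (P : ConjPair F E) (hc : ∃ t, P.conj t ≠ t) : HasModelF P := by
  classical
  have : Fintype F := Fintype.ofFinite F
  have : Fintype E := Fintype.ofFinite E
  have h1 : ∀ t, P.conj t = t ^ Fintype.card F := fun t => by
    rw [← Nat.card_eq_fintype_card]; exact P.conj_eq_pow hc t
  have h2 : Fintype.card E = Fintype.card F ^ 2 := by
    rw [← Nat.card_eq_fintype_card, ← Nat.card_eq_fintype_card]; exact P.card_eq hc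
  have h3 : IsPrimePow (Fintype.card F) := by
    rw [← Nat.card_eq_fintype_card]; exact ConjPair.isPrimePow_card
  refine ⟨↥(twistedE6 E (Fintype.card F)), inferInstance, (Cfsg.Agent.S1070.result h3 h2).1,
    fun p hp => ?_, KExcTwE6.kff P h1⟩
  exact Or.inr (Or.inr (Or.inr (Or.inr (Or.inr (Or.inr (Or.inr (Or.inr (Or.inr (Or.inr
    ⟨E, inferInstance, inferInstance, hp, _, h3, h2, ⟨MulEquiv.refl _⟩⟩)))))))))

/-- `SolvedF Δ` from the G side and a model. -/
theorem solvedF_of_outP {W : Type*} [Group W] [Finite W] {C : Type*} [Finite C]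
    {cs : CoxeterSystem cF W} {Δ : Bldg cs C} {σ : W → C} (hth : Δ.Thick) (hσ : Chart Δ σ)
    {F E : Type} [Field F] [Finite F] [Field E] [Finite E] [Algebra F E] {P : ConjPair F E}
    (h : OutP Δ σ P) (hK : HasModelF P) : SolvedF Δ := by
  obtain ⟨Q, R⟩ := id h
  obtain ⟨K, i1, i2, hK1, ⟨k⟩⟩ := hK
  have H := MouAll.sys MouAll.lab_F CombInst.diag_F hth hσ
  obtain ⟨p, hp⟩ := CharP.exists F
  have : Fact p.Prime := ⟨CharP.char_is_prime F p⟩
  have hpE : CharP E p := charP_of_injective_algebraMap (algebraMap F E).injective p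
  have : Finite (Aut Δ) := by
    refine Finite.of_injective (fun a : Aut Δ => (MulAction.toPerm a : Equiv.Perm C))
      fun a b hab => ?_
    have h1 : b⁻¹ * a = 1 := H.faith _ fun x => by
      rw [mul_smul, inv_smul_eq_iff]
      exact congrFun (congrArg DFunLike.coe hab) x
    exact (inv_mul_eq_one.1 h1).symm
  refine solvedF H (p := p) (EndFF.isPGroup R) (EndFF.solvable H R)
    (EndFF.coprime H R P.τ_surj P.τ'_surj
      (EndFFTor.tor_inf_le_torusFF H R P.τ_surj P.τ'_surj)) fun _ => ?_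
  obtain ⟨e⟩ := nonempty_mulEquiv hth hσ h k
  exact Cfsg.Agent.Omega.HOneEnd.Fam.of_equiv e (hK1 p hpE)

section re

variable {I I' W C : Type*} [Group W] {M : CoxeterMatrix I} {M' : CoxeterMatrix I'}
  {cs : CoxeterSystem M W} {cs' : CoxeterSystem M' W} {e : I' ≃ I}
  (hs : ∀ i, cs'.simple i = cs.simple (e i)) {Δ : Bldg cs C}

/-- `SolvedC` does not depend on the names of the nodes. -/
theorem solvedF_of_re (h : SolvedF (re hs Δ)) : SolvedF Δ := by
  obtain ⟨p, hp, c, d, U, h1, h2, h3, h4, h5, h6, h7, h8, h9, hpar, h10⟩ := h.out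
  refine ⟨p, hp, c, d, U, (re_opp hs c d).1 h1, h2, h3, h4,
    fun x hx => h5 x ((re_opp hs c x).2 hx), h6, h7, h8, h9, fun i => ?_, h10⟩
  obtain ⟨a, ha⟩ := hpar (e.symm i)
  refine ⟨a, fun x => ?_⟩
  have := ha x
  rw [re_pan, e.apply_symm_apply] at this
  exact this

end re

/-- **It is enough to treat the oriented buildings.** -/
theorem solvedF_F {W C : Type*} [Group W] [Finite W] [Finite C] {σ : W → C}
    (h : ∀ (cs : CoxeterSystem cF W) (Δ : Bldg cs C), Δ.Thick → Chart Δ σ → Out Δ σ → SolvedF Δ)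
    {cs : CoxeterSystem cF W} {Δ : Bldg cs C} (hth : Δ.Thick) (hσ : Chart Δ σ) : SolvedF Δ := by
  rcases orient hth hσ with h1 | h1
  · exact h cs Δ hth hσ (out_of_midStd hth hσ h1)
  · have hs := revSys_simple cs
    refine solvedF_of_re hs (h _ _ (re_thick hs hth) (re_chart hs hσ) ?_)
    exact out_of_midStd (re_thick hs hth) (re_chart hs hσ) (mid_re hs rfl rfl h1)

universe u

/-- **Type `F₄` is solved, with the characteristic.** -/
theorem allSolvedF_F : AllSolvedF.{u} cF := by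
  intro W C _ _ _ _ cs Δ hth
  obtain ⟨c⟩ := (inferInstance : Nonempty C)
  obtain ⟨d, hd⟩ := Opp.exists_opp Δ c
  obtain ⟨σ, hσ, -, -⟩ := MouDefs.exists_chart hd 1
  refine solvedF_F (fun cs Δ hth hσ h => ?_) hth hσ
  rcases h with ⟨F, i1, i2, h⟩ | ⟨F, E, i1, i2, i3, i4, i5, P, hP, h⟩
  · exact solvedF_of_outP hth hσ h (hasModelF_triv F)
  · exact solvedF_of_outP hth hσ h (hasModelF_tw P hP)

end Cfsg.Agent.Omega.HOneEnd.FamFF

end

-- merged: Cfsg.Agent.Mrg.Omega.HOneEnd.FamExport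
section

section


/-!
# S1143 with the family list of rank at least three

`main`: a finite simple group with an irreducible (B,N)-pair of rank at least 3 satisfies `Fam p`, and all the indices `|B : B ∩ sBs⁻¹|` are powers of `p`.
`main_char`: if moreover `B = U (B ∩ N)` with `U` a `p`-group, then `Fam p G`.
-/

set_option autoImplicit false

namespace Cfsg.Agent.Omega.HOneEnd.FamExport

open Cfsg.Agent.Omega.HOneEnd.FamBase

universe u

variable {G : Type u} [Group G] [Finite G] [IsSimpleGroup G]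

/-- **S1143 with the characteristic.** -/
theorem main (P : Cfsg.BNPair G) (h3 : 3 ≤ P.rank) (hirr : P.Irreducible) :
    ∃ p : ℕ, p.Prime ∧ Cfsg.Agent.Omega.HOneEnd.Fam p G ∧
      ∀ s ∈ P.S, ∃ a : ℕ, (P.B.map (MulAut.conj s).toMonoidHom).relIndex P.B = p ^ a :=
  main_of (fun _ h => FamSL.allSolvedF_A h) (fun n h => FamCN.allSolvedF n h)
    (fun _ h => FamSL.allSolvedF_D h) FamSL.allSolvedF_E6 FamSL.allSolvedF_E7
    FamSL.allSolvedF_E8 FamFF.allSolvedF_F P h3 hirr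

theorem nonempty_S {G : Type*} [Group G] (P : Cfsg.BNPair G) (h3 : 3 ≤ P.rank) :
    P.S.Nonempty := by
  by_contra h
  rw [Set.not_nonempty_iff_eq_empty] at h
  unfold Cfsg.BNPair.rank at h3
  rw [h] at h3
  simp at h3

/-- **The characteristic is the prime of `U`**, if `B = U (B ∩ N)`. -/
theorem main_char (P : Cfsg.BNPair G) (h3 : 3 ≤ P.rank) (hirr : P.Irreducible) {p : ℕ}
    (hp : p.Prime) (U : Subgroup G) (hU : IsPGroup p U) (hUB : U ≤ P.B)
    (hB : ∀ b ∈ P.B, ∃ u ∈ U, ∃ t ∈ P.B ⊓ P.N, b = u * t) : Cfsg.Agent.Omega.HOneEnd.Fam p G :=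
  char_of_split P (nonempty_S P h3) (main P h3 hirr) hp U hU hB hUB

end Cfsg.Agent.Omega.HOneEnd.FamExport

end

section


/-!
# LeafH1, END: the characteristic is two (helper368)

**`fam_two`** : a finite simple group with an irreducible (B,N)-pair of rank at least 3 such that `B` contains a subgroup
of odd index satisfies `Fam 2`.
-/

set_option autoImplicit false

namespace Cfsg.Agent.Omega.HOneEnd.Parity

universe u

theorem fam_two {L : Type u} [Group L] [Finite L] [IsSimpleGroup L] (Q : Cfsg.BNPair L) (h3 : 3 ≤ Q.rank)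
    (hirr : Q.Irreducible) {U : Subgroup L} (hU : U ≤ Q.B) (hodd : Odd U.index) :
    Cfsg.Agent.Omega.HOneEnd.Fam 2 L := by
  obtain ⟨p, hp, hF, hpar⟩ := FamExport.main Q h3 hirr
  obtain ⟨s, hs⟩ := FamExport.nonempty_S Q h3
  obtain ⟨a, ha⟩ := hpar s hs
  rwa [two_of_odd Q hs hU hodd hp ha] at hF

end Cfsg.Agent.Omega.HOneEnd.Parity

end

section


/-!
# LeafH1, END, THEOREM ID: the types `T2` (helper368)

`T2 L`: for a Sylow 2-subgroup `U` of `L` and `1 ≠ R ≤ Z(U)` with `N(U) ≤ N(R)` maximal in `L`, `C(v) ≤ N(R)` for every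
`1 ≠ v ∈ Z(U)`.

* `T2.of_ti` : `Z(U) ≤ Z₀`, `Z₀` a TI-subgroup, `N(Z₀) ≠ L`;
* `T2.of_aut` : the same, `Z(U) ≤ Z₀` from a fact about automorphisms trivial on `U`;
* `T2.of_equiv` : transport.
-/

set_option autoImplicit false
set_option linter.unusedSectionVars false

namespace Cfsg.Agent.Omega.HOneEnd.TTwo

open Subgroup

universe u v

/-- the property of the types with `Z(U)` a TI root group -/
def T2 (L : Type u) [Group L] : Prop :=
  ∀ U : Sylow 2 L, ∀ R : Subgroup L, R ≤ (U : Subgroup L) → R ≤ centralizer ((U : Subgroup L) : Set L) → R ≠ ⊥ →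
    normalizer ((U : Subgroup L) : Set L) ≤ normalizer (R : Set L) → IsCoatom (normalizer (R : Set L)) →
    ∀ v ∈ (U : Subgroup L), v ∈ centralizer ((U : Subgroup L) : Set L) → v ≠ 1 →
      centralizer {v} ≤ normalizer (R : Set L)

section gen

variable {L : Type u} [Group L]

/-- a TI-subgroup -/
def TI (Z : Subgroup L) : Prop := ∀ z ∈ Z, z ≠ 1 → ∀ g : L, g * z * g⁻¹ ∈ Z → g ∈ normalizer (Z : Set L)

theorem mem_map_conj {Z : Subgroup L} {g x : L} : x ∈ Z.map (MulAut.conj g).toMonoidHom ↔ g⁻¹ * x * g ∈ Z := by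
  constructor
  · rintro ⟨y, hy, rfl⟩
    have e : g⁻¹ * (MulAut.conj g).toMonoidHom y * g = y := by
      show g⁻¹ * (g * y * g⁻¹) * g = y
      group
    rw [e]
    exact hy
  · intro h
    refine ⟨_, h, ?_⟩
    show g * (g⁻¹ * x * g) * g⁻¹ = x
    group

theorem normalizer_map_conj {Z : Subgroup L} {g x : L} :
    x ∈ normalizer ((Z.map (MulAut.conj g).toMonoidHom : Subgroup L) : Set L) ↔ g⁻¹ * x * g ∈ normalizer (Z : Set L) := by
  rw [mem_normalizer_iff, mem_normalizer_iff]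
  constructor
  · intro h y
    have h1 := h (g * y * g⁻¹)
    rw [mem_map_conj, mem_map_conj] at h1
    have e1 : g⁻¹ * (g * y * g⁻¹) * g = y := by group
    have e2 : g⁻¹ * (x * (g * y * g⁻¹) * x⁻¹) * g = g⁻¹ * x * g * y * (g⁻¹ * x * g)⁻¹ := by group
    rwa [e1, e2] at h1
  · intro h y
    rw [mem_map_conj, mem_map_conj, h (g⁻¹ * y * g)]
    have e2 : g⁻¹ * (x * y * x⁻¹) * g = g⁻¹ * x * g * (g⁻¹ * y * g) * (g⁻¹ * x * g)⁻¹ := by group
    rw [e2]

theorem TI.map {Z : Subgroup L} (h : TI Z) (g : L) : TI (Z.map (MulAut.conj g).toMonoidHom) := by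
  intro z hz hz1 x hx
  rw [mem_map_conj] at hz hx
  rw [normalizer_map_conj]
  refine h _ hz (fun h0 => hz1 ?_) _ ?_
  · have e : z = g * (g⁻¹ * z * g) * g⁻¹ := by group
    rw [e, h0]; group
  · have e : g⁻¹ * x * g * (g⁻¹ * z * g) * (g⁻¹ * x * g)⁻¹ = g⁻¹ * (x * z * x⁻¹) * g := by group
    rw [e]
    exact hx

/-- **The criterion.** -/
theorem T2.of_ti [Finite L] (U₀ : Sylow 2 L) (Z₀ : Subgroup L)
    (hZ : ∀ c ∈ (U₀ : Subgroup L), c ∈ centralizer ((U₀ : Subgroup L) : Set L) → c ∈ Z₀) (ti : TI Z₀)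
    (hN : normalizer (Z₀ : Set L) ≠ ⊤) : T2 L := by
  have : Fact (Nat.Prime 2) := ⟨Nat.prime_two⟩
  intro U R hRU hRC hR1 _ hco v hv hvC hv1
  obtain ⟨g, rfl⟩ := MulAction.exists_smul_eq L U₀ U
  have hmem : ∀ {x : L}, x ∈ ((g • U₀ : Sylow 2 L) : Subgroup L) ↔ g⁻¹ * x * g ∈ (U₀ : Subgroup L) := fun {x} => by
    rw [show ((g • U₀ : Sylow 2 L) : Subgroup L) = (U₀ : Subgroup L).map (MulAut.conj g).toMonoidHom from rfl,
      mem_map_conj]
  set Z := Z₀.map (MulAut.conj g).toMonoidHom with hZdef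
  have hZ' : ∀ c ∈ ((g • U₀ : Sylow 2 L) : Subgroup L), c ∈ centralizer (((g • U₀ : Sylow 2 L) : Subgroup L) : Set L) →
      c ∈ Z := by
    intro c hc hcC
    rw [hZdef, mem_map_conj]
    refine hZ _ (hmem.1 hc) (mem_centralizer_iff.2 fun y hy => ?_)
    have h1 := mem_centralizer_iff.1 hcC (g * y * g⁻¹) (hmem.2 (by
      have e : g⁻¹ * (g * y * g⁻¹) * g = y := by group
      rw [e]; exact hy))
    have e1 : y * (g⁻¹ * c * g) = g⁻¹ * (g * y * g⁻¹ * c) * g := by group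
    rw [e1, h1]
    group
  have ti' : TI Z := ti.map g
  have hN' : normalizer (Z : Set L) ≠ ⊤ := by
    intro h0
    apply hN
    rw [eq_top_iff]
    intro x _
    have h1 : g * x * g⁻¹ ∈ normalizer (Z : Set L) := h0 ▸ mem_top _
    rw [hZdef, normalizer_map_conj] at h1
    have e : g⁻¹ * (g * x * g⁻¹) * g = x := by group
    rwa [e] at h1
  have hRZ : R ≤ Z := fun r hr => hZ' r (hRU hr) (hRC hr)
  obtain ⟨r, hr1⟩ := Subgroup.ne_bot_iff_exists_ne_one.1 hR1
  have hle : normalizer (R : Set L) ≤ normalizer (Z : Set L) := fun x hx =>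
    ti' r (hRZ r.2) (fun h0 => hr1 (Subtype.ext h0)) x (hRZ ((mem_normalizer_iff.1 hx _).1 r.2))
  have heq : normalizer (R : Set L) = normalizer (Z : Set L) := by
    rcases hle.eq_or_lt with h | h
    · exact h
    · exact absurd (hco.2 _ h) hN'
  intro x hx
  rw [heq]
  rw [mem_centralizer_singleton_iff] at hx
  refine ti' v (hZ' v hv hvC) hv1 x ?_
  have e : x * v * x⁻¹ = v := by rw [hx]; group
  rw [e]
  exact hZ' v hv hvC

/-- the same with a maximal 2-subgroup -/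
theorem T2.of_ti' [Finite L] {U₀ : Subgroup L} (h2 : IsPGroup 2 ↥U₀)
    (hmax : ∀ Q : Subgroup L, IsPGroup 2 ↥Q → U₀ ≤ Q → Q ≤ U₀) {Z₀ : Subgroup L}
    (hZ : ∀ c ∈ U₀, (∀ u ∈ U₀, u * c = c * u) → c ∈ Z₀) (ti : TI Z₀)
    (hN : normalizer (Z₀ : Set L) ≠ ⊤) : T2 L :=
  T2.of_ti ⟨U₀, h2, fun {Q} hQ hle => le_antisymm (hmax Q hQ hle) hle⟩ Z₀
    (fun c hc hcC => hZ c hc fun u hu => mem_centralizer_iff.1 hcC u hu) ti hN

/-- transport -/
theorem T2.of_equiv [Finite L] {L' : Type v} [Group L'] (e : L' ≃* L) (h : T2 L) : T2 L' := by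
  have : Fact (Nat.Prime 2) := ⟨Nat.prime_two⟩
  intro U R hRU hRC hR1 hUR hco v hv hvC hv1
  have hn : ∀ {H : Subgroup L'} {x : L'}, e x ∈ normalizer ((H.map e.toMonoidHom : Subgroup L) : Set L) ↔
      x ∈ normalizer (H : Set L') := fun {H x} => by
    rw [mem_normalizer_iff, mem_normalizer_iff]
    have hm : ∀ y : L', e y ∈ H.map e.toMonoidHom ↔ y ∈ H := fun y =>
      ⟨fun ⟨z, hz, hzy⟩ => by have := e.injective hzy; rwa [← this], fun hy => ⟨y, hy, rfl⟩⟩
    constructor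
    · intro h1 y
      have h2 := h1 (e y)
      rw [hm, ← map_mul, ← map_inv, ← map_mul, hm] at h2
      exact h2
    · intro h1 y
      obtain ⟨y, rfl⟩ := e.surjective y
      rw [hm, ← map_mul, ← map_inv, ← map_mul, hm]
      exact h1 y
  have h1 : IsPGroup 2 ↥((U : Subgroup L').map e.toMonoidHom) := U.2.map _
  let U' : Sylow 2 L := ⟨(U : Subgroup L').map e.toMonoidHom, h1, by
    intro Q hQ hle
    have h2 : IsPGroup 2 ↥(Q.comap e.toMonoidHom) := hQ.comap_of_injective _ e.injective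
    have h3 : (U : Subgroup L') ≤ Q.comap e.toMonoidHom := fun s hs => hle ⟨s, hs, rfl⟩
    have h4 := U.3 h2 h3
    rw [← h4, Subgroup.map_comap_eq_self_of_surjective e.surjective]⟩
  have hc : ∀ {x : L'}, x ∈ centralizer ((U : Subgroup L') : Set L') →
      e x ∈ centralizer ((U' : Subgroup L) : Set L) := fun {x} hx => by
    rw [mem_centralizer_iff]
    rintro _ ⟨y, hy, rfl⟩
    show e y * e x = e x * e y
    rw [← map_mul, ← map_mul, mem_centralizer_iff.1 hx y hy]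
  have hnorm : ∀ {H : Subgroup L'}, normalizer ((H.map e.toMonoidHom : Subgroup L) : Set L) =
      (normalizer (H : Set L')).map e.toMonoidHom := fun {H} => by
    ext y
    obtain ⟨y, rfl⟩ := e.surjective y
    rw [hn]
    exact ⟨fun hy => ⟨y, hy, rfl⟩, fun ⟨z, hz, hzy⟩ => by have := e.injective hzy; rwa [← this]⟩
  have key := h U' (R.map e.toMonoidHom) (Subgroup.map_mono hRU)
    (by rintro _ ⟨r, hr, rfl⟩; exact hc (hRC hr))
    (by rw [Ne, Subgroup.map_eq_bot_iff_of_injective _ e.injective]; exact hR1)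
    (by
      rw [show ((U' : Subgroup L) : Set L) = (((U : Subgroup L').map e.toMonoidHom : Subgroup L) : Set L) from rfl,
        hnorm, hnorm]
      exact Subgroup.map_mono hUR)
    (by
      rw [hnorm]
      refine ⟨?_, fun K hK => ?_⟩
      · intro h0
        apply hco.1
        rw [eq_top_iff]
        intro x _
        have h2 : e x ∈ (normalizer (R : Set L')).map e.toMonoidHom := h0 ▸ mem_top _
        obtain ⟨z, hz, hzx⟩ := h2
        have := e.injective hzx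
        rwa [← this]
      · have h2 : normalizer (R : Set L') < K.comap e.toMonoidHom := by
          refine lt_of_le_of_ne (fun x hx => hK.le ⟨x, hx, rfl⟩) ?_
          intro h3
          apply hK.ne
          rw [h3, Subgroup.map_comap_eq_self_of_surjective e.surjective]
        have h3 := hco.2 _ h2
        rw [eq_top_iff]
        intro y _
        obtain ⟨y, rfl⟩ := e.surjective y
        have h4 : y ∈ K.comap e.toMonoidHom := h3 ▸ mem_top _
        exact h4)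
    (e v) ⟨v, hv, rfl⟩ (hc hvC) (fun h0 => hv1 (by
      apply e.injective
      rw [h0, map_one]))
  intro x hx
  rw [← hn]
  refine key ?_
  rw [mem_centralizer_singleton_iff] at hx ⊢
  rw [← map_mul, ← map_mul, hx]

/-- The centre of `U` from a statement on automorphisms trivial on `U`. -/
theorem T2.of_aut [Finite L] {U₀ : Subgroup L} (h2 : IsPGroup 2 ↥U₀)
    (hmax : ∀ Q : Subgroup L, IsPGroup 2 ↥Q → U₀ ≤ Q → Q ≤ U₀) {Z₀ : Subgroup L}
    (aut : ∀ α : MulAut L, (∃ n : ℕ, α ^ 2 ^ n = 1) → (∀ u ∈ U₀, α u = u) → ∃ z ∈ Z₀, ∀ x, α x = z * x * z⁻¹)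
    (hc : Subgroup.center L = ⊥) (ti : TI Z₀) (hN : normalizer (Z₀ : Set L) ≠ ⊤) : T2 L := by
  refine T2.of_ti' h2 hmax ?_ ti hN
  intro c hcU hcC
  obtain ⟨k, hk⟩ := h2 ⟨c, hcU⟩
  have hk' : c ^ 2 ^ k = 1 := congrArg Subtype.val hk
  obtain ⟨z, hz, h1⟩ := aut (MulAut.conj c) ⟨k, by rw [← map_pow, hk', map_one]⟩ (fun u hu => by
    rw [MulAut.conj_apply, ← hcC u hu]; group)
  have h2 : z⁻¹ * c ∈ Subgroup.center L := by
    rw [Subgroup.mem_center_iff]
    intro x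
    have h3 := h1 x
    rw [MulAut.conj_apply] at h3
    have h4 : z⁻¹ * (c * x * c⁻¹) * c = x * (z⁻¹ * c) := by rw [h3]; group
    rw [← h4]; group
  rw [hc, Subgroup.mem_bot, inv_mul_eq_one] at h2
  rw [← h2]
  exact hz

/-- In a simple group `N(Z₀) = L` is impossible under the hypotheses of `T2`. -/
theorem T2.of_simple [Finite L] [IsSimpleGroup L] {U₀ : Subgroup L} (h2 : IsPGroup 2 ↥U₀)
    (hmax : ∀ Q : Subgroup L, IsPGroup 2 ↥Q → U₀ ≤ Q → Q ≤ U₀) {Z₀ : Subgroup L}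
    (hZ : ∀ c ∈ U₀, (∀ u ∈ U₀, u * c = c * u) → c ∈ Z₀) (ti : TI Z₀) (hZ1 : Z₀ ≠ ⊥) (hZU : Z₀ ≤ U₀)
    (hZc : ∀ z ∈ Z₀, ∀ u ∈ U₀, u * z = z * u) (hna : ∃ a b : L, a * b ≠ b * a) : T2 L := by
  refine T2.of_ti' h2 hmax hZ ti fun h0 => ?_
  have h1 : Z₀.Normal := normalizer_eq_top_iff.mp h0
  rcases h1.eq_bot_or_eq_top with h3 | h3
  · exact hZ1 h3
  · obtain ⟨a, b, hab⟩ := hna
    have ha : a ∈ Z₀ := h3 ▸ mem_top a
    have hb : b ∈ Z₀ := h3 ▸ mem_top b
    exact hab (hZc b hb a (hZU ha))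

end gen

end Cfsg.Agent.Omega.HOneEnd.TTwo

end

section


/-!
# LeafH1, END, THEOREM ID: the types `T2`, `Ω⁻` (helper368)

* `NL_of_mem` : `X Q u v` is a TI-subgroup with normaliser `NL Q u v`;
* `t2_OMinus` : `PΩ⁻_{2m+2}(q)`, `q` even, `m ≥ 3`.
-/

set_option autoImplicit false
set_option linter.unusedSectionVars false

namespace Cfsg.Agent.Omega.HOneEnd.TTwo

open Subgroup QuadraticMap Cfsg.Agent.LieClassical.OrthCore Cfsg.Agent.LieClassical.OrthTrans
  Cfsg.Agent.LieClassical.OrthSimple Cfsg.Agent.ClassicalGeometry.OrthAutBasic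
  Cfsg.Agent.ClassicalGeometry.OrthAutRoot Cfsg.Agent.OddHalf.Orth Cfsg.Agent.OddHalf.Orth.FlagDef
  Cfsg.Agent.LieClassical Cfsg.Agent.LieClassical.OrthForms Cfsg.Agent.TitsThree.KSideO
  Cfsg.Agent.OddHalf.Orth.KFlag Cfsg.Agent.OddHalf.Orth.KFlagMain

section

variable {F V : Type*} [Field F] [AddCommGroup V] [Module F V] {Q : QuadraticForm F V} [CharP F 2] {u v u' v' : V}

/-- the line of `c v` -/
theorem ln_smul (h : LF Q u v u' v') {c : F} (hc : c ≠ 0) : Ln Q u (c • v) where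
  qu := h.ln.qu
  qw := by rw [QuadraticMap.map_smul, h.ln.qw, smul_zero]
  perp := by rw [polar_smul_right, h.ln.perp, smul_zero]
  ne := h.ln.ne
  ind := fun d hd => h.ln.ind (c⁻¹ * d) (by rw [mul_smul, ← hd, smul_smul, inv_mul_cancel₀ hc, one_smul])

theorem L_smul {c : F} (hc : c ≠ 0) : L F u (c • v) = L F u v := by
  ext x
  rw [mem_L, mem_L]
  constructor
  · rintro ⟨s, t, rfl⟩
    exact ⟨s, t * c, by rw [mul_smul]⟩
  · rintro ⟨s, t, rfl⟩
    exact ⟨s, t * c⁻¹, by rw [smul_smul, inv_mul_cancel_right₀ hc]⟩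

/-- `X Q u v` is a TI-subgroup with normaliser in `NL Q u v`. -/
theorem NL_of_mem (hQ : Nondeg Q) (h : LF Q u v u' v') {z : ↥(E Q)} (hz : z ∈ X Q u v h.qu h.uv) (hz1 : z ≠ 1)
    {g : ↥(E Q)} (hg : g * z * g⁻¹ ∈ X Q u v h.qu h.uv) : g ∈ NL Q u v := by
  obtain ⟨c, rfl⟩ := mem_X.1 hz
  obtain ⟨c', h1⟩ := mem_X.1 hg
  have hc : c ≠ 0 := by
    rintro rfl
    exact hz1 (by rw [zero_smul, tE_zero_right])
  have hc' : c' ≠ 0 := by
    rintro rfl
    rw [zero_smul, tE_zero_right, mul_inv_eq_one, mul_eq_left] at h1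
    exact hz1 h1
  rw [tE_conj] at h1
  have e1 : D (T Q ((g : V ≃ₗ[F] V) u) ((g : V ≃ₗ[F] V) (c • v))) = D (T Q u (c' • v)) := by
    have := congrArg Subtype.val h1
    rw [coe_tE, coe_tE] at this
    rw [this]
  rw [D_T hQ ((ln_smul h hc).map (mem_O' g)), D_T hQ (ln_smul h hc'), map_smul, L_smul hc, L_smul hc'] at e1
  apply mem_NL_of h.ln
  · rw [← e1]; exact left_mem_L _ _
  · rw [← e1]; exact right_mem_L _ _

theorem NL_le (h : LF Q u v u' v') : NL Q u v ≤ normalizer (X Q u v h.qu h.uv : Set ↥(E Q)) := by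
  intro g hg
  rw [mem_normalizer_iff]
  intro y
  refine ⟨fun hy => X_conj h hg hy, fun hy => ?_⟩
  have h1 := X_conj h (inv_mem hg) hy
  have e : g⁻¹ * (g * y * g⁻¹) * g⁻¹⁻¹ = y := by group
  rwa [e] at h1

theorem X_TI (hQ : Nondeg Q) (h : LF Q u v u' v') : TI (X Q u v h.qu h.uv) :=
  fun _ hz hz1 _ hg => NL_le h (NL_of_mem hQ h hz hz1 hg)

theorem normalizer_X_ne_top (hQ : Nondeg Q) (h : LF Q u v u' v') :
    normalizer (X Q u v h.qu h.uv : Set ↥(E Q)) ≠ ⊤ := by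
  intro h0
  have hz : tE Q u ((1 : F) • v) ∈ X Q u v h.qu h.uv := mem_X.2 ⟨1, rfl⟩
  have hz1 : tE Q u ((1 : F) • v) ≠ 1 := fun h1 => one_ne_zero ((tE_smul_eq_one_iff h hQ).1 h1)
  have hg : tE Q u' v' ∈ normalizer (X Q u v h.qu h.uv : Set ↥(E Q)) := h0 ▸ mem_top _
  have h1 := NL_of_mem hQ h hz hz1 ((mem_normalizer_iff.1 hg _).1 hz)
  have h2 := (mem_NL.1 h1 u).2 (left_mem_L _ _)
  rw [coe_tE, T_apply2 h.h1.right h.u'v', h.h1.pair', one_smul, polar_zero_of_comm h.uv'] at h2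
  have h3 := perp_L (F := F) h.uv (by rw [polar_self2]) h2
  rw [polar_add_left, polar_add_left, h.uv, h.h2.pair'] at h3
  simp [h.u'v, polar_smul_left] at h3

end

section fin

variable {F : Type*} [Field F] [Finite F] [CharP F 2]

theorem t2_EMinus {m : ℕ} (hm : 3 ≤ m) (a b : F)
    (hab : ∀ z₁ z₂ : F, z₁ ^ 2 + a * z₁ * z₂ + b * z₂ ^ 2 = 0 → z₁ = 0 ∧ z₂ = 0) :
    T2 ↥(E (minusForm m F a b)) := by
  have hfl := (flag_minus hm a b hab).1
  have h : LF (minusForm m F a b) (em m a b hab 0) (em m a b hab 1) (fm m a b hab 0) (fm m a b hab 1) :=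
    { h1 := hfl.hyp 0 (by omega)
      h2 := hfl.hyp 1 (by omega)
      uv := hfl.ee 0 1 (by omega) (by omega) (by omega)
      uv' := hfl.ef 0 1 (by omega) (by omega) (by omega)
      u'v := polar_zero_of_comm (hfl.ef 1 0 (by omega) (by omega) (by omega))
      u'v' := hfl.ff 0 1 (by omega) (by omega) (by omega) }
  have hfin : Finite ((((Fin m ⊕ Fin m) ⊕ Fin 2) → F) ≃ₗ[F] (((Fin m ⊕ Fin m) ⊕ Fin 2) → F)) :=
    Finite.of_injective (fun g : ((((Fin m ⊕ Fin m) ⊕ Fin 2) → F) ≃ₗ[F] (((Fin m ⊕ Fin m) ⊕ Fin 2) → F)) =>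
      (g : (((Fin m ⊕ Fin m) ⊕ Fin 2) → F) → (((Fin m ⊕ Fin m) ⊕ Fin 2) → F))) DFunLike.coe_injective
  have k := Cfsg.Agent.OddHalf.Orth.KFr.kf_minus hm a b hab h.qu h.uv
  have hQ : Nondeg (minusForm m F a b) := nondeg_minusForm m F a b hab
  refine T2.of_aut k.pU k.maxU k.aut ?_ (X_TI hQ h) (normalizer_X_ne_top hQ h)
  rw [Subgroup.eq_bot_iff_forall]
  exact fun g hg => SitOf.center_E (SitOf.good_minus (by omega) hab) hg

/-- **`PΩ⁻`.** -/
theorem t2_OMinus {m : ℕ} (hm : 3 ≤ m) (a b : F)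
    (hab : ∀ z₁ z₂ : F, z₁ ^ 2 + a * z₁ * z₂ + b * z₂ ^ 2 = 0 → z₁ = 0 ∧ z₂ = 0) :
    T2 (Cfsg.POmega F (Cfsg.quadFormMinus m F a b)) := by
  have hfin : Finite ((((Fin m ⊕ Fin m) ⊕ Fin 2) → F) ≃ₗ[F] (((Fin m ⊕ Fin m) ⊕ Fin 2) → F)) :=
    Finite.of_injective (fun g : ((((Fin m ⊕ Fin m) ⊕ Fin 2) → F) ≃ₗ[F] (((Fin m ⊕ Fin m) ⊕ Fin 2) → F)) =>
      (g : (((Fin m ⊕ Fin m) ⊕ Fin 2) → F) → (((Fin m ⊕ Fin m) ⊕ Fin 2) → F))) DFunLike.coe_injective
  have e : ↥(E (minusForm m F a b)) ≃* Cfsg.POmega F (Cfsg.quadFormMinus m F a b) := by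
    rw [← coe_minusForm]
    exact SitOf.equivE (SitOf.good_minus (by omega) hab)
  exact T2.of_equiv e.symm (t2_EMinus hm a b hab)

end fin

end Cfsg.Agent.Omega.HOneEnd.TTwo

end

end

-- merged: Cfsg.Agent.Mrg.Omega.HOneEnd.TTwoRgd
section

section


/-!
# LeafH1, END, THEOREM ID: the types `T2`, simply laced groups (helper368)

* `t2_of_LR` : root group datum with `Z(U) ≤ X r`, `LR r`;
* `t2_of_isSLC` : simply laced groups;
* `t2_PSL`, `t2_OPlus`, `t2_E6`, `t2_E7`, `t2_E8`.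
-/

set_option autoImplicit false
set_option linter.unusedSectionVars false

namespace Cfsg.Agent.Omega.HOneEnd.TTwo

open Subgroup CoxeterSystem Cfsg.Agent.ChevalleyStructure.CoxeterGeom Cfsg.Agent.Tits.Roots Cfsg.Agent.Tits.Core
  Cfsg.Agent.Nodes.Reps Cfsg.Agent.Nodes.BNOf Cfsg.Agent.Nodes.RGDLib Cfsg.Agent.Nodes.Bruhat
  Cfsg.Agent.Nodes.NormalForm Cfsg.Agent.KFacts.SLRow.Def Cfsg.Agent.KFacts.RgdSL
  Cfsg.Agent.KFacts.ChevTwo Cfsg.Agent.KFacts.SLRow.Row Cfsg.Agent.KFacts.SLRow.Diag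
  Cfsg.Agent.KFacts.SysFree Cfsg.Agent.KFacts.RgdTI Cfsg.Agent.KFacts.RgdCent Cfsg.Agent.KFacts.RgdKap
  Cfsg.Agent.KFacts.RgdOpp Cfsg.Agent.KFacts.RgdAut
open Cfsg.Lie

universe u

section

variable {I W : Type*} {Y : Type u} [Fintype I] [DecidableEq I] [Group W] [Group Y] {M : CoxeterMatrix I}
  {cs : CoxeterSystem M W} {A : I → I → ℤ} {h : IsCartan M A} {T : Subgroup Y} {n : I → Y}
  {X : (I → ℤ) → Subgroup Y}

theorem normalizer_ne_top {p : ℕ} [Finite W] {R : RGD cs h p T n X} {r : I → ℤ} (L : LR R r) :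
    normalizer (X r : Set Y) ≠ ⊤ := by
  intro h0
  obtain ⟨w, i, hw⟩ := L.root
  obtain ⟨k, hk⟩ := exists_rp cs R.nsys (w * cs.simple i * w⁻¹)
  have h1 : k ∈ normalizer (X r : Set Y) := h0 ▸ mem_top k
  rw [L.mem_normalizer_iff hk] at h1
  have h2 : rep cs h (w * cs.simple i * w⁻¹) r = -r := by
    rw [hw, map_mul, map_mul, Module.End.mul_apply, Module.End.mul_apply, rep_inv_apply, rep_simple_sr, map_neg]
  rw [h2] at h1
  exact L.root.ne_zero (self_eq_neg.1 h1.symm)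

/-- `Z(U) ≤ X r`. -/
theorem t2_of_LR [Finite W] [Finite Y] (R : RGD cs h 2 T n X) (hG : GG cs h T X = ⊤) {r : I → ℤ} (L : LR R r)
    (hZ : ∀ c ∈ RGD.Sup X (RGD.Pos cs h), (∀ u ∈ RGD.Sup X (RGD.Pos cs h), u * c = c * u) → c ∈ X r) : T2 Y := by
  have : Fact (Nat.Prime 2) := ⟨Nat.prime_two⟩
  refine T2.of_ti' (U₀ := RGD.Sup X (RGD.Pos cs h)) R.isPGroup_Upos ?_ (Z₀ := X r) hZ ?_ (normalizer_ne_top L)
  · intro Q hQ hle
    exact (eq_U_of_isPGroup R hQ hle (by rw [hG]; exact le_top)).le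
  · intro z hz hz1 g hg
    exact L.ti_self (by rw [hG]; trivial) hz hz1 hg

end

/-- **Simply laced groups.** -/
theorem t2_of_isSLC {q l : ℕ} {M : CoxeterMatrix (Fin l)} {L : Type u} [Group L] [Finite L] (hK : IsSLC q M L) :
    T2 L := by
  obtain ⟨A, h, T, n, X, F, _, _, _, e, hW, rfl, hM, D, S⟩ := hK
  have hne : Nonempty (Fin l) := Fintype.card_pos_iff.1 (by have := D.three; omega)
  obtain ⟨r, hr⟩ := exists_star (cs := M.toCoxeterSystem) (h := h)
  have hs : SL M.toCoxeterSystem h := fun _ _ hx hy => Nodes.SimplyLaced.cpr_symm M.toCoxeterSystem h D.h4 D.h6 hx hy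
  have hO : ∀ r, IsRoot M.toCoxeterSystem h r → Cfsg.Agent.KFacts.RgdOdd.Orth M.toCoxeterSystem h r := fun r hr =>
    orth_of D.h4 D.h6 D.irr hr
  have hG : GG M.toCoxeterSystem h T X = ⊤ :=
    Cfsg.Agent.KFacts.RgdRigid.GG_eq_top D.gen
  refine t2_of_LR D.rgd hG (S.lr hr.1) ?_
  intro c _ hc
  have h1 := center_le S D.gen D.cent (fun J hJ hJ' => D.irr J hJ (Set.nonempty_compl.2 hJ')) hc
  refine (RGD.Sup_le fun z hz => ?_ : RGD.Sup X (Star M.toCoxeterSystem h (RGD.Pos M.toCoxeterSystem h)) ≤ X r) h1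
  rw [Cfsg.Agent.KFacts.RgdAutFacts.dom_unique hs hO hz hr]

section fam

variable {F : Type} [Field F] [Finite F] [CharP F 2]

theorem t2_PSL {n : ℕ} (hn : 4 ≤ n) : T2 (Matrix.ProjectiveSpecialLinearGroup (Fin n) F) := by
  obtain ⟨m, rfl⟩ : ∃ m, n = m + 1 := ⟨n - 1, by omega⟩
  have : Finite (Matrix.ProjectiveSpecialLinearGroup (Fin (m + 1)) F) := Quotient.finite _
  exact t2_of_isSLC (isSLC_PSL (by omega) F)

theorem t2_OPlus {n : ℕ} (hn : 4 ≤ n) : T2 (POmega F (quadFormPlus n F)) := by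
  obtain ⟨m, rfl⟩ : ∃ m, n = m + 2 := ⟨n - 2, by omega⟩
  have : Finite (POmega F (quadFormPlus (m + 2) F)) := Quotient.finite _
  exact t2_of_isSLC (isSLC_OPlus (by omega) F)

theorem t2_E6 : T2 ↥(chevE6.group F) := t2_of_isSLC (isSLC_E6 F)

theorem t2_E7 : T2 ↥(chevE7.group F) := t2_of_isSLC (isSLC_E7 F)

theorem t2_E8 : T2 ↥(chevE8.group F) := t2_of_isSLC (isSLC_E8 F)

end fam

end Cfsg.Agent.Omega.HOneEnd.TTwo

end

section


/-!
# LeafH1, END, THEOREM ID: the types `T2`, unitary groups (helper368)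

* `RR_TI` : the transvection groups of `PSU` are TI-subgroups;
* `normalizer_RR_ne_top`;
* `t2_PSU` : `PSU n F q`, `q` even, `n ≥ 6`.
-/

set_option autoImplicit false
set_option linter.unusedSectionVars false

namespace Cfsg.Agent.Omega.HOneEnd.TTwo

open Subgroup Cfsg Cfsg.Agent.LieClassical.HermBasic Cfsg.Agent.LieClassical.HermSiegel
  Cfsg.Agent.LieClassical.HermGen Cfsg.Agent.LieClassical.SUBasic Matrix
  Cfsg.Agent.ClassicalGeometry.PSUAutBasic Cfsg.Agent.ClassicalGeometry.PSUAutSylow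
  Cfsg.Agent.ClassicalGeometry.PSUAutUnip Cfsg.Agent.ClassicalGeometry.PSUAutPhi Cfsg.Agent.KFacts.Unit

variable {F : Type*} [Field F] [Fintype F] {q n : ℕ}

theorem RR_TI (hF : Fintype.card F = q ^ 2) (hn : 3 ≤ n) {u : Fin n → F} (hu0 : u ≠ 0)
    (hu : hermForm n F q u u = 0) : TI (RR hF u hu) := by
  intro x hx hx1 g hg
  obtain ⟨μ, hμ, rfl⟩ := mem_RR.1 hx
  obtain ⟨γ, rfl⟩ := pr_surjective (n := n) (F := F) (q := q) g
  obtain ⟨μ', hμ', h1⟩ := mem_RR.1 hg
  have hμ0 : μ ≠ 0 := by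
    rintro rfl
    apply hx1
    rw [transv_zero, map_one]
  rw [← map_inv, ← map_mul, ← map_mul, transv, conj_siegel] at h1
  have hgu : hermForm n F q (act γ u) (act γ u) = 0 := by rw [herm_act]; exact hu
  have hgu0 : act γ u ≠ 0 := fun h0 => hu0 ((act_eq_zero γ).1 h0)
  have h2 : siegel hF (act γ u) (act γ 0) μ _ = transv hF u hu μ' hμ' := siegel_pr_inj hF hn _ _ h1
  obtain ⟨f, -, -, hfu⟩ := exists_partner hF hgu0 hgu
  have h4 := congrArg (fun g => act g f) h2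
  change act (siegel hF (act γ u) (act γ 0) μ _) f = act (transv hF u hu μ' hμ') f at h4
  rw [act_siegel, act_transv, hfu, act_zero, herm_zero_right hF, smul_zero, add_zero, sub_zero, mul_one,
    add_right_inj] at h4
  have h5 : act γ u = (μ⁻¹ * (μ' * hermForm n F q f u)) • u := by
    rw [mul_smul, ← h4, smul_smul, inv_mul_cancel₀ hμ0, one_smul]
  have hc : μ⁻¹ * (μ' * hermForm n F q f u) ≠ 0 := by
    intro h0
    rw [h0, zero_smul] at h5
    exact hgu0 h5
  have h6 : RR hF (act γ u) hgu = RR hF u hu :=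
    ((RR_eq_iff hF hn hu0 hgu0 hu hgu).2 ⟨_, hc, h5⟩).symm
  rw [mem_normalizer_iff]
  intro y
  have h7 := RR_conj hF hu γ hgu (pr n F q γ * y * (pr n F q γ)⁻¹)
  rw [h6] at h7
  have e : (pr n F q γ)⁻¹ * (pr n F q γ * y * (pr n F q γ)⁻¹) * pr n F q γ = y := by group
  rw [e] at h7
  exact h7.symm

theorem normalizer_RR_ne_top (hF : Fintype.card F = q ^ 2) (hn : 3 ≤ n) {u : Fin n → F} (hu0 : u ≠ 0)
    (hu : hermForm n F q u u = 0) : normalizer (RR hF u hu : Set (PSU n F q)) ≠ ⊤ := by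
  intro h0
  obtain ⟨μ, hμ0, hμ⟩ := exists_trace_zero_ne hF
  obtain ⟨f, hff, huf, hfu⟩ := exists_partner hF hu0 hu
  set γ := transv hF f hff μ hμ with hγ
  have hgu : hermForm n F q (act γ u) (act γ u) = 0 := by rw [herm_act]; exact hu
  have hgu0 : act γ u ≠ 0 := fun h0 => hu0 ((act_eq_zero γ).1 h0)
  have h1 : RR hF u hu = RR hF (act γ u) hgu := by
    ext x
    rw [RR_conj hF hu γ hgu x]
    have h2 : (pr n F q γ)⁻¹ ∈ normalizer (RR hF u hu : Set (PSU n F q)) := h0 ▸ mem_top _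
    have h3 := (mem_normalizer_iff.1 h2) x
    rwa [inv_inv] at h3
  obtain ⟨c, hc, h2⟩ := (RR_eq_iff hF hn hu0 hgu0 hu hgu).1 h1
  rw [hγ, act_transv, huf, mul_one] at h2
  have h3 := congrArg (fun v => hermForm n F q v u) h2
  change hermForm n F q (u + μ • f) u = hermForm n F q (c • u) u at h3
  rw [herm_add_left, herm_smul_left, herm_smul_left, hu, hfu, mul_zero, zero_add, mul_one] at h3
  exact hμ0 h3

/-- **Unitary groups.** -/
theorem t2_PSU [CharP F 2] (hF : Fintype.card F = q ^ 2) (hn : 6 ≤ n) : T2 (PSU n F q) := by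
  have : Fact (Nat.Prime 2) := ⟨Nat.prime_two⟩
  obtain ⟨U⟩ : Nonempty (Sylow 2 (PSU n F q)) := inferInstance
  obtain ⟨u, hu0, hu, hQU, hUP, -⟩ := Cfsg.Agent.KFacts.Unit.KF.exists_kf hF hn U
  refine T2.of_ti U (RR hF u hu) ?_ (RR_TI hF (by omega) hu0 hu) (normalizer_RR_ne_top hF (by omega) hu0 hu)
  intro c hcU hcC
  obtain ⟨g, hg, rfl⟩ := mem_PP.1 (hUP hcU)
  refine ⟨g, mem_transvG_of_commute hF hu0 hu hg ?_, rfl⟩
  rintro _ ⟨w, μ, hs, rfl⟩
  have h1 := mem_centralizer_iff.1 hcC _ (hQU (mem_QQ.2 ⟨w, μ, hs, rfl⟩))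
  have h2 : pr n F q (g * siegel hF u w μ hs * g⁻¹) = pr n F q (siegel hF u w μ hs) := by
    rw [map_mul, map_mul, map_inv, ← h1, mul_inv_cancel_right]
  rw [conj_siegel] at h2 ⊢
  exact siegel_pr_inj hF (by omega) _ _ h2

end Cfsg.Agent.Omega.HOneEnd.TTwo

end

end

-- merged: Cfsg.Agent.Mrg.Omega.HOneEnd.TTwoE
section

section


/-!
# LeafH1, END, THEOREM ID: the types `T2`, `²E₆(q)` (helper368)
-/

set_option autoImplicit false
set_option linter.unusedSectionVars false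

namespace Cfsg.Agent.Omega.HOneEnd.TTwo

open Subgroup CoxeterSystem Cfsg.Agent.ChevalleyStructure.CoxeterGeom Cfsg.Agent.Tits.Roots Cfsg.Agent.Tits.Core
  Cfsg.Agent.Tits.RootComb Cfsg.Agent.Tits.Exchange Cfsg.Agent.Nodes.Reps Cfsg.Agent.Nodes.BNOf
  Cfsg.Agent.Nodes.Coroot Cfsg.Agent.Nodes.StabComb
  Cfsg.Agent.Nodes.LeviDec Cfsg.Agent.Nodes.Bruhat Cfsg.Agent.Nodes.OppDec
  Cfsg.Agent.KFacts.RgdPar Cfsg.Agent.KFacts.RgdCent
  Cfsg.Agent.KFacts.RgdSL Cfsg.Agent.KFacts.RgdTI Cfsg.Agent.KFacts.RgdOdd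
  Cfsg.Agent.Nodes.RGDTwE6 Cfsg.Agent.KFacts.TwESix.Comb Cfsg.Agent.KFacts.TwESix.CombRho
  Cfsg.Agent.KFacts.TwESix.Facts
open Cfsg.Lie

theorem center_eq_bot' {X : Type*} [Group X] (h1 : IsSimpleGroup X) (h2 : ¬ IsMulCommutative X) :
    Subgroup.center X = ⊥ := by
  rcases (inferInstance : (Subgroup.center X).Normal).eq_bot_or_eq_top with h | h
  · exact h
  · exfalso
    apply h2
    refine ⟨⟨fun a b => ?_⟩⟩
    have : a ∈ Subgroup.center X := by rw [h]; exact Subgroup.mem_top a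
    exact (Subgroup.mem_center_iff.1 this b).symm

/-- **`²E₆(q)`.** -/
theorem t2_2E6 {E : Type} [Field E] [Fintype E] [CharP E 2] {q : ℕ} (hq : IsPrimePow q)
    (hF : Fintype.card E = q ^ 2) : T2 ↥(twistedE6 E q) := by
  obtain ⟨φ, hφ, hqq⟩ := Cfsg.Agent.ChevalleyStructure.TwE6Basic.exists_frob hq hF
  let cs := CoxeterMatrix.F₄.toCoxeterSystem
  have : Finite CoxeterMatrix.F₄.Group := finiteW cs
  obtain ⟨h1, h2⟩ := Cfsg.Agent.S1070.result (K := E) hq hF
  have hNC : NoCent cs isCartan (Cfsg.Agent.Nodes.RGDTwE6.T E q) (X φ q) :=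
    noCent_of_center (rgd cs hφ hqq 2) (G1_eq_top cs hφ hqq) (center_eq_bot' h1 h2)
  have hD : Dat (rgd cs hφ hqq 2) := Cfsg.Agent.KFacts.TwESix.Dat.dat cs hφ hqq hF hq.one_lt
  have hG : GG cs isCartan (Cfsg.Agent.Nodes.RGDTwE6.T E q) (X φ q) = ⊤ :=
    Cfsg.Agent.KFacts.RgdRigid.GG_eq_top (G1_eq_top cs hφ hqq)
  refine t2_of_LR (rgd cs hφ hqq 2) hG (hD.lr rho (rho_root cs) rho_long) ?_
  intro c _ hc
  refine Cfsg.Agent.KFacts.TwESix.Cent.k1 hD (rho_root cs) rho_long hNC (by rw [hG]; trivial) fun a ha ha0 v hv => ?_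
  rw [cpr_rho] at ha0
  refine (hc v ?_).symm
  refine RGD.le_Sup (X := X φ q) (S := RGD.Pos cs isCartan) ⟨ha, ?_⟩ hv
  rcases ha.pos_or_neg with h3 | h3
  · exact h3
  · exact absurd (h3 0) (not_le.2 ha0)

end Cfsg.Agent.Omega.HOneEnd.TTwo

end

section


/-!
# LeafH1, END, THEOREM ID: the types `T2`, all families of rank at least three (helper368)

**`t2_of_fam`** : `Fam 2 L → T2 L ∨ L ≅ PSp_2m(q) ∨ L ≅ F₄(q)`.
-/

set_option autoImplicit false

namespace Cfsg.Agent.Omega.HOneEnd.TTwo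

open Cfsg

universe u

/-- **The types `T2` of rank at least three.** -/
theorem t2_of_fam {L : Type u} [Group L] [Finite L] (h : Fam 2 L) :
    T2 L ∨
    (∃ (F : Type) (_ : Field F) (_ : Fintype F) (_ : CharP F 2) (m : ℕ), 3 ≤ m ∧ Nonempty (L ≃* PSp m F)) ∨
    (∃ (F : Type) (_ : Field F) (_ : Fintype F) (_ : CharP F 2), Nonempty (L ≃* Lie.chevF4.group F)) := by
  rcases h with h | h | h | h | h | h | h | h | h | h | h
  · obtain ⟨F, i1, i2, i3, n, h1, ⟨f⟩⟩ := h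
    have := Finite.of_equiv _ f.toEquiv
    exact Or.inl (T2.of_equiv f (t2_PSL h1))
  · exact Or.inr (Or.inl h)
  · obtain ⟨F, i1, i2, i3, n, q, h1, h2, ⟨f⟩⟩ := h
    exact Or.inl (T2.of_equiv f (t2_PSU h1 h2))
  · obtain ⟨F, i1, i2, i3, n, h1, h2, ⟨f⟩⟩ := h
    exact absurd CharTwo.two_eq_zero h2
  · obtain ⟨F, i1, i2, i3, n, h1, ⟨f⟩⟩ := h
    have := Finite.of_equiv _ f.toEquiv
    exact Or.inl (T2.of_equiv f (t2_OPlus h1))
  · obtain ⟨F, i1, i2, i3, n, a, b, h1, h2, ⟨f⟩⟩ := h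
    have := Finite.of_equiv _ f.toEquiv
    exact Or.inl (T2.of_equiv f (t2_OMinus h1 a b h2))
  · exact Or.inr (Or.inr h)
  · obtain ⟨F, i1, i2, i3, ⟨f⟩⟩ := h
    have := Finite.of_equiv _ f.toEquiv
    exact Or.inl (T2.of_equiv f t2_E6)
  · obtain ⟨F, i1, i2, i3, ⟨f⟩⟩ := h
    have := Finite.of_equiv _ f.toEquiv
    exact Or.inl (T2.of_equiv f t2_E7)
  · obtain ⟨F, i1, i2, i3, ⟨f⟩⟩ := h
    have := Finite.of_equiv _ f.toEquiv
    exact Or.inl (T2.of_equiv f t2_E8)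
  · obtain ⟨F, i1, i2, i3, q, h1, h2, ⟨f⟩⟩ := h
    have := Finite.of_equiv _ f.toEquiv
    exact Or.inl (T2.of_equiv f (t2_2E6 h1 h2))

end Cfsg.Agent.Omega.HOneEnd.TTwo

end

section


/-!
# LeafH1, END: `SysID.Two` for type `C_m`, `m ≥ 3` (helper368)

`two_C` : the dominant roots are `ρ = ε₀ + ε₁` (short, moved by the node 1) and `σ = 2 ε₀` (long, moved by the node 0).
-/

set_option autoImplicit false
set_option linter.unusedSectionVars false

namespace Cfsg.Agent.Omega.HOneEnd.TwoInst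

open CoxeterSystem Cfsg.Agent.ChevalleyStructure.CoxeterGeom Cfsg.Agent.Tits.Roots Cfsg.Agent.Tits.Core
  Cfsg.Agent.Nodes.BNOf Cfsg.Agent.Nodes.Coroot Cfsg.Agent.KFacts.RgdCent Cfsg.Agent.KFacts.SysFree
  Cfsg.Agent.Nodes.KindBC Cfsg.Agent.Nodes.TypeC Cfsg.Agent.KFacts.SysBFSp
  Cfsg.Agent.Omega.HOneEnd.SysID

variable {m : ℕ} {W : Type*} [Group W] [Finite W] {cs : CoxeterSystem (CoxeterMatrix.B m) W}

/-- the short dominant root -/
def rhoC (hm : 3 ≤ m) : Fin m → ℤ := rt (⟨0, by omega⟩, true) (⟨1, by omega⟩, true)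

/-- the long dominant root -/
def sigC (hm : 3 ≤ m) : Fin m → ℤ := rt (⟨0, by omega⟩, true) (⟨0, by omega⟩, true)

theorem cf_nonneg {x : Fin m → ℤ} (hx : x ∈ Star cs (isCartan m) (RGD.Pos cs (isCartan m))) (i : Fin m) :
    0 ≤ Cf i (ee x) := by
  rw [Cf_ee, ← cpr_sr cs]
  exact hx.2 _ ⟨isRoot_sr cs _ i, sr_nonneg i⟩

/-- the coordinates of a dominant root decrease -/
theorem ee_le {x : Fin m → ℤ} (hx : x ∈ Star cs (isCartan m) (RGD.Pos cs (isCartan m))) :
    ∀ (d : ℕ) (k l : Fin m), (l : ℕ) = k + d → ee x l ≤ ee x k := by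
  intro d
  induction d with
  | zero => intro k l h; rw [Fin.ext h]
  | succ d ih =>
    intro k l h
    have hk : (k : ℕ) + d < m := by have := l.2; omega
    have h1 := ih k ⟨k + d, hk⟩ rfl
    have h2 := cf_nonneg hx ⟨k + d, hk⟩
    have h3 : (k : ℕ) + d + 1 < m := by have := l.2; omega
    unfold Cf at h2
    rw [dif_pos h3] at h2
    have e : (⟨(⟨k + d, hk⟩ : Fin m) + 1, h3⟩ : Fin m) = l := Fin.ext (by simp only; omega)
    rw [e] at h2
    linarith

theorem ee_nonneg {x : Fin m → ℤ} (hx : x ∈ Star cs (isCartan m) (RGD.Pos cs (isCartan m))) (k : Fin m) :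
    0 ≤ ee x k := by
  have hk := k.2
  have h1 := ee_le hx (m - 1 - k) k ⟨m - 1, by omega⟩ (by simp only; omega)
  have h2 := cf_nonneg hx ⟨m - 1, by omega⟩
  unfold Cf at h2
  rw [dif_neg (by simp only; omega)] at h2
  linarith

theorem dom_C (hm : 3 ≤ m) : Star cs (isCartan m) (RGD.Pos cs (isCartan m)) ⊆ {rhoC hm, sigC hm} := by
  intro x hx
  obtain ⟨a, b, hab, e⟩ := exists_rt hx.1
  have hee : ∀ k, ee x k = (if k = a.1 then (if a.2 then 1 else -1) else 0) +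
      (if k = b.1 then (if b.2 then 1 else -1) else 0) := fun k => by
    rw [e, ee_rt, Pi.add_apply, wt_apply, wt_apply]
  have h0 : ∀ k : Fin m, ee x k ≤ ee x ⟨0, by omega⟩ := fun k => ee_le hx k ⟨0, by omega⟩ k (by simp)
  obtain ⟨i, s⟩ := a
  obtain ⟨j, t⟩ := b
  have hs : s = true := by
    have h1 := ee_nonneg hx i
    rw [hee i] at h1
    simp only [if_true] at h1
    rcases hab with hab | hab
    · have hne : i ≠ j := hab
      rw [if_neg hne] at h1
      by_contra hs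
      rw [if_neg hs] at h1
      norm_num at h1
    · obtain ⟨rfl, rfl⟩ := Prod.mk.inj hab
      rw [if_pos rfl] at h1
      by_contra hs
      rw [if_neg hs] at h1
      norm_num at h1
  have ht : t = true := by
    have h1 := ee_nonneg hx j
    rw [hee j] at h1
    simp only [if_true] at h1
    rcases hab with hab | hab
    · have hne : j ≠ i := fun h => hab h.symm
      rw [if_neg hne] at h1
      by_contra ht
      rw [if_neg ht] at h1
      norm_num at h1
    · obtain ⟨rfl, rfl⟩ := Prod.mk.inj hab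
      exact hs
  subst hs ht
  simp only [if_true] at hee
  have hz : (⟨0, by omega⟩ : Fin m) = i ∨ (⟨0, by omega⟩ : Fin m) = j := by
    by_contra hcon
    push Not at hcon
    have h1 := h0 i
    rw [hee i, hee ⟨0, by omega⟩, if_pos rfl, if_neg hcon.1, if_neg hcon.2] at h1
    have h2 : (0 : ℤ) ≤ if i = j then 1 else 0 := by split_ifs <;> norm_num
    linarith
  -- WLOG `i = 0`
  have key : ∀ j : Fin m, x = rt (⟨0, by omega⟩, true) (j, true) →
      (∀ k, ee x k = (if k = ⟨0, by omega⟩ then 1 else 0) + (if k = j then 1 else 0)) →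
      x = rhoC hm ∨ x = sigC hm := by
    intro j hxj hj
    by_cases hj0 : (j : ℕ) = 0
    · right
      rw [hxj, show j = ⟨0, by omega⟩ from Fin.ext hj0]
      rfl
    · left
      have h1 := ee_le hx ((j : ℕ) - 1) ⟨1, by omega⟩ j (by simp only; omega)
      rw [hj j, hj ⟨1, by omega⟩, if_pos rfl, if_neg (fun h => hj0 (by rw [h])),
        if_neg (fun h => by have := congrArg Fin.val h; simp at this)] at h1
      have hj1 : (⟨1, by omega⟩ : Fin m) = j := by
        by_contra hne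
        rw [if_neg hne] at h1
        norm_num at h1
      rw [hxj, ← hj1]
      rfl
  rcases hz with hz | hz
  · subst hz
    exact key j e hee
  · subst hz
    refine key i (by rw [e, rt_comm]) fun k => ?_
    rw [hee k, add_comm]

theorem pairing_rho (hm : 3 ≤ m) (k : Fin m) (hk : k ≠ ⟨1, by omega⟩) : pairing (A m) k (rhoC hm) = 0 := by
  rw [← Cf_ee, rhoC, ee_rt]
  unfold Cf
  have hk1 : (k : ℕ) ≠ 1 := fun h => hk (Fin.ext h)
  split_ifs with h
  · simp only [Pi.add_apply, wt_apply, Fin.ext_iff]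
    by_cases hk0 : (k : ℕ) = 0
    · simp [hk0]
    · have : (k : ℕ) + 1 ≠ 1 := by omega
      simp [hk0, hk1]
  · simp only [Pi.add_apply, wt_apply, Fin.ext_iff]
    have hk0 : (k : ℕ) ≠ 0 := by omega
    simp [hk0, hk1]

theorem pairing_sig (hm : 3 ≤ m) (k : Fin m) (hk : k ≠ ⟨0, by omega⟩) : pairing (A m) k (sigC hm) = 0 := by
  rw [← Cf_ee, sigC, ee_rt]
  unfold Cf
  have hk0 : (k : ℕ) ≠ 0 := fun h => hk (Fin.ext h)
  split_ifs with h <;> simp [Pi.add_apply, wt_apply, Fin.ext_iff, hk0]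

theorem rho_ne_sr (hm : 3 ≤ m) : rhoC hm ≠ sr ⟨1, by omega⟩ := by
  intro h
  have h1 := congrFun (congrArg ee h) ⟨0, by omega⟩
  rw [ee_sr, rhoC, ee_rt, bt_apply] at h1
  simp [Pi.add_apply, wt_apply, Fin.ext_iff] at h1

theorem sig_ne_sr (hm : 3 ≤ m) : sigC hm ≠ sr ⟨0, by omega⟩ := by
  intro h
  have h1 := congrFun (congrArg ee h) ⟨0, by omega⟩
  rw [ee_sr, sigC, ee_rt, bt_apply] at h1
  have h3 : (0 : ℕ) + 1 < m := by omega
  simp [Pi.add_apply, wt_apply, h3] at h1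

/-- **Type `C_m`.** -/
theorem two_C (hm : 3 ≤ m) : Two cs (isCartan m) (rhoC hm) (sigC hm) ⟨1, by omega⟩ ⟨0, by omega⟩ :=
  two_mk (star_short hm cs) (star_long hm cs) (dom_C hm) (star_ne hm).symm
    (fun h => by have := congrArg Fin.val h; simp at this) (pairing_rho hm) (pairing_sig hm) (rho_ne_sr hm)
    (sig_ne_sr hm)

end Cfsg.Agent.Omega.HOneEnd.TwoInst

end

end

-- merged: Cfsg.Agent.Mrg.Omega.HOneEnd.TwoFF
section

/-!
# LeafH1, END: `SysID.Two` for type `F₄` (helper368)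

`two_F` : the dominant roots are `v 47` (moved by the node 3) and `v 44` (moved by the node 0).
-/

set_option autoImplicit false
set_option linter.unusedSectionVars false
set_option Elab.async false

namespace Cfsg.Agent.Omega.HOneEnd.TwoInst

open CoxeterSystem Cfsg.Agent.ChevalleyStructure.CoxeterGeom Cfsg.Agent.Tits.Roots Cfsg.Agent.Tits.Core
open Cfsg.Lie Cfsg.Agent.ChevalleyStructure Cfsg.Agent.ChevalleyStructure.Elts
  Cfsg.Agent.ChevalleyStructure.RootVec Cfsg.Agent.ChevalleyStructure.CoxeterGeomTypes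
open Cfsg.Agent.Nodes Cfsg.Agent.Nodes.KindF Cfsg.Agent.Nodes.Reps Cfsg.Agent.Nodes.BNOf Cfsg.Agent.Nodes.RGDChev Cfsg.Agent.Nodes.Coroot
  Cfsg.Agent.KFacts.ChevTwo Cfsg.Agent.KFacts.ChevTwoTab
  Cfsg.Agent.KFacts.ChevTwoInst Cfsg.Agent.KFacts.RgdCent Cfsg.Agent.KFacts.SysFree
  Cfsg.Agent.KFacts.F4Star Cfsg.Agent.KFacts.F4Cent Cfsg.Agent.KFacts.F4Pair Cfsg.Agent.KFacts.F4Perf
  Cfsg.Agent.Omega.HOneEnd.SysID

variable {W : Type*} [Group W] [Finite W] {cs : CoxeterSystem CoxeterMatrix.F₄ W}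

theorem starChk : ([47, 44].all fun a => (List.range 48).all fun c =>
    decide (c < 24) || (nn c).testBit a) = true := by decide +kernel

theorem domChk : ((List.range 48).all fun a => decide (a = 47 ∨ a = 44) ||
    !((List.range 48).all fun c => decide (c < 24) || (nn c).testBit a)) = true := by decide +kernel

theorem star_v {a : ℕ} (ha : a ∈ [47, 44]) : v a ∈ Cfsg.Agent.KFacts.RgdCent.Star cs isType.isCartan (RGD.Pos cs isType.isCartan) := by
  have ha' : a < 48 := by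
    simp only [List.mem_cons, List.not_mem_nil, or_false] at ha
    rcases ha with rfl | rfl <;> norm_num
  refine ⟨isRoot_v cs ha', fun x hx => ?_⟩
  obtain ⟨c, hc, rfl⟩ := exists_v cs hx.1
  have h1 := List.all_eq_true.1 (List.all_eq_true.1 starChk a ha) c (List.mem_range.2 hc)
  have h2 := (mem_pos_iff cs hc).1 hx
  rw [Bool.or_eq_true, decide_eq_true_eq] at h1
  exact (testBit_nn cs hc ha').1 (h1.resolve_left (by omega))

theorem dom_F : Cfsg.Agent.KFacts.RgdCent.Star cs isType.isCartan (RGD.Pos cs isType.isCartan) ⊆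
    ({v 47, v 44} : Set (Fin 4 → ℤ)) := by
  intro x hx
  obtain ⟨a, ha, rfl⟩ := exists_v cs hx.1
  have h1 := List.all_eq_true.1 domChk a (List.mem_range.2 ha)
  rw [Bool.or_eq_true, decide_eq_true_eq] at h1
  rcases h1 with (rfl | rfl) | h1
  · exact Or.inl rfl
  · exact Or.inr rfl
  · exfalso
    have h2 : ((List.range 48).all fun c => decide (c < 24) || (nn c).testBit a) = true := by
      rw [List.all_eq_true]
      intro c hc
      rw [List.mem_range] at hc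
      rw [Bool.or_eq_true, decide_eq_true_eq]
      by_cases h3 : c < 24
      · exact Or.inl h3
      · exact Or.inr ((testBit_nn cs hc ha).2 (hx.2 _ ((mem_pos_iff cs hc).2 (by omega))))
    rw [h2] at h1
    exact absurd h1 (by decide)

/-- the indices of the simple roots -/
def sI : Fin 4 → ℕ := ![33, 27, 25, 24]

theorem sI_lt (k : Fin 4) : sI k < 48 := by fin_cases k <;> decide

theorem v_sI (k : Fin 4) : v (sI k) = sr k := by
  obtain ⟨s0, s1, s2, s3, -⟩ := simples_ok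
  fin_cases k
  · show v 33 = sr 0
    rw [← s0]; exact v_simple 0
  · show v 27 = sr 1
    rw [← s1]; exact v_simple 1
  · show v 25 = sr 2
    rw [← s2]; exact v_simple 2
  · show v 24 = sr 3
    rw [← s3]; exact v_simple 3

theorem fixChk : (∀ k : Fin 4, k ≠ 3 → (nn (sI k)).testBit 47 = true ∧ (pp (sI k)).testBit 47 = false) ∧
    (∀ k : Fin 4, k ≠ 0 → (nn (sI k)).testBit 44 = true ∧ (pp (sI k)).testBit 44 = false) := by decide +kernel

theorem pairing_v (cs : CoxeterSystem CoxeterMatrix.F₄ W) {a : ℕ} (ha : a < 48) {k : Fin 4}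
    (h1 : (nn (sI k)).testBit a = true) (h2 : (pp (sI k)).testBit a = false) :
    pairing (cartanOf chevF4 4) k (v a) = 0 := by
  rw [← cpr_sr cs (h := isType.isCartan), ← v_sI]
  have h3 := (testBit_nn cs (sI_lt k) ha).1 h1
  have h4 : ¬ 1 ≤ cpr cs isType.isCartan (v a) (v (sI k)) := fun h => by
    rw [(testBit_pp cs (sI_lt k) ha).2 h] at h2
    exact absurd h2 (by decide)
  omega

theorem ne_sr {a : ℕ} (ha : a < 48) (h : ∀ k, a ≠ sI k) (k : Fin 4) : v a ≠ sr k := by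
  rw [← v_sI]
  exact fun h1 => h k (v_inj ha (sI_lt k) h1)

theorem ne47 : ∀ k, 47 ≠ sI k := by decide

theorem ne44 : ∀ k, 44 ≠ sI k := by decide

/-- **Type `F₄`.** -/
theorem two_F (cs : CoxeterSystem CoxeterMatrix.F₄ W) : Two cs isType.isCartan (v 47) (v 44) 3 0 :=
  two_mk (star_v (a := 47) (by simp)) (star_v (a := 44) (by simp)) dom_F (fun h => by
    have := v_inj (by norm_num) (by norm_num) h
    omega) (by decide)
    (fun k hk => pairing_v cs (by norm_num) (fixChk.1 k hk).1 (fixChk.1 k hk).2)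
    (fun k hk => pairing_v cs (by norm_num) (fixChk.2 k hk).1 (fixChk.2 k hk).2)
    (ne_sr (by norm_num) ne47 3) (ne_sr (by norm_num) ne44 0)

end Cfsg.Agent.Omega.HOneEnd.TwoInst

end

-- merged: Cfsg.Agent.Mrg.Omega.HOneEnd.TwoInst
section

/-!
# LeafH1, END: the inputs of `SysID` for `PSp_{2m}(q)`, `m ≥ 3`, and `F₄(q)`, `q` even (helper368)

`Inp` : the hypotheses `sup`, `cent`, `two`, `conn`; `inp_C` (with `SysSp.sys_PSp`), `inp_F` (with `F4Pair.sysF`).
-/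

set_option autoImplicit false
set_option linter.unusedSectionVars false
set_option Elab.async false

namespace Cfsg.Agent.Omega.HOneEnd.TwoInst

open CoxeterSystem Cfsg.Agent.ChevalleyStructure.CoxeterGeom Cfsg.Agent.Tits.Roots Cfsg.Agent.Tits.Core
open Cfsg.Lie Cfsg.Agent.Nodes.BNOf Cfsg.Agent.Nodes.Coroot Cfsg.Agent.KFacts.RgdCent
  Cfsg.Agent.Nodes.RGDChev Cfsg.Agent.TitsThree Cfsg.Agent.Nodes
open Cfsg.Agent.KFacts.SysSp (sys_PSp sup_eq_top_PSp noCent_PSp conn_B eSp)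
open Cfsg.Agent.KFacts.F4Pair (XF eF sysF)
open Cfsg.Agent.KFacts.F4Cent (v)
open Cfsg.Agent.Nodes.KindF (isType)
open Cfsg.Agent.Omega.HOneEnd.SysID

/-- The hypotheses of `SysID` on the root group datum. -/
structure Inp {I W Y : Type*} [Fintype I] [DecidableEq I] [Group W] [Group Y] {M : CoxeterMatrix I}
    (cs : CoxeterSystem M W) {A : I → I → ℤ} (h : IsCartan M A) (T : Subgroup Y) (X : (I → ℤ) → Subgroup Y)
    (ρ σ : I → ℤ) (i j : I) : Prop where
  sup : RGD.Sup X {x | IsRoot cs h x} = ⊤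
  cent : NoCent cs h T X
  two : Two cs h ρ σ i j
  conn : ∀ J : Set I, J.Nonempty → J ≠ Set.univ → ∃ a ∈ J, ∃ b, b ∉ J ∧ M a b ≠ 2

/-- **`PSp_{2m}(q)`, `m ≥ 3`**: `Sys` is `sys_PSp m F cs`. -/
theorem inp_C {m : ℕ} (hm : 3 ≤ m) (F : Type*) [Field F] [CharP F 2] {W : Type*} [Group W] [Finite W]
    (cs : CoxeterSystem (CoxeterMatrix.B m) W) :
    Inp cs (TypeC.isCartan m) (WittModel.T (KInstSp.model m F)) (WittModel.X (KInstSp.model m F)) (rhoC hm) (sigC hm)
      ⟨1, by omega⟩ ⟨0, by omega⟩ where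
  sup := sup_eq_top_PSp (by omega) F cs
  cent := noCent_PSp m F cs
  two := two_C hm
  conn := conn_B m

/-- **`F₄(q)`**: `Sys` is `sysF cs`. -/
theorem inp_F (K : Type*) [Field K] [Finite K] [CharP K 2] {W : Type*} [Group W] [Finite W]
    (cs : CoxeterSystem CoxeterMatrix.F₄ W) :
    Inp cs isType.isCartan (Cfsg.Agent.KFacts.F4Torus.TF K) (XF K) (v 47) (v 44) 3 0 where
  sup := G1_eq_top isType cs
  cent := Cfsg.Agent.KFacts.F4Aut.noCent cs
  two := two_F cs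
  conn := Cfsg.Agent.KFacts.RgdGraphF4.hconn_F4

end Cfsg.Agent.Omega.HOneEnd.TwoInst

end
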